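/- Diagram symmetries of abstract root data: the fixed subgroup of the Weyl group is generated by
the longest elements of the orbits, coset decomposition, exchange data. -/
import Cfsg.Agent.H68.RDLen
import Cfsg.Agent.H67.Exch

set_option autoImplicit false
set_option linter.unusedSectionVars false

namespace H68

/-- A permutation `ρ` of the roots induced by a symmetry `π` of the diagram, with orbit map `orb`. -/
structure Tw {R ι : Type} [Fintype R] [DecidableEq R] [Fintype ι] [DecidableEq ι] (D : RD R ι)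
    (Ω : Type) where
  ρ : Equiv.Perm R
  π : Equiv.Perm ι
  orb : ι → Ω
  ρ_sim : ∀ i, ρ (D.sim i) = D.sim (π i)
  ρ_pos : ∀ r, D.pos (ρ r) ↔ D.pos r
  ρ_s : ∀ i r, ρ (D.s i r) = D.s (π i) (ρ r)
  orb_π : ∀ i, orb (π i) = orb i
  orb_eq : ∀ i j, orb i = orb j → j = i ∨ j = π i ∨ j = π (π i)
  orb_surj : Function.Surjective orb

namespace Tw

open RD

variable {R ι : Type} [Fintype R] [DecidableEq R] [Fintype ι] [DecidableEq ι] {D : RD R ι}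
  {Ω : Type} (τ : Tw D Ω)

/-- the union of a set of orbits -/
def J (I : Set Ω) : Set ι := τ.orb ⁻¹' I

/-- the fixed subgroup of the parabolic subgroup -/
def WI (I : Set Ω) : Subgroup (Equiv.Perm R) := D.WJ (τ.J I) ⊓ Subgroup.centralizer {τ.ρ}

/-- the fixed subgroup of the Weyl group -/
def Wf : Subgroup (Equiv.Perm R) := τ.WI Set.univ

/-- the longest element attached to an orbit -/
noncomputable def wo (o : Ω) : Equiv.Perm R := D.w0 (τ.J {o})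

variable {τ}

@[simp] theorem mem_J {I : Set Ω} {i : ι} : i ∈ τ.J I ↔ τ.orb i ∈ I := Iff.rfl

@[simp] theorem J_univ : τ.J Set.univ = Set.univ := rfl

theorem J_mono {I I' : Set Ω} (h : I ⊆ I') : τ.J I ⊆ τ.J I' := Set.preimage_mono h

theorem J_nonempty {I : Set Ω} (h : I.Nonempty) : (τ.J I).Nonempty := by
  obtain ⟨o, ho⟩ := h
  obtain ⟨i, rfl⟩ := τ.orb_surj o
  exact ⟨i, ho⟩

theorem mem_WI {I : Set Ω} {w : Equiv.Perm R} :
    w ∈ τ.WI I ↔ w ∈ D.WJ (τ.J I) ∧ τ.ρ * w = w * τ.ρ := by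
  simp [WI, Subgroup.mem_centralizer_singleton_iff, eq_comm]

theorem mem_Wf {w : Equiv.Perm R} : w ∈ τ.Wf ↔ w ∈ D.W ∧ τ.ρ * w = w * τ.ρ := mem_WI

theorem WI_mono {I I' : Set Ω} (h : I ⊆ I') : τ.WI I ≤ τ.WI I' :=
  inf_le_inf_right _ (WJ_mono (J_mono h))

theorem WI_le_Wf (I : Set Ω) : τ.WI I ≤ τ.Wf := WI_mono (Set.subset_univ I)

theorem WI_le_W (I : Set Ω) : τ.WI I ≤ D.W := inf_le_left.trans (WJ_le_W _)

theorem Wf_le_W : τ.Wf ≤ D.W := WI_le_W _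

theorem conj_s (i : ι) : τ.ρ * D.s i * τ.ρ⁻¹ = D.s (τ.π i) := by
  ext r
  simp [τ.ρ_s]

theorem conj_mem_WJ {I : Set Ω} {w : Equiv.Perm R} (hw : w ∈ D.WJ (τ.J I)) :
    τ.ρ * w * τ.ρ⁻¹ ∈ D.WJ (τ.J I) := by
  refine WJ_induction (p := fun w => τ.ρ * w * τ.ρ⁻¹ ∈ D.WJ (τ.J I)) (by simp) ?_ hw
  intro w _ i hi ih
  have : τ.ρ * (w * D.s i) * τ.ρ⁻¹ = (τ.ρ * w * τ.ρ⁻¹) * (τ.ρ * D.s i * τ.ρ⁻¹) := by group
  rw [this, conj_s]
  exact mul_mem ih (s_mem_WJ (by simpa [τ.orb_π] using hi))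

theorem w0_mem_WI (I : Set Ω) : D.w0 (τ.J I) ∈ τ.WI I := by
  refine mem_WI.2 ⟨w0_mem _, ?_⟩
  rw [← mul_inv_eq_iff_eq_mul]
  refine eq_w0 (conj_mem_WJ (w0_mem _)) fun i hi => ?_
  obtain ⟨j, rfl⟩ := τ.π.surjective i
  rw [← τ.ρ_sim]
  simp only [Equiv.Perm.mul_apply, Equiv.Perm.coe_inv, Equiv.symm_apply_apply, τ.ρ_pos]
  exact w0_sim (by simpa [τ.orb_π] using hi)

theorem wo_mem {I : Set Ω} {o : Ω} (ho : o ∈ I) : τ.wo o ∈ τ.WI I :=
  WI_mono (Set.singleton_subset_iff.2 ho) (w0_mem_WI _)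

theorem wo_mem_Wf (o : Ω) : τ.wo o ∈ τ.Wf := wo_mem (Set.mem_univ o)

theorem wo_mem_W (o : Ω) : τ.wo o ∈ D.W := w0_mem_W _

@[simp] theorem wo_mul_wo (o : Ω) : τ.wo o * τ.wo o = 1 := w0_mul_w0 _

@[simp] theorem wo_inv (o : Ω) : (τ.wo o)⁻¹ = τ.wo o := w0_inv _

theorem wo_ne_one (o : Ω) : τ.wo o ≠ 1 := w0_ne_one (J_nonempty (Set.singleton_nonempty o))

theorem len_wo_pos (o : Ω) : 0 < D.len (τ.wo o) := len_w0_pos (J_nonempty (Set.singleton_nonempty o))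

theorem apply_ρ {w : Equiv.Perm R} (hw : w ∈ τ.Wf) (r : R) : w (τ.ρ r) = τ.ρ (w r) := by
  rw [← Equiv.Perm.mul_apply, ← (mem_Wf.1 hw).2, Equiv.Perm.mul_apply]

theorem pos_sim_π {w : Equiv.Perm R} (hw : w ∈ τ.Wf) (i : ι) :
    D.pos (w (D.sim (τ.π i))) ↔ D.pos (w (D.sim i)) := by
  rw [← τ.ρ_sim, apply_ρ hw, τ.ρ_pos]

theorem pos_sim_orb {w : Equiv.Perm R} (hw : w ∈ τ.Wf) {i j : ι} (h : τ.orb i = τ.orb j) :
    D.pos (w (D.sim i)) ↔ D.pos (w (D.sim j)) := by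
  rcases τ.orb_eq i j h with rfl | rfl | rfl
  · rfl
  · rw [pos_sim_π hw]
  · rw [pos_sim_π hw, pos_sim_π hw]

/-- `w` keeps the simple roots of the orbit `o` positive -/
def Asc (τ : Tw D Ω) (w : Equiv.Perm R) (o : Ω) : Prop := ∀ i ∈ τ.J {o}, D.pos (w (D.sim i))

theorem not_asc {w : Equiv.Perm R} (hw : w ∈ τ.Wf) {o : Ω} (h : ¬ τ.Asc w o) :
    ∀ i ∈ τ.J {o}, ¬ D.pos (w (D.sim i)) := by
  intro i hi hp
  refine h fun j hj => (pos_sim_orb hw ?_).1 hp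
  rw [mem_J, Set.mem_singleton_iff] at hi hj
  rw [hi, hj]

theorem asc_mul_wo {w : Equiv.Perm R} (hw : w ∈ τ.Wf) {o : Ω} (h : ¬ τ.Asc w o) :
    τ.Asc (w * τ.wo o) o := pos_mul_w0 (Wf_le_W hw) (not_asc hw h)

theorem len_mul_wo {w : Equiv.Perm R} (hw : w ∈ τ.Wf) {o : Ω} (h : τ.Asc w o) :
    D.len (w * τ.wo o) = D.len w + D.len (τ.wo o) := len_mul_WJ (Wf_le_W hw) (w0_mem _) h

theorem not_asc_mul_wo {w : Equiv.Perm R} (hw : w ∈ τ.Wf) {o : Ω} (h : τ.Asc w o) :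
    ¬ τ.Asc (w * τ.wo o) o := by
  intro hc
  have h1 := len_mul_wo hw h
  have h2 := len_mul_wo (mul_mem hw (wo_mem_Wf o)) hc
  rw [mul_assoc, wo_mul_wo, mul_one] at h2
  have := len_wo_pos (τ := τ) o
  omega

theorem exists_not_asc {I : Set Ω} {w : Equiv.Perm R} (hw : w ∈ τ.WI I) (h1 : w ≠ 1) :
    ∃ o ∈ I, ¬ τ.Asc w o := by
  obtain ⟨i, hi, h⟩ := exists_not_pos (mem_WI.1 hw).1 h1
  exact ⟨τ.orb i, hi, fun hc => h (hc i rfl)⟩

theorem WI_induction {I : Set Ω} {p : Equiv.Perm R → Prop} (h1 : p 1)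
    (hmul : ∀ w ∈ τ.WI I, ∀ o ∈ I, τ.Asc w o → p w → p (w * τ.wo o)) {w : Equiv.Perm R}
    (hw : w ∈ τ.WI I) : p w := by
  induction hn : D.len w using Nat.strong_induction_on generalizing w with
  | _ n ih =>
    by_cases h : w = 1
    · rw [h]; exact h1
    obtain ⟨o, ho, hna⟩ := exists_not_asc hw h
    have ha := asc_mul_wo (WI_le_Wf I hw) hna
    have hw' : w * τ.wo o ∈ τ.WI I := mul_mem hw (wo_mem ho)
    have hl := len_mul_wo (WI_le_Wf I hw') ha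
    have := hmul _ hw' o ho ha (ih _ (by
      have := len_wo_pos (τ := τ) o
      rw [mul_assoc, wo_mul_wo, mul_one] at hl
      omega) hw' rfl)
    rwa [mul_assoc, wo_mul_wo, mul_one] at this

theorem WI_eq_closure (I : Set Ω) : τ.WI I = Subgroup.closure (τ.wo '' I) := by
  apply le_antisymm
  · intro w hw
    refine WI_induction (p := fun w => w ∈ Subgroup.closure (τ.wo '' I)) (one_mem _) ?_ hw
    intro w _ o ho _ ih
    exact mul_mem ih (Subgroup.subset_closure ⟨o, ho, rfl⟩)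
  · rw [Subgroup.closure_le]
    rintro _ ⟨o, ho, rfl⟩
    exact wo_mem ho

theorem eq_one_or_wo {o : Ω} {w : Equiv.Perm R} (hw : w ∈ τ.WI {o}) : w = 1 ∨ w = τ.wo o := by
  by_cases h : w = 1
  · exact Or.inl h
  obtain ⟨o', ho', hna⟩ := exists_not_asc hw h
  rw [Set.mem_singleton_iff] at ho'
  subst ho'
  exact Or.inr (eq_w0 (mem_WI.1 hw).1 (not_asc (WI_le_Wf _ hw) hna))

theorem eq_w0_of_not_asc {I : Set Ω} {w : Equiv.Perm R} (hw : w ∈ τ.WI I)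
    (h : ∀ o ∈ I, ¬ τ.Asc w o) : w = D.w0 (τ.J I) :=
  eq_w0 (mem_WI.1 hw).1 fun i hi => not_asc (WI_le_Wf _ hw) (h _ hi) i rfl

theorem not_asc_w0 {I : Set Ω} {o : Ω} (ho : o ∈ I) : ¬ τ.Asc (D.w0 (τ.J I)) o := by
  obtain ⟨i, rfl⟩ := τ.orb_surj o
  exact fun h => w0_sim (J := τ.J I) (i := i) ho (h i rfl)

theorem inJ_ρ {I : Set Ω} {r : R} : D.inJ (τ.J I) (τ.ρ r) ↔ D.inJ (τ.J I) r := by
  have hw := WI_le_Wf I (w0_mem_WI (τ := τ) I)
  have key : ∀ r, D.inJ (τ.J I) r ↔ (D.pos (D.w0 (τ.J I) r) ↔ ¬ D.pos r) := by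
    intro r
    refine ⟨fun h => pos_w0 h, fun h => ?_⟩
    by_contra hc
    rw [pos_apply_of_not_inJ (w0_mem _) hc] at h
    tauto
  rw [key, key, apply_ρ hw, τ.ρ_pos, τ.ρ_pos]

/-- existence of the coset decomposition -/
theorem exists_decomp {I I' : Set Ω} (hI : I ⊆ I') {w : Equiv.Perm R} (hw : w ∈ τ.WI I') :
    ∃ d ∈ τ.WI I', (∀ o ∈ I, τ.Asc d o) ∧ ∃ v ∈ τ.WI I, w = d * v := by
  induction hn : D.len w using Nat.strong_induction_on generalizing w with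
  | _ n ih =>
    by_cases h : ∀ o ∈ I, τ.Asc w o
    · exact ⟨w, hw, h, 1, one_mem _, (mul_one w).symm⟩
    push Not at h
    obtain ⟨o, ho, hna⟩ := h
    have ha := asc_mul_wo (WI_le_Wf I' hw) hna
    have hw' : w * τ.wo o ∈ τ.WI I' := mul_mem hw (wo_mem (hI ho))
    have hl := len_mul_wo (WI_le_Wf I' hw') ha
    obtain ⟨d, hd, hda, v, hv, e⟩ := ih _ (by
      have := len_wo_pos (τ := τ) o
      rw [mul_assoc, wo_mul_wo, mul_one] at hl
      omega) hw' rfl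
    refine ⟨d, hd, hda, v * τ.wo o, mul_mem hv (wo_mem ho), ?_⟩
    rw [← mul_assoc, ← e, mul_assoc, wo_mul_wo, mul_one]

theorem asc_J {I : Set Ω} {d : Equiv.Perm R} (h : ∀ o ∈ I, τ.Asc d o) :
    ∀ i ∈ τ.J I, D.pos (d (D.sim i)) := fun i hi => h _ hi i rfl

/-- uniqueness of the coset decomposition -/
theorem decomp_unique {I : Set Ω} {d d' v v' : Equiv.Perm R} (hd' : d' ∈ τ.Wf)
    (ha : ∀ o ∈ I, τ.Asc d o) (ha' : ∀ o ∈ I, τ.Asc d' o) (hv : v ∈ τ.WI I) (hv' : v' ∈ τ.WI I)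
    (e : d * v = d' * v') : d = d' ∧ v = v' := by
  have h1 : d = d' * (v' * v⁻¹) := by rw [← mul_assoc, ← e]; simp
  have hu : v' * v⁻¹ ∈ τ.WI I := mul_mem hv' (inv_mem hv)
  have h2 : v' * v⁻¹ = 1 := by
    by_contra hc
    obtain ⟨i, hi, hn⟩ := exists_not_pos (mem_WI.1 hu).1 hc
    have := mul_cond (Wf_le_W hd') (mem_WI.1 hu).1 (asc_J ha') _ (pos_sim i) hn
    apply this
    rw [← Equiv.Perm.mul_apply, ← h1]
    exact asc_J ha i hi
  rw [h2, mul_one] at h1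
  exact ⟨h1, (mul_inv_eq_one.1 h2).symm⟩

theorem co_conj {J J' : Set ι} {w : Equiv.Perm R} (hw : w ∈ D.W)
    (h : ∀ i ∈ J, D.inJ J' (w (D.sim i))) {u : Equiv.Perm R} (hu : u ∈ D.WJ J) {k : ι}
    (hk : k ∉ J') (r : R) : D.co ((w * u * w⁻¹) r) k = D.co r k := by
  revert r
  refine WJ_induction (p := fun u => ∀ r, D.co ((w * u * w⁻¹) r) k = D.co r k)
    (fun r => by simp) ?_ hu
  intro u _ i hi ih r
  have e : (w * (u * D.s i) * w⁻¹) r = (w * u * w⁻¹) (w (D.s i (w⁻¹ r))) := by simp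
  rw [e, ih, co_apply hw]
  have e2 : D.co r k = D.co (w (w⁻¹ r)) k := by simp
  rw [e2, co_apply hw (w⁻¹ r)]
  refine Finset.sum_congr rfl fun j _ => ?_
  rw [D.co_s]
  split_ifs with hj
  · subst hj
    rw [h j hi k hk, mul_zero, mul_zero]
  · rw [sub_zero]

theorem exch_aux {w : Equiv.Perm R} (hw : w ∈ τ.Wf) {o o' : Ω} (h1 : τ.Asc w o)
    (h2 : ¬ τ.Asc (τ.wo o' * w) o) : w * τ.wo o = τ.wo o' * w := by
  have h3 : ∀ i ∈ τ.J {o}, D.inJ (τ.J {o'}) (w (D.sim i)) := fun i hi =>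
    inJ_of_inv (w0_mem _) (h1 i hi) (not_asc (mul_mem (wo_mem_Wf o') hw) h2 i hi)
  have hv : w * τ.wo o * w⁻¹ ∈ τ.Wf := mul_mem (mul_mem hw (wo_mem_Wf o)) (inv_mem hw)
  have h4 : w * τ.wo o * w⁻¹ ∈ D.WJ (τ.J {o'}) := by
    refine mem_WJ_of_inv (Wf_le_W hv) fun r hr k hk => ?_
    rw [mem_inv] at hr
    have e := co_conj (Wf_le_W hw) h3 (w0_mem (τ.J {o})) hk r
    have h5 := hr.1 k
    have h6 := not_pos_iff.1 hr.2 k
    unfold wo at h6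
    omega
  rcases eq_one_or_wo (mem_WI.2 ⟨h4, (mem_Wf.1 hv).2⟩) with h | h
  · exfalso
    apply wo_ne_one (τ := τ) o
    have : τ.wo o = w⁻¹ * (w * τ.wo o * w⁻¹) * w := by group
    rw [this, h]; simp
  · rw [← h]; simp

variable (τ) in
/-- the generators of the fixed Weyl group -/
noncomputable def gen (o : Ω) : τ.Wf := ⟨τ.wo o, wo_mem_Wf o⟩

@[simp] theorem gen_val (o : Ω) : (τ.gen o : Equiv.Perm R) = τ.wo o := rfl

theorem closure_gen : Subgroup.closure (Set.range τ.gen) = ⊤ := by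
  rw [eq_top_iff]
  rintro ⟨w, hw⟩ -
  have : ∃ x ∈ Subgroup.closure (Set.range τ.gen), (x : Equiv.Perm R) = w := by
    refine WI_induction (I := Set.univ)
      (p := fun w => ∃ x ∈ Subgroup.closure (Set.range τ.gen), (x : Equiv.Perm R) = w)
      ⟨1, one_mem _, rfl⟩ ?_ hw
    rintro w _ o _ _ ⟨x, hx, rfl⟩
    exact ⟨x * τ.gen o, mul_mem hx (Subgroup.subset_closure ⟨o, rfl⟩), rfl⟩
  obtain ⟨x, hx, rfl⟩ := this
  exact hx

theorem exch : H67.Exch τ.gen fun o => {w : τ.Wf | τ.Asc (w : Equiv.Perm R)⁻¹ o} := by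
  refine ⟨fun o => ?_, closure_gen, fun o i _ => ?_, fun o w hw hw' => ?_,
    fun o o' w hw hw' => ?_⟩
  · apply Subtype.ext
    rw [Subgroup.coe_mul, gen_val, wo_mul_wo, Subgroup.coe_one]
  · rw [Subgroup.coe_one, _root_.inv_one]
    exact pos_sim i
  · have hw2 : τ.Asc ((τ.gen o * w : τ.Wf) : Equiv.Perm R)⁻¹ o := hw'
    rw [Subgroup.coe_mul, mul_inv_rev, gen_val, wo_inv] at hw2
    exact not_asc_mul_wo (inv_mem w.2) hw hw2
  · have hw2 : ¬ τ.Asc ((w * τ.gen o' : τ.Wf) : Equiv.Perm R)⁻¹ o := hw'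
    rw [Subgroup.coe_mul, mul_inv_rev, gen_val, wo_inv] at hw2
    have := exch_aux (inv_mem w.2) hw hw2
    apply Subtype.ext
    rw [Subgroup.coe_mul, Subgroup.coe_mul, gen_val, gen_val]
    calc τ.wo o * w = w * ((w : Equiv.Perm R)⁻¹ * τ.wo o) * w := by group
      _ = w * τ.wo o' := by rw [this]; group

end Tw

end H68
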