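/- The triality graph automorphisms of type D4: tables. -/
import Cfsg.Agent.H68.SPerm

namespace H68

open Cfsg.Lie

/-- triality on the roots of D4 -/
def rhoD4 (r : ℕ) : ℕ :=
  [0, 1, 6, 2, 7, 10, 3, 8, 4, 9, 11, 5, 18, 12, 14, 19, 15, 20, 13, 16, 21, 17, 22, 23].getD r 0

/-- triality on the diagram -/
def piD4 (i : ℕ) : ℕ := [2, 1, 3, 0].getD i 0

/-- the signs of triality -/
def gamD4 (r : ℕ) : ℤ :=
  [1, 1, -1, 1, -1, 1, -1, 1, -1, 1, 1, 1, 1, 1, 1, -1, 1, -1, 1, -1, 1, -1, 1, 1].getD r 1

theorem graphD4 : GraphOK chevD4 rhoD4 piD4 gamD4 where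
  lt := by decide +kernel
  inj := by decide +kernel
  plt := by decide +kernel
  pinj := by decide +kernel
  pos := by decide +kernel
  sim := by decide +kernel
  refl := by decide +kernel
  neg := by decide +kernel
  sq := by decide +kernel
  gsim := by decide +kernel
  co := by decide +kernel
  ent := by decide +kernel

/-- the inverse triality on the roots of D4 -/
def rhoD4' (r : ℕ) : ℕ :=
  [0, 1, 3, 6, 8, 11, 2, 4, 7, 9, 5, 10, 13, 18, 14, 16, 19, 21, 12, 15, 17, 20, 22, 23].getD r 0

/-- the inverse triality on the diagram -/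
def piD4' (i : ℕ) : ℕ := [3, 1, 0, 2].getD i 0

/-- the signs of the inverse triality -/
def gamD4' (r : ℕ) : ℤ :=
  [1, 1, 1, -1, -1, 1, -1, -1, 1, 1, 1, 1, 1, 1, 1, 1, -1, -1, 1, -1, -1, 1, 1, 1].getD r 1

theorem graphD4' : GraphOK chevD4 rhoD4' piD4' gamD4' where
  lt := by decide +kernel
  inj := by decide +kernel
  plt := by decide +kernel
  pinj := by decide +kernel
  pos := by decide +kernel
  sim := by decide +kernel
  refl := by decide +kernel
  neg := by decide +kernel
  sq := by decide +kernel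
  gsim := by decide +kernel
  co := by decide +kernel
  ent := by decide +kernel

end H68
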