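/- The graph automorphism of type E6: tables. -/
import Cfsg.Agent.H68.SPerm

namespace H68

open Cfsg.Lie

/-- the symmetry on the roots of E6 -/
def rhoE6 (r : ℕ) : ℕ :=
  [0, 1, 2, 5, 16, 3, 6, 17, 8, 19, 22, 11, 26, 30, 33, 35, 4, 7, 18, 9, 20, 23, 10, 21, 24, 25, 12, 27,
    31, 34, 13, 28, 32, 14, 29, 15, 56, 42, 57, 39, 43, 58, 37, 40, 44, 59, 46, 47, 50, 61, 48, 51, 62,
    53, 64, 67, 36, 38, 41, 45, 60, 49, 52, 63, 54, 65, 68, 55, 66, 69, 70, 71].getD r 0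

/-- the symmetry of the diagram -/
def piE6 (i : ℕ) : ℕ := [5, 1, 4, 3, 2, 0].getD i 0

/-- the signs of the graph automorphism -/
def gamE6 (r : ℕ) : ℤ :=
  [1, 1, 1, 1, -1, 1, 1, -1, 1, -1, -1, 1, -1, 1, -1, 1, -1, -1, 1, -1, 1, 1, -1, 1, 1, 1, -1, 1, -1, 1,
    1, -1, 1, -1, 1, 1, 1, 1, -1, 1, -1, 1, 1, -1, 1, -1, 1, 1, 1, -1, 1, 1, -1, 1, -1, -1, 1, -1, 1, -1,
    1, -1, -1, 1, -1, 1, 1, -1, 1, 1, 1, 1].getD r 1

theorem graphE6 : GraphOK chevE6 rhoE6 piE6 gamE6 where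
  lt := by decide +kernel
  inj := by decide +kernel
  plt := by decide +kernel
  pinj := by decide +kernel
  pos := by decide +kernel
  sim := by decide +kernel
  refl := by decide +kernel
  neg := by decide +kernel
  sq := by decide +kernel
  gsim := by decide +kernel
  co := by decide +kernel
  ent := by decide +kernel

end H68
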