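/- Tower EA (S4546, S4577): the jobs. Proofs in `blueprints/EA.md`. -/
import Cfsg.Agent.H24.KbE
import Cfsg.Agent.H34.TameMaj

set_option autoImplicit false

open scoped MonoidAlgebra

namespace H68.EA

open Cfsg H34 H35 H39 H24.KB Subgroup

universe u

/-- The stabiliser of `u` in `I`. -/
abbrev Stb {P : Type*} [Group P] (I : Subgroup (MulAut P)) (u : P) : Subgroup (MulAut P) :=
  I ⊓ MulAction.stabilizer (MulAut P) u

/-- `P = Z × V`, where `I` fixes `Z` pointwise and acts on `V` without fixed points. -/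
structure Dec {P : Type*} [Group P] (I : Subgroup (MulAut P)) (Z V : Subgroup P) : Prop where
  fix : ∀ x, x ∈ Z ↔ ∀ α ∈ I, α x = x
  com : ∀ α ∈ I, ∀ x, α x * x⁻¹ ∈ V
  inf : Z ⊓ V = ⊥
  sup : Z ⊔ V = ⊤

/-- Moreover `V` is elementary and `I` is transitive on the non-identity elements of `V`. -/
structure Spl {P : Type*} [Group P] (I : Subgroup (MulAut P)) (Z V : Subgroup P) (u : P) :
    Prop extends Dec I Z V where
  mem : u ∈ V
  ne : u ≠ 1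
  sq : ∀ x ∈ V, x ^ 2 = 1
  tr : ∀ x ∈ V, x ≠ 1 → ∃ α ∈ I, α u = x
  st : Nat.card (Stb I u) ∣ 3

/-- All heights are zero. -/
def HZ {G : Type*} [Group G] (B : Set (IrrCharacter G)) : Prop :=
  ∀ χ ∈ B, blockHeight 2 B (χ : G → ℂ) = 0

/-! ### The even form -/

open Classical in
def JobQ2 : Prop := ∀ (G : Type u) [Group G] [Fintype G] (M : Ideal AlgInt) [M.IsMaximal]
  (Φ : G → ℂ), IsPModular 2 M → IsGeneralizedCharacter G Φ → (∀ x, 2 ∣ orderOf x → Φ x = 0) →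
    MemLocalIdeal M ((Nat.card G : ℂ)⁻¹ * ∑ s : G with s * s = 1, ∑ t : G with t * t = 1,
      Φ (s * t)) → MemLocalIdeal M (classInner Φ Φ)

open Classical in
def JobFrob : Prop := ∀ (G : Type u) [Group G] [Fintype G] (p : ℕ) (χ : G → ℂ), p.Prime →
  IsGeneralizedCharacter G χ → ∃ n : ℤ, ∑ x : G with ∃ k, orderOf x = p ^ k, χ x =
    (p : ℂ) ^ (Nat.card G).factorization p * n

/-- Virtual projective characters of a block with elementary defect group have even norm. -/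
def EV : Prop := ∀ (G : Type u) [Group G] [Fintype G] (M : Ideal AlgInt) [M.IsMaximal]
  (B : Set (IrrCharacter G)) (D : Subgroup G) (e : (F M)[G]) (h : BD 2 M B D e),
    (∀ x : D, x ^ 2 = 1) → D ≠ ⊥ → ∀ R : Finset D,
      (∀ t : SS 2 M B, ∃ i ∈ R, t.Cj (h.s i)) → ∀ w : IrrCharacter G → ℤ,
        (∀ v ∈ R, v ≠ 1 → ∀ χ ∈ bF B, ∑ ψ ∈ bF B, (h.s v).con χ ψ * w ψ = 0) →
          Even (∑ χ ∈ bF B, w χ)

def JobEV : Prop := JobQ2.{u} → JobFrob.{u} → EV.{u}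

/-! ### Numerical jobs -/

def JobN43 : Prop := ∀ (ι : Type u) (s : Finset ι) (h : ι → ℕ) (A : ι → ι → ℤ), Maj s h 8 A →
  (∀ i ∈ s, ∀ j ∈ s, A i j = A j i) → (∀ i ∈ s, ∀ j ∈ s, ∑ k ∈ s, A i k * A k j = 8 * A i j) →
    (∀ i ∈ s, A i i < 8) → (∀ i ∈ s, h i = 0 → A i i = 3) → ∑ i ∈ s, A i i = 24 →
      (∃ i ∈ s, h i = 0) →
        (∀ w : ι → ℤ, (∀ i ∈ s, ∑ j ∈ s, A i j * w j = 0) → Even (∑ i ∈ s, w i)) → s.card = 8

def JobN5 : Prop := ∀ (ι : Type u) (s : Finset ι) (a b c : ι → ℤ), ∑ i ∈ s, a i ^ 2 = 16 →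
  ∑ i ∈ s, a i * b i = 0 → ∑ i ∈ s, a i * c i = 0 → ∑ i ∈ s, b i * c i = 0 →
    (∀ i ∈ s, a i ≠ 0 ∧ b i ≠ 0 ∧ c i ≠ 0) → (∀ i ∈ s, a i ^ 2 + b i ^ 2 + c i ^ 2 < 16) →
    ∑ i ∈ s, b i ^ 2 = 16 → ∑ i ∈ s, c i ^ 2 = 16 →
    (∀ i ∈ s, ∀ j ∈ s, 4 ∣ a i * a j - b i * b j ∧ 4 ∣ a i * a j - c i * c j) →
    (∃ i ∈ s, Odd (a i)) → (∀ w : ι → ℤ, ∑ i ∈ s, a i * w i = 0 → ∑ i ∈ s, b i * w i = 0 →
      ∑ i ∈ s, c i * w i = 0 → Even (∑ i ∈ s, w i)) → ∀ i ∈ s, Odd (a i)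

def JobN9 : Prop := ∀ (ι : Type u) (s : Finset ι) (R : Bool → ι → ι → ℤ)
  (d : ι → ℤ), (∀ b, ∀ i ∈ s, ∀ j ∈ s, R b i j = R b j i) →
    (∀ b, ∀ i ∈ s, ∀ j ∈ s, ∑ k ∈ s, R b i k * R b k j = 4 * R b i j) →
    (∀ i ∈ s, ∀ j ∈ s, ∑ k ∈ s, R true i k * R false k j = d i * d j) →
    (∀ b, ∀ i ∈ s, ∑ k ∈ s, R b i k * d k = 4 * d i) → (∀ b, ∑ i ∈ s, R b i i = 16) →
    (∀ b, ∀ i ∈ s, d i ^ 2 < 4 * R b i i) → (∀ i ∈ s, d i ≠ 0) → ∑ i ∈ s, d i ^ 2 = 16 →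
      8 ≤ s.card → (∀ i ∈ s, Even (d i) → d i ^ 2 = 4 ∧ ∀ b, R b i i = 2) → ∀ i ∈ s, Odd (d i)

/-! ### Group theory -/

def JobGD : Prop := ∀ (P : Type u) [Group P] [Finite P] (I : Subgroup (MulAut P)),
  (∀ x y : P, x * y = y * x) → IsPGroup 2 P → Odd (Nat.card I) → ∃ Z V, Dec I Z V

def JobGW : Prop := ∀ (P : Type u) [Group P] [Finite P] (I : Subgroup (MulAut P))
  (Z V : Subgroup P), (∀ x y : P, x * y = y * x) → IsPGroup 2 P → Odd (Nat.card I) → Dec I Z V →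
    Nat.card V ≤ 8 → I = ⊥ ∨ ∃ u, Spl I Z V u ∧ (Nat.card V = 4 ∧ Nat.card I = 3 ∨ Nat.card V = 8)

def G46 : Prop := ∀ (P : Type u) [Group P] [Finite P] (I : Subgroup (MulAut P)) (n : ℕ), 2 ≤ n →
  Nonempty (P ≃* Multiplicative (ZMod (2 ^ n) × ZMod 2 × ZMod 2 × ZMod 2)) → Odd (Nat.card I) →
    (∀ x y : P, x * y = y * x) ∧ Nat.card P = 2 ^ (n + 3) ∧ (I = ⊥ ∨ ∃ Z V u, Spl I Z V u ∧
      (Nat.card V = 4 ∧ Nat.card I = 3 ∨ Nat.card V = 8 ∧ ∃ z, Z = zpowers z))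

def JobG46 : Prop := JobGD.{u} → JobGW.{u} → G46.{u}

def G16 : Prop := ∀ (P : Type u) [Group P] [Finite P] (I : Subgroup (MulAut P)),
  (∀ x y : P, x * y = y * x) → Nat.card P = 16 → Odd (Nat.card I) →
    I = ⊥ ∨ (∃ Z V u, Spl I Z V u ∧
      (Nat.card V = 4 ∧ Nat.card I = 3 ∨ Nat.card V = 8 ∧ ∃ z, Z = zpowers z)) ∨
      FreeOn I ∧ Nat.card I = 3 ∨ (∀ x : P, x ^ 2 = 1) ∧
        (Nat.card I = 9 ∨ FreeOn I ∧ (Nat.card I = 5 ∨ Nat.card I = 15))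

def JobG16 : Prop := JobGD.{u} → JobGW.{u} → G16.{u}

/-! ### Blocks -/

/-- The dominated block of a major subsection. -/
def JobQuo : Prop := ∀ (G : Type u) [Group G] [Fintype G] (p : ℕ) (M : Ideal AlgInt) [M.IsMaximal]
  (B : Set (IrrCharacter G)) (D : Subgroup G) (e : (F M)[G]) (h : BD p M B D e) (z : D),
    z ∈ center D → ∃ (Q : Type u) (_ : Group Q) (_ : Fintype Q) (c : Set (IrrCharacter Q))
      (E : Subgroup Q) (f : (F M)[Q]) (π : D →* E), BD p M c E f ∧ Qt π z ∧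
        Lifts π z (AI ⊤ D e) (AI ⊤ E f) ∧
        (∀ φ ∈ AI ⊤ D e, φ z = z → ∃ ψ ∈ AI ⊤ E f, ∀ x, π (φ x) = ψ (π x)) ∧
        blockRank p c = blockRank p (h.s z).b ∧
        ∀ v ∈ LB p (h.s z).b, ∃ w ∈ LB p c, QB p (h.s z).b v v = QB p c w w

def Lat : Prop := ∀ (G : Type u) [Group G] [Fintype G] (M : Ideal AlgInt) [M.IsMaximal]
  (B : Set (IrrCharacter G)) (D : Subgroup G) (e : (F M)[G]) (h : BD 2 M B D e) (v : D),
    Nat.card D = 8 → (∀ x : D, x ^ 2 = 1) → v ≠ 1 → blockRank 2 (h.s v).b = 3 →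
      ∀ (χ : IrrCharacter G) (n : ℤ), (n : ℂ) = 8 * (h.s v).con χ χ → Odd n → n % 8 = 3

def JobLat : Prop := JobQuo.{u} → Lat.{u}

/-- Elementary defect group of order eight, all involutions fused: eight characters. -/
def C8 : Prop := ∀ (G : Type u) [Group G] [Fintype G] (M : Ideal AlgInt) [M.IsMaximal]
  (B : Set (IrrCharacter G)) (D : Subgroup G) (e : (F M)[G]) (v : D), BD 2 M B D e →
    Nat.card D = 8 → (∀ x : D, x ^ 2 = 1) → v ≠ 1 → (∀ x : D, x ≠ 1 → ∃ α ∈ AI ⊤ D e, α v = x) →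
      Nat.card (Stb (AI ⊤ D e) v) ∣ 3 → blockRank 2 B + Nat.card (Stb (AI ⊤ D e) v) = 8

def JobC8 : Prop := EV.{u} → Lat.{u} → JobN43.{u} → C8.{u}

/-- The star construction with the linear characters of `D / V`. -/
def JobST : Prop := ∀ (G : Type u) [Group G] [Fintype G] (M : Ideal AlgInt) [M.IsMaximal]
  (B : Set (IrrCharacter G)) (D : Subgroup G) (e : (F M)[G]) (h : BD 2 M B D e)
  (Z V : Subgroup D) (v : D), (∀ x y : D, x * y = y * x) → Spl (AI ⊤ D e) Z V v →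
    (∀ z ∈ Z, blockRank 2 (h.s z).b = blockRank 2 B) ∧
      Nat.card B = Nat.card Z * (blockRank 2 B + Nat.card (Stb (AI ⊤ D e) v))

def V8 : Prop := ∀ (G : Type u) [Group G] [Fintype G] (M : Ideal AlgInt) [M.IsMaximal]
  (B : Set (IrrCharacter G)) (D : Subgroup G) (e : (F M)[G]) (V : Subgroup D) (z v : D),
    BD 2 M B D e → (∀ x y : D, x * y = y * x) → Spl (AI ⊤ D e) (zpowers z) V v → Nat.card V = 8 →
      Nat.card B = Nat.card D ∧ blockRank 2 B + Nat.card (Stb (AI ⊤ D e) v) = 8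

def JobV8 : Prop := JobQuo.{u} → C8.{u} → JobST.{u} → V8.{u}

def JobHZ : Prop := ∀ (G : Type u) [Group G] [Fintype G] (M : Ideal AlgInt) [M.IsMaximal]
  (B : Set (IrrCharacter G)) (D : Subgroup G) (e : (F M)[G]) (h : BD 2 M B D e) (v : D),
    v ∈ center D → v ^ 2 = 1 → blockRank 2 (h.s v).b ≤ 3 → Nat.card B = Nat.card D → HZ B

/-- The cases common to both statements. -/
def Com : Prop := ∀ (G : Type u) [Group G] [Fintype G] (M : Ideal AlgInt) [M.IsMaximal]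
  (B : Set (IrrCharacter G)) (D : Subgroup G) (e : (F M)[G]), BD 2 M B D e →
    (∀ x y : D, x * y = y * x) → (AI ⊤ D e = ⊥ ∨ ∃ Z V v, Spl (AI ⊤ D e) Z V v ∧
      (Nat.card V = 4 ∧ Nat.card (AI ⊤ D e) = 3 ∨ Nat.card V = 8 ∧ ∃ z, Z = zpowers z)) →
      Nat.card B = Nat.card D ∧ HZ B ∧
        (blockRank 2 B = 1 ∨ blockRank 2 B = 3 ∨ blockRank 2 B = 5 ∨ blockRank 2 B = 7)

def JobCom : Prop := JobST.{u} → V8.{u} → JobHZ.{u} → Com.{u}

def BF : Prop := ∀ (G : Type u) [Group G] [Fintype G] (M : Ideal AlgInt) [M.IsMaximal]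
  (B : Set (IrrCharacter G)) (D : Subgroup G) (e : (F M)[G]), BD 2 M B D e →
    (∀ x y : D, x * y = y * x) → Nat.card D = 16 → FreeOn (AI ⊤ D e) →
      (Nat.card (AI ⊤ D e) = 3 ∨ (∀ x : D, x ^ 2 = 1) ∧ Nat.card (AI ⊤ D e) = 15) → HZ B

def JobBF : Prop := EV.{u} → BF.{u}

def B5 : Prop := ∀ (G : Type u) [Group G] [Fintype G] (M : Ideal AlgInt) [M.IsMaximal]
  (B : Set (IrrCharacter G)) (D : Subgroup G) (e : (F M)[G]), BD 2 M B D e →
    Nat.card D = 16 → (∀ x : D, x ^ 2 = 1) → FreeOn (AI ⊤ D e) → Nat.card (AI ⊤ D e) = 5 → HZ B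

open Classical in
/-- A generalized character attached to an orbit of length five. -/
def JobG5 : Prop := ∀ (P : Type u) [Group P] [Finite P] (I : Subgroup (MulAut P)) (v : P),
  Nat.card P = 16 → (∀ x : P, x ^ 2 = 1) → FreeOn I → Nat.card I = 5 → v ≠ 1 →
    IsGeneralizedCharacter P fun x => if x = 1 then 4 else if ∃ α ∈ I, α v = x then -4 else 0

def JobB5 : Prop := EV.{u} → JobN5.{u} → JobG5.{u} → B5.{u}

def B9 : Prop := ∀ (G : Type u) [Group G] [Fintype G] (M : Ideal AlgInt) [M.IsMaximal]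
  (B : Set (IrrCharacter G)) (D : Subgroup G) (e : (F M)[G]), BD 2 M B D e →
    Nat.card D = 16 → (∀ x : D, x ^ 2 = 1) → Nat.card (AI ⊤ D e) = 9 → HZ B

def JobB9 : Prop := JobN9.{u} → B9.{u}

/-- Fusion of central elements of the defect group. -/
def JobCF : Prop := ∀ (G : Type u) [Group G] [Fintype G] (p : ℕ) (M : Ideal AlgInt) [M.IsMaximal]
  (B : Set (IrrCharacter G)) (D : Subgroup G) (e : (F M)[G]) (h : BD p M B D e) (z w : D),
    z ∈ center D → w ∈ center D → (h.s z).Cj (h.s w) → ∃ α : MulAut D, α z = w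

def NA : Prop := ∀ (G : Type u) [Group G] [Fintype G] (M : Ideal AlgInt) [M.IsMaximal]
  (B : Set (IrrCharacter G)) (D : Subgroup G) (e : (F M)[G]), BD 2 M B D e → Nat.card D = 16 →
    (∃ x y : D, x * y ≠ y * x) → ∀ χ ∈ B,
      blockHeight 2 B (χ : G → ℂ) < (center D).index.factorization 2

/-- Non-abelian groups of order sixteen. -/
def JobGN : Prop := ∀ (P : Type u) [Group P], Nat.card P = 16 → (∃ x y : P, x * y ≠ y * x) →
  ∃ z ∈ center P, z ≠ 1 ∧ z ^ 2 = 1 ∧ ((center P).index = 8 ∨ (center P).index = 4 ∧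
    ∃ w ∈ center P, w ≠ 1 ∧ ∀ α : MulAut P, α z ≠ w)

def JobNA : Prop := JobCF.{u} → JobGN.{u} → NA.{u}

theorem odd_AI {G : Type u} [Group G] [Fintype G] {M : Ideal AlgInt} [M.IsMaximal]
    {B : Set (IrrCharacter G)} {D : Subgroup G} {e : (F M)[G]} (h : BD 2 M B D e)
    (hc : ∀ x y : D, x * y = y * x) : Odd (Nat.card (AI ⊤ D e)) :=
  Nat.not_even_iff_odd.1 fun h1 =>
    (ax h.hM).cop _ ⟨G, _, _, B, D, e, h, rfl⟩ hc (even_iff_two_dvd.1 h1)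

theorem s4546 (h1 : G46.{u}) (h2 : Com.{u}) {G : Type u} [Group G] [Finite G] (M : Ideal AlgInt)
    (hM : IsPModular 2 M) (B : Set (IrrCharacter G)) (hB : IsPBlock M B) (D : Subgroup G)
    (hD : IsDefectGroup 2 M B D) (n : ℕ) (hn : 2 ≤ n)
    (hiso : Nonempty (D ≃* Multiplicative (ZMod (2 ^ n) × ZMod 2 × ZMod 2 × ZMod 2))) :
    Nat.card B = 2 ^ (n + 3) ∧ (∀ χ ∈ B, blockHeight 2 B (χ : G → ℂ) = 0) ∧
      (blockRank 2 B = 1 ∨ blockRank 2 B = 3 ∨ blockRank 2 B = 5 ∨ blockRank 2 B = 7) := by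
  have := hM.2.1
  have := Fintype.ofFinite G
  obtain ⟨e, h⟩ := exists_bd hM hB hD
  have hc := (h1 D ⊥ n hn hiso (by simp)).1
  obtain ⟨-, h3, h4⟩ := h1 D _ n hn hiso (odd_AI h hc)
  exact h3 ▸ h2 G M B D e h hc h4

theorem s4577 (h1 : G16.{u}) (h2 : Com.{u}) (h3 : BF.{u}) (h4 : B5.{u}) (h5 : B9.{u}) (h6 : NA.{u})
    {G : Type u} [Group G] [Finite G] (M : Ideal AlgInt) (hM : IsPModular 2 M)
    (B : Set (IrrCharacter G)) (hB : IsPBlock M B) (D : Subgroup G) (hD : IsDefectGroup 2 M B D)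
    (h16 : Nat.card D = 16) (χ : IrrCharacter G) (hχ : χ ∈ B) :
    blockHeight 2 B (χ : G → ℂ) ≤ ((center D).index).factorization 2 ∧
      (blockHeight 2 B (χ : G → ℂ) = ((center D).index).factorization 2 ↔ IsMulCommutative D) := by
  have := hM.2.1
  have := Fintype.ofFinite G
  obtain ⟨e, h⟩ := exists_bd hM hB hD
  by_cases hc : ∀ x y : D, x * y = y * x
  · have h7 : HZ B := by
      rcases h1 D _ hc h16 (odd_AI h hc) with h7 | h7 | ⟨h7, h8⟩ | ⟨h7, h8 | ⟨h8, h9 | h9⟩⟩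
      · exact (h2 G M B D e h hc (.inl h7)).2.1
      · exact (h2 G M B D e h hc (.inr h7)).2.1
      · exact h3 G M B D e h hc h16 h7 (.inl h8)
      · exact h5 G M B D e h h16 h7 h8
      · exact h4 G M B D e h h16 h7 h8 h9
      · exact h3 G M B D e h hc h16 h8 (.inr ⟨h7, h9⟩)
    have h8 : center D = ⊤ := eq_top_iff.2 fun x _ => mem_center_iff.2 fun y => hc y x
    rw [h7 χ hχ, h8, index_top]
    exact ⟨by simp, fun _ => ⟨⟨hc⟩⟩, fun _ => by simp⟩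
  · push Not at hc
    have h7 := h6 G M B D e h h16 hc χ hχ
    obtain ⟨x, y, hxy⟩ := hc
    exact ⟨h7.le, fun h8 => absurd h8 h7.ne, fun h8 => absurd (h8.1.1 x y) hxy⟩

end H68.EA
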