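import Cfsg.Agent.H14.CBSpec
import Cfsg.Agent.H14.FEKit

/-! The centraliser of the second point of a special pair is elementary. -/

set_option autoImplicit false

namespace H68.CbS1

open Cfsg Subgroup MulAction H14 H98 H1.Gold H31.S2 H14.GC H14.FE H14.NF H14.CB
open scoped commutatorElement

universe u

variable {G : Type u} [Group G]

theorem sq_left {a b : G} (h : a * ⁅a, b⁆ = ⁅a, b⁆ * a) : ⁅a * a, b⁆ = ⁅a, b⁆ * ⁅a, b⁆ := by
  have : ⁅a * a, b⁆ = a * ⁅a, b⁆ * a⁻¹ * ⁅a, b⁆ := by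
    simp only [commutatorElement_def]
    group
  rw [this, h, mul_inv_cancel_right]

theorem sq_right {a b : G} (h : b * ⁅a, b⁆ = ⁅a, b⁆ * b) : ⁅a, b * b⁆ = ⁅a, b⁆ * ⁅a, b⁆ := by
  have : ⁅a, b * b⁆ = ⁅a, b⁆ * (b * ⁅a, b⁆ * b⁻¹) := by
    simp only [commutatorElement_def]
    group
  rw [this, h, mul_inv_cancel_right]

theorem pt_facts {Q E Q₁ T : Subgroup G} (tg : TG Q E) (h : Pt Q E Q₁ T) :
    El T ∧ T ≤ Q₁ ∧ (∃ t ∈ T, t ≠ 1) ∧ (∀ t ∈ T, t ≠ 1 → cen1 t ≤ nor Q₁) ∧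
      (Q ≠ Q₁ → ∀ x ∈ E, x ∈ Q₁ → x = 1) := by
  obtain ⟨g, rfl, rfl⟩ := h
  have el : El (cj g E) := by
    rintro _ ⟨a, ha, rfl⟩
    rw [← map_mul, tg.el a ha, map_one]
  refine ⟨el, cj_mono g tg.le, ?_, fun t ht h1 => tg.cen_le g t (cj_mono g tg.le ht) ⟨h1, el t ht⟩,
    fun hne x hx hq => ?_⟩
  · obtain ⟨s, hs, -, -, h1, -⟩ := tg.four
    exact ⟨_, conj_mem_cj hs, (h1.conj g).1⟩
  · by_contra h1
    exact tg.ti 1 g (by rwa [cj_one]) x ⟨by rw [cj_one]; exact tg.le hx, hq⟩ ⟨h1, tg.el x hx⟩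

theorem job : JS1.{u} := by
  intro G _ _ Q E tg fu Q₁ T Q₂ T' P sp ln
  have : Fact (Nat.Prime 2) := ⟨Nat.prime_two⟩
  obtain ⟨elT, TQ, ⟨t0, ht0, n0⟩, cT, dT⟩ := pt_facts tg sp.c1.p2
  obtain ⟨elT', TQ', -, cT', dT'⟩ := pt_facts tg sp.c2.p2
  have PE : P ≤ cen E := ln.pg.le.trans inf_le_right
  constructor
  · have TP : T ≤ nor P := fun t ht => mem_normalizer_of_cj_le (by
      rintro _ ⟨y, hy, rfl⟩
      have : (MulAut.conj t).toMonoidHom y = ⁅t, y⁆ * y := by simp [commutatorElement_def]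
      rw [this]
      exact mul_mem (ln.pg.lt.le (ln.pg.cm t ht y hy)) hy)
    have T2 : IsPGroup 2 T := isPGroup_iff_forall.2 fun a ha => ⟨1, by rw [pow_one, pow_two, elT a ha]⟩
    have h2 : IsPGroup 2 ↥(P ⊔ T) := ln.pg.two.to_sup_of_normal_left' T2 TP
    have cE : P ⊔ T ≤ cen E := sup_le PE sp.c1.comm
    obtain ⟨P', pg, -, cm, -⟩ := fu Q₂ T' Q E (tg.sym _ _ _ _ sp.c2) ((P ⊔ T) ⊓ cen T') inf_le_right
      (h2.to_le inf_le_left) fun e he c hc => by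
        rw [commutatorElement_eq_one_iff_mul_comm.2 (cE hc.1 e he)]
        exact one_mem _
    obtain ⟨w, hw, hw'⟩ := SetLike.exists_of_lt pg.lt
    intro c hc
    have hcE : c * c ∈ E := by
      have hm : c ∈ ((P ⊔ T : Subgroup G) : Set G) := hc.1
      rw [coe_mul_of_right_le_normalizer_left P T TP] at hm
      obtain ⟨y, hy, t, ht, rfl⟩ := hm
      have hyy : y * y ∈ E := by
        by_contra hn
        refine ln.pg.nd _ (mul_mem hy hy) hn t0 ht0 n0 ?_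
        rw [sq_right (PE hy _ (ln.pg.cm t0 ht0 y hy)).symm, tg.el _ (ln.pg.cm t0 ht0 y hy)]
      have e : y * t * (y * t) = y * ⁅t, y⁆ * y * (t * t) := by
        simp only [commutatorElement_def]
        group
      change y * t * (y * t) ∈ E
      rw [e, elT t ht, mul_one, ← PE hy _ (ln.pg.cm t ht y hy), mul_assoc]
      exact mul_mem (ln.pg.cm t ht y hy) hyy
    by_contra hn
    refine pg.nd w hw hw' _ hcE hn ?_
    rw [sq_left (hc.2 _ (cm c hc w hw)).symm, elT' _ (cm c hc w hw)]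
  · intro t ht a ha t1 a1 e
    have h1 : a ∈ nor Q₁ := cT t ht t1 (mem_centralizer_singleton_iff.2
      (commutatorElement_eq_one_iff_mul_comm.1 e).symm)
    have h2 : T ≤ nor Q₂ := fun s hs => cT' a ha a1 (mem_centralizer_singleton_iff.2
      (commutatorElement_eq_one_iff_mul_comm.1
        (dT sp.c1.ne _ (sp.cm s hs a ha) (comm_mem_left (TQ hs) h1))))
    exact sp.nc fun b hb s hs => commutatorElement_eq_one_iff_mul_comm.1
      (dT' sp.c2.ne _ (sp.cm s hs b hb) (comm_mem_right (h2 hs) (TQ' hb)))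

end H68.CbS1
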