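import Cfsg.Agent.H28.TESpec

/-! Tower NF (S1308), chapter TE part 1, slot NA: the normaliser of a line in `Q₁` centralises the axis. -/

set_option autoImplicit false

open Cfsg Subgroup H14 H98 H1.Gold H31.S2 H14.GC H14.FE H14.NF H28.TE
open scoped commutatorElement

namespace H68.TeNA

universe u

variable {G : Type u} [Group G]

theorem comm_cj (g a b : G) : ⁅g * a * g⁻¹, g * b * g⁻¹⁆ = g * ⁅a, b⁆ * g⁻¹ := by
  simp only [commutatorElement_def]; group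

theorem sq_cj (g a : G) : g * a * g⁻¹ * (g * a * g⁻¹) = g * (a * a) * g⁻¹ := by group

/-- A line has a transvection. -/
theorem exists_tr [Finite G] {Q Q₁ E Q₂ T : Subgroup G} (kp : KPs.{u}) (ar : ARs.{u})
    (ln : LN Q Q₁ E Q₂ T) : ∃ y, Tr Q₁ E T y := by
  obtain ⟨R, hR, -, -⟩ := ar G Q Q₁ E Q₂ T ln ⊥ IsPGroup.of_bot bot_le (fun a _ b hb => by
    rw [mem_bot.1 hb, commutatorElement_one_right]; exact one_mem _)
  have k := kp G Q Q₁ E Q₂ T ln R hR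
  obtain ⟨y, hy, hy'⟩ := SetLike.exists_of_lt k.lt
  exact ⟨y, k.tr y hy hy'⟩

/-- The commutator with a conjugated transvection. -/
theorem comm_conj {Q Q₁ E Q₂ T : Subgroup G} (ln : LN Q Q₁ E Q₂ T) (k : KT Q₁ E Q₂ T) {y n : G}
    (ty : Tr Q₁ E T y) (hn : n ∈ Q₁) (hF : n ∈ nor (E ⊔ T)) {t : G} (ht : t ∈ T) :
    ⁅t, n * y * n⁻¹⁆ = n * ⁅t, y⁆ * n⁻¹ := by
  have tF : t ∈ E ⊔ T := mem_sup_right ht
  have h1 : n⁻¹ * t * n⁻¹⁻¹ ∈ E ⊔ T := (mem_normalizer_iff.1 (inv_mem hF) t).1 tF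
  have tn : t ∈ nor Q₁ := (ln.sT.le ht).2
  have h2 : t * n * t⁻¹ ∈ Q₁ := (mem_normalizer_iff.1 tn n).1 hn
  have eE : n⁻¹ * t * n * t⁻¹ ∈ E := by
    refine k.inE _ ?_ ?_
    · rw [inv_inv] at h1; exact mul_mem h1 (inv_mem tF)
    · have := mul_mem (inv_mem hn) h2
      simpa only [mul_assoc] using this
  set e := n⁻¹ * t * n * t⁻¹ with he
  have c1 : e * y = y * e := mem_centralizer_iff.1 ty.ce e eE
  have c2 : e * ⁅t, y⁆ = ⁅t, y⁆ * e :=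
    k.abF _ (mem_sup_left eE) _ (mem_sup_left (ty.cm t ht))
  have e1 : t = n * (e * t) * n⁻¹ := by rw [he]; group
  have e2 : ⁅e * t, y⁆ = ⁅t, y⁆ := by
    calc ⁅e * t, y⁆ = e * ⁅t, y⁆ * (y * e⁻¹ * y⁻¹) := by simp only [commutatorElement_def]; group
      _ = ⁅t, y⁆ * e * (y * e⁻¹ * y⁻¹) := by rw [c2]
      _ = ⁅t, y⁆ * (e * y) * e⁻¹ * y⁻¹ := by group
      _ = ⁅t, y⁆ := by rw [c1]; group
  calc ⁅t, n * y * n⁻¹⁆ = ⁅n * (e * t) * n⁻¹, n * y * n⁻¹⁆ := by rw [← e1]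
    _ = n * ⁅t, y⁆ * n⁻¹ := by rw [comm_cj, e2]

theorem jobNA : JobNA.{u} := by
  intro kt kp ar s0 eq sq G _ _ Q Q₁ E Q₂ T ln n hn hF
  have k := kt G Q Q₁ E Q₂ T ln
  obtain ⟨y, ty⟩ := exists_tr kp ar ln
  have ty' : Tr Q₁ E T (n * y * n⁻¹) := k.cj y ty n hF (le_normalizer hn)
  obtain ⟨t₁, ht₁, e₁⟩ := k.ont y ty _ ty.sq
  have n₁ : t₁ ≠ 1 := by
    rintro rfl
    rw [commutatorElement_one_left] at e₁
    exact sq G Q Q₁ E Q₂ T ln y ty e₁.symm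
  have e₂ : ⁅t₁, n * y * n⁻¹⁆ = n * y * n⁻¹ * (n * y * n⁻¹) := by
    rw [comm_conj ln k ty hn hF ht₁, e₁, sq_cj]
  obtain ⟨d, dF, dQ, dT, al, fin⟩ := eq G Q Q₁ E Q₂ T ln y _ ty ty'
  have ty₂ : Tr Q₁ E T (d * y * d⁻¹) := k.cj y ty d dF dQ
  have e₃ : ⁅d * t₁ * d⁻¹, n * y * n⁻¹⁆ = n * y * n⁻¹ * (n * y * n⁻¹) := by
    rw [← al _ (dT t₁ ht₁), comm_cj, e₁, ← sq_cj]
    exact s0 G Q Q₁ E Q₂ T ln _ _ ty₂ ty' al
  have e₄ : d * t₁ * d⁻¹ * t₁ = 1 := by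
    by_contra h
    refine k.nd _ ty' _ (mul_mem (dT t₁ ht₁) ht₁) h ?_
    rw [k.hom _ ty' _ (dT t₁ ht₁) _ ht₁, e₃, e₂]
    exact ln.elE _ ty'.sq
  have e₅ : d * t₁ * d⁻¹ = t₁ := by
    have := ln.elT t₁ ht₁
    exact mul_right_cancel (e₄.trans this.symm)
  have al' := fin t₁ ht₁ n₁ e₅
  refine mem_centralizer_iff.2 fun e he => ?_
  obtain ⟨t, ht, rfl⟩ := k.ont y ty e he
  have h := (al' t ht).trans (comm_conj ln k ty hn hF ht)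
  calc ⁅t, y⁆ * n = n * ⁅t, y⁆ * n⁻¹ * n := by rw [← h]
    _ = n * ⁅t, y⁆ := by group

end H68.TeNA
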