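import Cfsg.Agent.H48.DNASpec

/-! A component centralised by the derived group of a Sylow 3-subgroup has abelian Sylow
3-subgroups. -/

set_option autoImplicit false

namespace H68.NaT3c

open Subgroup Cfsg H98 H48.DP H48.DP2 H57.DPC H26.DA H98.DP0C
open scoped commutatorElement

universe u

theorem syl_inf {G : Type u} [Group G] [Finite G] {p : ℕ} [Fact p.Prime] {S L : Subgroup G}
    (hS : IsSyl p S ⊤) (hL : L.IsSubnormal) : IsSyl p (S ⊓ L) L := by
  induction hL with
  | top => rwa [inf_top_eq]
  | step H K hle _ hN ih =>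
    have hn : K ≤ normalizer (H : Set G) := (normal_subgroupOf_iff_le_normalizer hle).1 hN
    have := ih.inf_of_le_normalizer hle (inf_le_right.trans hn)
    rwa [inf_assoc, inf_eq_right.2 hle] at this

theorem subnormal_of {G : Type u} [Group G] {L : Subgroup G} (h : IsComponentOf L ⊤) :
    L.IsSubnormal :=
  IsSubnormal.trans le_top h.2.1 IsSubnormal.top

theorem job : JT3c.{u} := by
  intro nab G _ _ S W L y z r sd hL hz
  have : Fact (Nat.Prime 3) := ⟨Nat.prime_three⟩
  obtain ⟨h3, hc⟩ := sd.str.cm L hL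
  rcases nab G L h3 with h | ⟨R, hRL, hR, hne⟩
  · exact h
  exfalso
  obtain ⟨g, -, hg⟩ := (syl_inf sd.syl (subnormal_of hL)).exists_cj_le hR hRL
  have h1 : ⁅S ⊓ L, S ⊓ L⁆ ≤ L ⊓ Ce L := by
    refine le_inf ?_ ?_
    · refine commutator_le.2 fun a ha b hb => ?_
      rw [commutatorElement_def]
      exact mul_mem (mul_mem (mul_mem ha.2 hb.2) (inv_mem ha.2)) (inv_mem hb.2)
    · exact ((commutator_mono inf_le_left inf_le_left).trans sd.der).trans (zpowers_le.2 hz)
  rw [hc.sm.cen] at h1
  apply hne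
  rw [← cj_eq_bot_iff (g := g), cj_commutator]
  exact le_bot_iff.1 ((commutator_mono hg hg).trans h1)

end H68.NaT3c
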