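import Cfsg.Agent.H20.DGSpec

/-! Counting the point stabilisers in an elementary abelian group with orbits of prime length. -/

set_option autoImplicit false

namespace H68.DgNA1

open Subgroup MulAction Cfsg H98 H20.DG

universe u v

theorem count {α β : Type*} [Finite α] (f : α → β) (S : Set α) (t : ℕ)
    (h : ∀ a ∈ S, {b | b ∈ S ∧ f b = f a}.ncard = t) : S.ncard = (f '' S).ncard * t := by
  classical
  have hS : S.Finite := Set.toFinite S
  have h1 := Finset.card_eq_sum_card_image f hS.toFinset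
  rw [Set.ncard_eq_toFinset_card S hS, h1, Finset.sum_const_nat (m := t)]
  · congr 1
    rw [← Set.ncard_coe_finset, Finset.coe_image, Set.Finite.coe_toFinset]
  · intro y hy
    obtain ⟨a, ha, rfl⟩ := Finset.mem_image.1 hy
    rw [← h a (hS.mem_toFinset.1 ha), ← Set.ncard_coe_finset]
    congr 1
    ext b
    simp

theorem card_ne {G : Type u} [Group G] [Fintype G] [DecidableEq G] (U : Subgroup G)
    [DecidablePred (· ∈ U)] :
    ((Finset.univ.filter (· ∈ U)).erase 1).card + 1 = Nat.card U := by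
  rw [Finset.card_erase_add_one (by simp), Nat.card_eq_fintype_card, Fintype.card_subtype]

theorem cover {G : Type u} [Group G] [Finite G] (A : Subgroup G) (Y : Set (Subgroup G)) (r : ℕ)
    (hr : 1 < r) (hc : ∀ U ∈ Y, Nat.card U * r = Nat.card A) (hne : Y.Nonempty)
    (hA : ∀ x ∈ A, x ≠ 1 → ∃ U ∈ Y, x ∈ U) : r < Y.ncard := by
  classical
  have := Fintype.ofFinite G
  have hY : Y.Finite := Set.toFinite Y
  obtain ⟨U0, hU0⟩ := hne
  have hm : ∀ U ∈ Y, Nat.card U = Nat.card U0 := fun U hU =>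
    Nat.eq_of_mul_eq_mul_right (by omega : 0 < r) ((hc U hU).trans (hc U0 hU0).symm)
  have h1 : (Finset.univ.filter (· ∈ A)).erase 1 ⊆
      hY.toFinset.biUnion fun U => (Finset.univ.filter (· ∈ U)).erase 1 := by
    intro x hx
    rw [Finset.mem_erase, Finset.mem_filter] at hx
    obtain ⟨U, hU, hxU⟩ := hA x hx.2.2 hx.1
    exact Finset.mem_biUnion.2 ⟨U, hY.mem_toFinset.2 hU, by simp [hx.1, hxU]⟩
  have h2 := (Finset.card_le_card h1).trans (Finset.card_biUnion_le_card_mul _ _
    (Nat.card U0 - 1) fun U hU => by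
      have := card_ne U
      rw [hm U (hY.mem_toFinset.1 hU)] at this
      omega)
  rw [← Set.ncard_eq_toFinset_card Y hY] at h2
  have h3 := card_ne A
  have h4 := hc U0 hU0
  have h5 : 0 < Nat.card U0 := Nat.card_pos
  by_contra hn
  have h6 : Y.ncard * (Nat.card U0 - 1) ≤ r * (Nat.card U0 - 1) :=
    Nat.mul_le_mul_right _ (by omega)
  obtain ⟨m, hm'⟩ : ∃ m, Nat.card U0 = m + 1 := ⟨Nat.card U0 - 1, by omega⟩
  rw [hm'] at h2 h4 h6
  simp only [Nat.add_sub_cancel] at h2 h6
  nlinarith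

theorem arith {r s y c : ℕ} (hr : r.Prime) (hs : s.Prime) (r2 : r ≠ 2) (s2 : s ≠ 2)
    (h : 2 * r * s = y * (c * r)) (hy : r < y) :
    s ∣ y ∧ y ≤ 2 * s ∧ ¬ s ∣ r - 1 ∧ c * r ≤ 2 * r := by
  have h0 := hr.two_le
  have h1 : 2 * s = y * c := Nat.eq_of_mul_eq_mul_right hr.pos (by nlinarith)
  have hc : 0 < c := Nat.pos_of_ne_zero fun e => by
    have := hs.pos
    rw [e] at h1
    omega
  have hle : y ≤ 2 * s := by nlinarith
  have hsy : s ∣ y := by
    rcases (hs.dvd_mul).1 (⟨2, by rw [← h1]; ring⟩ : s ∣ y * c) with h2 | ⟨k, rfl⟩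
    · exact h2
    · have h3 : 2 = y * k := Nat.eq_of_mul_eq_mul_right hs.pos (by nlinarith)
      have := Nat.le_of_dvd two_pos (⟨k, h3⟩ : y ∣ 2)
      omega
  refine ⟨hsy, hle, ?_, ?_⟩
  · rintro ⟨k, hk⟩
    obtain ⟨a, ha⟩ := hr.odd_of_ne_two r2
    obtain ⟨b, hb⟩ := hs.odd_of_ne_two s2
    have : k < 2 := by
      by_contra hn
      have : s * 2 ≤ s * k := Nat.mul_le_mul_left _ (by omega)
      omega
    interval_cases k <;> omega
  · obtain ⟨k, rfl⟩ := hsy
    have h3 : 2 = c * k := Nat.eq_of_mul_eq_mul_right hs.pos (by nlinarith)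
    exact Nat.mul_le_mul_right _ (Nat.le_of_dvd two_pos ⟨k, h3⟩)

theorem job : JobNA1.{u, v} := by
  intro G Ω _ _ _ _ r s A h el orb sn
  let f : Ω → Subgroup G := fun ω => A ⊓ stabilizer G ω
  have hf : ∀ g ∈ normalizer (A : Set G), ∀ c, f (g • c) = cj g (f c) := fun g hg c => by
    simp only [f]
    rw [cj_inf, cj_eq_self hg, cj_stab]
  obtain ⟨ω0⟩ := h.nonempty
  have hcl : ∀ a b : Ω, {c | f c = f b}.ncard = {c | f c = f a}.ncard := by
    intro a b
    obtain ⟨g, hg, e⟩ := sn a b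
    have : {c | f c = f b} = (fun c => g • c) '' {c | f c = f a} := by
      ext c
      constructor
      · intro hc
        refine ⟨g⁻¹ • c, ?_, smul_inv_smul g c⟩
        change f (g⁻¹ • c) = f a
        rw [hf _ (inv_mem hg), show f c = cj g (f a) from hc.trans e.symm, cj_inv_cj]
      · rintro ⟨d, hd, rfl⟩
        change f (g • d) = f b
        rw [hf _ hg, show f d = f a from hd]
        exact e
    rw [this, Set.ncard_image_of_injective _ (MulAction.injective g)]
  have hA : ∀ g ∈ A, ∀ c, f (g • c) = f c := by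
    intro g hg c
    rw [hf g (le_normalizer hg)]
    ext x
    rw [mem_cj]
    have key : ∀ y ∈ A, g⁻¹ * y * g = y := fun y hy => by
      rw [mul_assoc, el.1 y hy g hg, inv_mul_cancel_left]
    constructor
    · intro hx
      have hxA : x ∈ A := by
        have := mul_mem (mul_mem hg hx.1) (inv_mem hg)
        simpa [mul_assoc] using this
      rwa [key x hxA] at hx
    · intro hx
      rwa [key x hx.1]
  have h1 := count f Set.univ _ fun a _ => by simpa using hcl ω0 a
  have h2 := count (Ob A) {c | f c = f ω0} r fun a ha => by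
    rw [← orb a, ← ncard_Ob]
    congr 1
    ext b
    constructor
    · rintro ⟨-, hb⟩
      rw [← hb]
      exact ⟨1, one_mem _, one_smul _ _⟩
    · rintro ⟨g, hg, rfl⟩
      exact ⟨(hA g hg a).trans ha, ((isOr_Ob A a).eq_Ob ⟨g, hg, rfl⟩).symm⟩
  rw [Set.ncard_univ, h.card, Set.image_univ, h2] at h1
  have h3 : r < (Ys Ω A).ncard := by
    refine cover A _ r h.pp.one_lt ?_ ⟨_, ω0, rfl⟩ fun x hx hne => ?_
    · rintro _ ⟨ω, rfl⟩
      rw [← orb ω, ← inf_relIndex_left, relIndex,
        ← Nat.card_congr (subgroupOfEquivOfLe (inf_le_left : A ⊓ stabilizer G ω ≤ A)).toEquiv,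
        card_mul_index]
    · have : Fact r.Prime := ⟨h.pp⟩
      have ho : orderOf x = r := orderOf_eq_prime (el.2 x hx) hne
      by_contra hn
      refine h.nd ⟨x, ho ▸ h.pp, fun ω e => hn ⟨_, ⟨ω, rfl⟩, hx, e⟩⟩
  obtain ⟨a, b, c, d⟩ := arith h.pp h.qq h.p2 h.q2 h1 h3
  refine ⟨a, b, c, fun ω => ?_⟩
  change {c | f c = f ω}.ncard ≤ _
  rw [hcl ω0 ω, h2]
  exact d

end H68.DgNA1
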