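/- Gow's theorem: products of two regular semisimple classes in a group with a split BN-pair. -/
import Cfsg.Agent.H2.DefBlock
import Cfsg.Agent.H67.SBNMap
import Cfsg.Agent.S0840
import Cfsg.Agent.S0929

set_option autoImplicit false
set_option linter.unusedSectionVars false

namespace H68.Gow

open Cfsg H67

variable {p : ℕ} [hp : Fact p.Prime] {G : Type*} [Group G] [Finite G]

/-- `g` is a product of a conjugate of `x` and a conjugate of `y`. -/
def Pr (x y g : G) : Prop := ∃ u v : G, g = (u * x * u⁻¹) * (v * y * v⁻¹)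

theorem Pr.conj {x y g : G} (h : Pr x y g) (c : G) : Pr x y (c * g * c⁻¹) := by
  obtain ⟨u, v, rfl⟩ := h
  exact ⟨c * u, c * v, by group⟩

theorem Pr.of_conj {x y g : G} (c : G) (h : Pr x y (c * g * c⁻¹)) : Pr x y g := by
  simpa [mul_assoc] using h.conj c⁻¹

theorem Pr.of_conj' {x y g : G} (c : G) (h : Pr x y (c⁻¹ * g * c)) : Pr x y g :=
  Pr.of_conj c⁻¹ (by simpa using h)

theorem Pr.mk' {x y a b : G} (ha : IsConj x a) (hb : IsConj y b) : Pr x y (a * b) := by
  obtain ⟨u, rfl⟩ := isConj_iff.1 ha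
  obtain ⟨v, rfl⟩ := isConj_iff.1 hb
  exact ⟨u, v, rfl⟩

theorem st_eq (D : SBN p G) [Fintype D.P.S]
    (hH : D.H ≤ Subgroup.closure {h | ∃ s, ∃ n ∈ D.M s, ∃ n' ∈ D.M s, h = n⁻¹ * n'}) :
    H54.stGRD D.toGRD = stBN D.P := by
  have hχ := H54.isIrrCharacter_stGRD D.toGRD D.toGRD_Gp
  refine D.eq_stBN_of_defect_zero hH hχ ?_
  have h1 := H54.stGRD_one D.toGRD D.toGRD_Gp
  rw [← H28.Cfsg.IsIrrCharacter.cast_charDegree hχ, D.toGRD_U, Nat.cast_inj] at h1
  rw [h1, D.pow_factorization_eq_card_U]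

theorem st_value (D : SBN p G) [Fintype D.P.S]
    (hH : D.H ≤ Subgroup.closure {h | ∃ s, ∃ n ∈ D.M s, ∃ n' ∈ D.M s, h = n⁻¹ * n'})
    {x : G} (hx : ¬ p ∣ orderOf x) : ∃ e : ℕ, stBN D.P x = (-1) ^ e *
      ((p ^ (Nat.card (Subgroup.centralizer ({x} : Set G))).factorization p : ℕ) : ℂ) := by
  rw [← st_eq D hH]
  exact H54.stGRD_eq_pow_factorization D.toGRD D.toGRD_Gp (D.toGRD_U ▸ D.isP)
    (D.toGRD_H ▸ D.H_cop) hx

theorem not_dvd_orderOf {x : G} (hx : ¬ p ∣ Nat.card (Subgroup.centralizer ({x} : Set G))) :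
    ¬ p ∣ orderOf x := fun h => hx (h.trans (Subgroup.orderOf_dvd_natCard _
      (Subgroup.mem_centralizer_singleton_iff.2 rfl)))

/-- Gow's theorem. -/
theorem gow {D : SBN p G} (hD : D.Good) (hgen : Subgroup.normalClosure (D.U : Set G) = ⊤) {x y s : G}
    (hx : ¬ p ∣ Nat.card (Subgroup.centralizer ({x} : Set G)))
    (hy : ¬ p ∣ Nat.card (Subgroup.centralizer ({y} : Set G))) (hs : ¬ p ∣ orderOf s) (h1 : s ≠ 1) :
    Pr x y s := by
  classical
  have := Fintype.ofFinite G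
  have := Fintype.ofFinite D.P.S
  have hH := H2.H_le_of_gen D hD.comm hgen
  obtain ⟨M, hM⟩ := H35.exists_isPModular p hp.out
  have := hM.2.1
  by_contra hno
  have h0 := Cfsg.Agent.S0840.result x y s
  have hz : Nat.card {q : G × G // IsConj x q.1 ∧ IsConj y q.2 ∧ q.1 * q.2 = s} = 0 :=
    Nat.card_eq_zero.2 (Or.inl ⟨fun q => hno (q.2.2.2 ▸ Pr.mk' q.2.1 q.2.2.1)⟩)
  rw [hz] at h0
  have := Fintype.ofFinite (IrrCharacter G)
  have hc : ∀ a : G, (Nat.card {z : G // IsConj a z} : ℂ) ≠ 0 := fun a =>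
    Nat.cast_ne_zero.2 (@Nat.card_pos _ ⟨⟨a, IsConj.refl a⟩⟩ _).ne'
  rw [Nat.cast_zero, eq_comm, mul_eq_zero, finsum_eq_sum_of_fintype] at h0
  replace h0 := h0.resolve_left (div_ne_zero (mul_ne_zero (hc x) (hc y))
    (Nat.cast_ne_zero.2 Nat.card_pos.ne'))
  have h2 : ∑ χ : IrrCharacter G, (χ : G → ℂ) x * (χ : G → ℂ) y * centralChar (χ : G → ℂ) s⁻¹ = 0 := by
    have := congrArg (fun z => ((Subgroup.centralizer ({s⁻¹} : Set G)).index : ℂ) * z) h0
    simp only [Finset.mul_sum, mul_zero] at this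
    rw [← this]
    refine Finset.sum_congr rfl fun χ _ => ?_
    rw [centralChar, H28.Cfsg.IsCharacter.apply_inv (H28.Cfsg.IsIrrCharacter.isCharacter χ.2)]
    ring
  let St : IrrCharacter G := ⟨_, isIrrCharacter_stBN D.P⟩
  have hint : ∀ (χ : IrrCharacter G) g, (χ : G → ℂ) g ∈ H35.S M := fun χ g =>
    H35.mem_S_of_isIntegral_int (H28.Cfsg.IsCharacter.isIntegral
      (H28.Cfsg.IsIrrCharacter.isCharacter χ.2) g)
  have h3 : ∀ χ ∈ Finset.univ.erase St, MemLocalIdeal M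
      ((χ : G → ℂ) x * (χ : G → ℂ) y * centralChar (χ : G → ℂ) s⁻¹) := by
    intro χ hχ
    refine H35.P_mul_left (mul_mem (hint χ x) (hint χ y)) ?_
    by_contra hω
    have hB : IsPBlock M (blockOf M (χ : G → ℂ)) := ⟨χ, rfl⟩
    have hm := H34.self_mem_blockOf (M := M) χ
    rcases H2.defect_cases D hD.bt hD.irr hM hB with h | h
    · refine Finset.ne_of_mem_erase hχ (Subtype.ext (D.eq_stBN_of_defect_zero hH χ.2 ?_))
      rw [← H35.nu_eq_of_defect_zero h hm]
      exact Nat.ordProj_dvd _ _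
    · obtain ⟨z, hz, hzc, -⟩ := Cfsg.Agent.S0929.result p M hM _ hB D.sylow
        ((H36.isDefectGroup_iff_sylow hM hB h).2 ⟨_, rfl⟩) s⁻¹ ⟨χ, hm, hω⟩
      obtain ⟨r, hr, c, hc, rfl⟩ := D.exists_of_centralizes_R hD.irr (J := ∅)
        (by
          obtain ⟨t, ht⟩ := hD.ne
          exact fun e => (e.ge (Set.mem_univ ⟨t, ht⟩))) (c := z) (by rw [D.R_empty]; exact hzc)
      rw [hD.core, Subgroup.mem_bot] at hc
      rw [hc, mul_one] at hz
      obtain ⟨k, hk⟩ := exists_pow_eq_one_of_mem (D.isPGroup_R ∅) hr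
      have ho : orderOf s ∣ p ^ k := by
        obtain ⟨c, rfl⟩ := isConj_iff.1 hz
        rw [conj_pow, mul_inv_eq_one, mul_eq_left, inv_pow, inv_eq_one] at hk
        exact orderOf_dvd_of_pow_eq_one hk
      exact h1 (orderOf_eq_one_iff.1 (Nat.eq_one_of_dvd_coprimes
        (Nat.Coprime.pow_right k ((Nat.Prime.coprime_iff_not_dvd hp.out).2 hs).symm) dvd_rfl ho))
  have h4 := H35.P_sum _ _ h3
  rw [← Finset.add_sum_erase _ _ (Finset.mem_univ St), add_eq_zero_iff_eq_neg] at h2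
  rw [← H35.P_neg_iff, ← h2] at h4
  have unit : ∀ {a : G}, ¬ p ∣ Nat.card (Subgroup.centralizer ({a} : Set G)) →
      ¬ MemLocalIdeal M ((St : G → ℂ) a) := fun {a} ha => by
    obtain ⟨e, he⟩ := st_value D hH (not_dvd_orderOf ha)
    rw [Nat.factorization_eq_zero_of_not_dvd ha, pow_zero, Nat.cast_one, mul_one] at he
    exact H35.not_P_of_pow_eq_one two_ne_zero (by
      show stBN D.P a ^ 2 = 1
      rw [he, ← pow_mul, mul_comm, pow_mul]; simp)
  refine H35.not_P_mul (mul_mem (hint St x) (hint St y))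
    (H35.mem_S_of_isIntegral_int (H37.centralChar_isIntegral St.2 _))
    (H35.not_P_mul (hint St x) (hint St y) (unit hx) (unit hy)) ?_ h4
  obtain ⟨e, he⟩ := st_value D hH (x := s⁻¹) (by rwa [orderOf_inv])
  have h5 : stBN D.P 1 = ((p ^ (Nat.card G).factorization p : ℕ) : ℂ) := by
    rw [← st_eq D hH, H54.stGRD_one D.toGRD D.toGRD_Gp, D.toGRD_U, D.pow_factorization_eq_card_U]
  show ¬ MemLocalIdeal M (_ * stBN D.P s⁻¹ / stBN D.P 1)
  rw [he, h5, mul_left_comm, mul_div_assoc, ← Nat.cast_mul]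
  set C := Subgroup.centralizer ({s⁻¹} : Set G)
  have hi : C.index ≠ 0 := Subgroup.index_ne_zero_of_finite
  have hcp : Nat.card C ≠ 0 := Nat.card_pos.ne'
  have hf : (C.index * p ^ (Nat.card C).factorization p).factorization p =
      (p ^ (Nat.card G).factorization p).factorization p := by
    rw [← C.index_mul_card, Nat.factorization_mul hi hcp,
      Nat.factorization_mul hi (pow_ne_zero _ hp.out.ne_zero), hp.out.factorization_pow,
      hp.out.factorization_pow]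
    simp
  have hne := mul_ne_zero hi (pow_ne_zero ((Nat.card C).factorization p) hp.out.ne_zero)
  refine H35.not_P_mul (H35.mem_S_of_pow_eq_one two_ne_zero (by rw [← pow_mul, mul_comm, pow_mul]; simp))
    ((H35.natCast_div_natCast_mem_S_iff hM hne (pow_ne_zero _ hp.out.ne_zero)).2 hf.ge)
    (H35.not_P_of_pow_eq_one two_ne_zero (by rw [← pow_mul, mul_comm, pow_mul]; simp)) ?_
  rw [H35.P_natCast_div_natCast_iff hM hne (pow_ne_zero _ hp.out.ne_zero), hf]
  exact lt_irrefl _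

end H68.Gow
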