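/- Squares of regular semisimple classes in groups with a split BN-pair of rank two: reductions. -/
import Cfsg.Agent.H68.Gow
import Cfsg.Agent.H67.Jordan
import Cfsg.Agent.H28.ConjCount

set_option autoImplicit false
set_option linter.unusedSectionVars false

namespace H68.Gow

open Cfsg H67

variable {p : ℕ} [hp : Fact p.Prime] {G : Type*} [Group G] [Finite G]

theorem conj_of_fpf {K : Subgroup G} {c : G} (hn : ∀ k ∈ K, c * k * c⁻¹ ∈ K)
    (hf : ∀ k ∈ K, c * k = k * c → k = 1) {r : G} (hr : r ∈ K) : IsConj c (r * c) := by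
  let f : K → K := fun k => ⟨k * (c * (k : G)⁻¹ * c⁻¹), mul_mem k.2 (hn _ (inv_mem k.2))⟩
  have hi : Function.Injective f := fun a b h => by
    have h1 : (a : G) * (c * (a : G)⁻¹ * c⁻¹) = b * (c * (b : G)⁻¹ * c⁻¹) := congrArg Subtype.val h
    have := hf _ (mul_mem (inv_mem b.2) a.2) (by
      calc c * ((b : G)⁻¹ * a) = (b : G)⁻¹ * (b * (c * (b : G)⁻¹ * c⁻¹)) * c * a := by group
        _ = _ := by rw [← h1]; group)
    exact Subtype.ext (inv_mul_eq_one.1 this).symm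
  obtain ⟨k, hk⟩ := Finite.surjective_of_injective hi ⟨r, hr⟩
  refine isConj_iff.2 ⟨k, ?_⟩
  rw [← show (k : G) * (c * (k : G)⁻¹ * c⁻¹) = r from congrArg Subtype.val hk]
  group

theorem eq_one_of_reg {K : Subgroup G} (hK : IsPGroup p K) {x c : G}
    (hx : ¬ p ∣ Nat.card (Subgroup.centralizer ({x} : Set G))) (hc : IsConj x c) {k : G} (hk : k ∈ K)
    (e : c * k = k * c) : k = 1 := by
  obtain ⟨n, hn⟩ := exists_pow_eq_one_of_mem hK hk
  rw [H28.card_centralizer_eq_of_isConj hc] at hx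
  exact orderOf_eq_one_iff.1 (Nat.eq_one_of_dvd_coprimes
    (Nat.Coprime.pow_left n ((Nat.Prime.coprime_iff_not_dvd hp.out).2 hx)) (orderOf_dvd_of_pow_eq_one hn)
    (Subgroup.orderOf_dvd_natCard _ (Subgroup.mem_centralizer_singleton_iff.2 e.symm)))

theorem exists_conj_stab {Q V K : Subgroup G} (ν : G) (hK : IsPGroup p K)
    (hn : Q ≤ Subgroup.normalizer (K : Set G))
    (htr : ∀ q ∈ Q, ∃ r ∈ K, ∃ l, ν⁻¹ * l * ν ∈ V ∧ q = r * l) {s : G} (hs : s ∈ Q)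
    (ho : ¬ p ∣ orderOf s) : ∃ r ∈ K, ν⁻¹ * (r⁻¹ * s * r) * ν ∈ V := by
  obtain ⟨u, hu, hfix⟩ := H1.glauberman_subgroup (Subgroup.zpowers s) K
    ((Subgroup.zpowers_le.2 hs).trans hn) (by
      obtain ⟨k, hk⟩ := hK.exists_card_eq
      rw [hk, Nat.card_zpowers]
      exact Nat.Coprime.pow_right _ ((Nat.Prime.coprime_iff_not_dvd hp.out).2 ho).symm)
    (Or.inl inferInstance) (QuotientGroup.mk ν : G ⧸ V) fun z hz => by
      obtain ⟨r, hr, l, hl, e⟩ := htr z (Subgroup.zpowers_le.2 hs hz)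
      exact ⟨r, hr, by rw [e, mul_smul, smul_mk_eq_iff.2 hl]⟩
  refine ⟨u, hu, smul_mk_eq_iff.1 ?_⟩
  rw [mul_smul, mul_smul, hfix s (Subgroup.mem_zpowers s), inv_smul_smul]

theorem exists_jordan (g : G) : ∃ m n : ℤ, ∃ k : ℕ, ¬ p ∣ orderOf (g ^ m) ∧ (g ^ n) ^ p ^ k = 1 ∧
    g ^ m * g ^ n = g := by
  obtain ⟨k, e, he, h⟩ := Nat.exists_eq_pow_mul_and_not_dvd (orderOf_pos g).ne' p hp.out.ne_one
  obtain ⟨m, n, h1, h2, h3⟩ := exists_split_zpow (s := g) (a := e) (b := p ^ k)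
    (Nat.Coprime.pow_right k ((Nat.Prime.coprime_iff_not_dvd hp.out).2 he).symm)
    (by rw [mul_comm, ← h, pow_orderOf_eq_one])
  exact ⟨m, n, k, fun hd => he (hd.trans (orderOf_dvd_of_pow_eq_one h1)), h2,
    by rw [← zpow_add, h3, zpow_one]⟩

variable {D : SBN p G}

theorem exists_conj_H {s : G} (hs : s ∈ D.B) (ho : ¬ p ∣ orderOf s) : ∃ r ∈ D.U, r⁻¹ * s * r ∈ D.H := by
  obtain ⟨r, hr, h⟩ := exists_conj_stab (Q := D.B) (V := D.B) D.n0 D.isP D.normalizer_U.ge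
    (fun q hq => by
      obtain ⟨u, hu, h, hh, e⟩ := D.split q hq
      exact ⟨u, hu, h, (D.H_conj' (D.nJ_mem _) hh).1, e⟩) hs ho
  exact ⟨r, hr, D.mem_H_of_conj_n0 (mul_mem (mul_mem (inv_mem (D.U_le hr)) hs) (D.U_le hr)) h⟩

theorem exists_not_mem_R {u : G} (hu : u ∈ D.U) (h1 : u ≠ 1) :
    ∃ n ∈ D.N, n⁻¹ * u * n ∈ D.U ∧ ∃ s, n⁻¹ * u * n ∉ D.R {s} := by
  by_contra h
  push Not at h
  have key : ∀ w ∈ Subgroup.closure (Set.range (sim D.P)), ∀ n ∈ D.N, wOf D.P n = w →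
      n⁻¹ * u * n ∈ D.U := by
    have step : ∀ w s, (∀ n ∈ D.N, wOf D.P n = w → n⁻¹ * u * n ∈ D.U) →
        ∀ n ∈ D.N, wOf D.P n = w * sim D.P s → n⁻¹ * u * n ∈ D.U := fun w s ih n hn e => by
      have hn' := mul_mem hn (inv_mem (D.S_mem s))
      have := (D.mem_R_singleton.1 (h _ hn' (ih _ hn' (by
        rw [wOf_mul_N hn (inv_mem (D.S_mem s)), e, wOf_inv, wOf_S, mul_inv_cancel_right])) s)).2
      simpa [mul_assoc] using this
    intro w hw
    induction hw using Subgroup.closure_induction_right with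
    | one => exact fun n _ e => D.U_norm' (wOf_eq_one_iff.1 e) hu
    | mul_right w _ t ht ih => obtain ⟨s, rfl⟩ := ht; exact step w s ih
    | mul_inv_cancel w _ t ht ih => obtain ⟨s, rfl⟩ := ht; rw [sim_inv]; exact step w s ih
  exact h1 (D.eq_one_of_conj_n0 hu (key _ (by rw [sim_gen]; trivial) _ (D.nJ_mem _) rfl))

theorem mem_B_of_mem_PJ {s t : D.P.S} (h : s ≠ t) {g : G} (h1 : g ∈ D.PJ {s}) (h2 : g ∈ D.PJ {t}) :
    g ∈ D.B := by
  rcases mem_cellSubgroup_singleton.1 h1 with h1 | h1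
  · exact h1
  · exact (mem_cellSubgroup_singleton.1 h2).resolve_right fun h2 => h (sim_injective _ (h1.symm.trans h2))

variable (D) in
/-- Rank two, with a representative of the longest element, which centralizes `i`. -/
structure Rk2 where
  i : D.P.S
  j : D.P.S
  ne : i ≠ j
  all : ∀ s, s = i ∨ s = j
  ν : G
  ν_mem : ν ∈ D.N
  opp : ∀ u ∈ D.U, ν⁻¹ * u * ν ∈ D.U → u = 1
  cen : ∀ x ∈ D.X i, ν⁻¹ * x * ν ∈ D.PJ {i}

theorem longest_of_opp {ν : G} (hν : ν ∈ D.N) (h : ∀ u ∈ D.U, ν⁻¹ * u * ν ∈ D.U → u = 1) :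
    wOf D.P ν = wOf D.P D.n0 := by
  refine (bn_exch D.P).isLongest_unique ⟨mem_WJ_univ _, fun s _ => ?_⟩ (D.nJ_longest _)
  by_contra hc
  obtain ⟨x, hx, h1⟩ := D.exists_mem_X_ne_one s
  refine h1 (h x (D.X_le_U s hx) (D.X_conj_of_asc hν ?_ hx))
  rcases (bn_exch D.P).len_s_mul_ne s (wOf D.P ν) with h | h <;> omega

namespace Rk2

variable (R : Rk2 D)

theorem wν : wOf D.P R.ν = wOf D.P D.n0 := longest_of_opp R.ν_mem R.opp

theorem longest : IsLongest (sim D.P) Set.univ (wOf D.P R.ν) := R.wν ▸ D.nJ_longest _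

theorem comm : sim D.P R.i * wOf D.P R.ν = wOf D.P R.ν * sim D.P R.i := by
  obtain ⟨k, -, hk⟩ := (bn_exch D.P).isLongest_conj R.longest (Set.mem_univ R.i)
  by_cases e : k = R.i
  · rwa [e] at hk
  obtain ⟨x, hx, h1⟩ := D.exists_mem_X_ne_one R.i
  have h2 := D.conj_mem_U_congr (mul_mem (D.S_mem R.i) (D.nJ_mem _)) (mul_mem R.ν_mem (D.S_mem k))
    (by rw [wOf_mul_N (D.S_mem _) (D.nJ_mem _), wOf_mul_N R.ν_mem (D.S_mem k), wOf_S, wOf_S, ← hk, R.wν])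
    (D.mem_X.1 hx).2
  have hk' : (k : G) ∈ D.PJ {k} := S_mem_cellSubgroup rfl
  have h3 : R.ν⁻¹ * x * R.ν ∈ D.PJ {k} := by
    simpa [mul_assoc] using mul_mem (mul_mem hk' (D.B_le_PJ _ (D.U_le h2))) (inv_mem hk')
  exact absurd (R.opp x (D.X_le_U _ hx)
    (D.conj_mem_U (D.X_le_U _ hx) (mem_B_of_mem_PJ e h3 (R.cen x hx)))) h1

/-- The Levi subgroup. -/
def L : Subgroup G := D.PJ {R.i} ⊓ cjs (D.PJ {R.i}) R.ν

/-- The opposite radical. -/
def Rm : Subgroup G := cjs (D.R {R.i}) R.ν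

theorem mem_L {g : G} : g ∈ R.L ↔ g ∈ D.PJ {R.i} ∧ R.ν⁻¹ * g * R.ν ∈ D.PJ {R.i} :=
  and_congr_right fun _ => mem_cjs

theorem H_le_L : D.H ≤ R.L := fun _ h =>
  R.mem_L.2 ⟨D.B_le_PJ _ h.1, D.B_le_PJ _ (D.H_conj' R.ν_mem h).1⟩

theorem X_le_L : D.X R.i ≤ R.L := fun x h =>
  R.mem_L.2 ⟨D.B_le_PJ _ (D.U_le (D.X_le_U _ h)), R.cen x h⟩

theorem i_mem_L : (R.i : G) ∈ R.L := R.mem_L.2 ⟨S_mem_cellSubgroup rfl,
  mem_cellSubgroup_singleton.2 (Or.inr (by
    rw [wOf_mul_N (mul_mem (inv_mem R.ν_mem) (D.S_mem _)) R.ν_mem,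
      wOf_mul_N (inv_mem R.ν_mem) (D.S_mem _), wOf_inv, wOf_S, mul_assoc, R.comm, inv_mul_cancel_left]))⟩

theorem exists_L {g : G} (hg : g ∈ D.PJ {R.i}) : ∃ r ∈ D.R {R.i}, ∃ l ∈ R.L, g = r * l := by
  obtain ⟨k, hk, b, hb, rfl⟩ := D.exists_mul_B (K := R.L) (J := {R.i})
    (fun s hs => hs ▸ R.X_le_L) (fun s hs => ⟨1, one_mem _, by rw [mul_one, hs]; exact R.i_mem_L⟩) hg
  obtain ⟨u, hu, h, hh, rfl⟩ := D.split b hb
  obtain ⟨x, hx, r, hr, rfl⟩ := D.exists_X_mul_R R.i hu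
  have h1 := mul_mem hk (R.X_le_L hx)
  exact ⟨_, D.R_conj' h1.1 hr, _, mul_mem h1 (R.H_le_L hh), by group⟩

theorem len_d : len (sim D.P) (sim D.P R.i * wOf D.P R.ν) + 1 = len (sim D.P) (wOf D.P R.ν) := by
  have := R.longest.2 R.i trivial
  rcases (bn_exch D.P).len_s_mul_ne R.i (wOf D.P R.ν) with h | h <;> omega

theorem eq_one_of_mem_R {u : G} (hu : u ∈ D.R {R.i}) (h : R.ν⁻¹ * u * R.ν ∈ D.PJ {R.i}) : u = 1 := by
  rcases mem_cellSubgroup_singleton.1 h with h | h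
  · exact R.opp u (D.R_le_U _ hu) (D.conj_mem_U (D.R_le_U _ hu) h)
  exfalso
  have hd : wOf D.P ((R.i : G)⁻¹ * R.ν) = sim D.P R.i * wOf D.P R.ν := by
    rw [wOf_mul_N (inv_mem (D.S_mem _)) R.ν_mem, wOf_inv, wOf_S, sim_inv]
  have e1 : sim D.P R.i * wOf D.P R.ν * sim D.P R.i = wOf D.P R.ν := by
    rw [mul_assoc, ← R.comm, (bn_exch D.P).s_mul_s_mul]
  have h1 := wOf_mul_of_len_add (P := D.P) (x := (R.i : G)⁻¹ * R.ν) (g := R.ν⁻¹ * u * R.ν)
    (by rw [hd, h, e1, (bn_exch D.P).len_s, R.len_d])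
  rw [show (R.i : G)⁻¹ * R.ν * (R.ν⁻¹ * u * R.ν) = ((R.i : G)⁻¹ * u * R.i) * ((R.i : G)⁻¹ * R.ν) by group,
    wOf_mul_left (D.U_le (D.mem_R_singleton.1 hu).2), h, eq_comm, mul_eq_left] at h1
  exact sim_ne_one _ _ h1

theorem Y_le_Rm : cjs (D.X R.j) R.j ≤ R.Rm := by
  intro y hy
  rw [mem_cjs] at hy
  have E := bn_exch D.P
  have hj := D.S_mem R.j
  have hi := D.S_mem R.i
  have key : ∀ d ∈ D.N, len (sim D.P) (sim D.P R.j * wOf D.P d) < len (sim D.P) (wOf D.P d) →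
      d⁻¹ * y * d ∈ D.U := fun d hd hl => by
    have := D.X_conj_of_asc (mul_mem (inv_mem hj) hd) (by
      rwa [wOf_mul_N (inv_mem hj) hd, wOf_inv, wOf_S, sim_inv, E.s_mul_s_mul]) hy
    simpa [mul_assoc] using this
  refine mem_cjs.2 (D.mem_R_singleton.2 ⟨key _ R.ν_mem (R.longest.2 _ trivial), ?_⟩)
  have := key _ (mul_mem R.ν_mem hi) (by
    rw [wOf_mul_N R.ν_mem hi, wOf_S, ← R.comm]
    have h1 := D.len_n0 (sim D.P R.i * sim D.P R.j)
    rw [mul_inv_rev, sim_inv, sim_inv, mul_assoc, ← R.wν] at h1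
    have h2 := R.len_d
    rcases E.len_s_mul_ne R.i (sim D.P R.j) with h | h <;> rw [E.len_s] at h
    · omega
    · have := E.len_eq_zero (w := sim D.P R.i * sim D.P R.j) (by omega)
      rw [mul_eq_one_iff_eq_inv, sim_inv] at this
      exact absurd (sim_injective _ this) R.ne)
  simpa [mul_assoc] using this

/-- Products of two conjugates of `x` in the Levi subgroup. -/
def Sx (x l : G) : Prop := ∃ a ∈ R.L, ∃ b ∈ R.L, IsConj x a ∧ IsConj x b ∧ l = a * b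

variable {R} {x : G}

theorem Sx.conj {l g : G} (h : R.Sx x l) (hg : g ∈ R.L) : R.Sx x (g * l * g⁻¹) := by
  obtain ⟨a, ha, b, hb, h1, h2, rfl⟩ := h
  exact ⟨g * a * g⁻¹, mul_mem (mul_mem hg ha) (inv_mem hg), g * b * g⁻¹,
    mul_mem (mul_mem hg hb) (inv_mem hg), h1.trans (isConj_iff.2 ⟨g, rfl⟩),
    h2.trans (isConj_iff.2 ⟨g, rfl⟩), by group⟩

theorem Sx.pr (hx : ¬ p ∣ Nat.card (Subgroup.centralizer ({x} : Set G))) {r l q : G} (hr : r ∈ R.Rm)
    (h : R.Sx x l) (hq : q ∈ D.R {R.i}) : Pr x x (r * l * q) := by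
  obtain ⟨a, ha, b, hb, h1, h2, rfl⟩ := h
  have e1 := conj_of_fpf (K := R.Rm) (c := a) (fun k hk => mem_cjs.2 (by
      have := D.R_conj' (R.mem_L.1 ha).2 (mem_cjs.1 hk)
      simpa [mul_assoc] using this))
    (fun k hk => eq_one_of_reg (isPGroup_cjs (D.isPGroup_R _) _) hx h1 hk) hr
  have e2 := conj_of_fpf (K := D.R {R.i}) (c := b) (fun k hk => D.R_conj' hb.1 hk)
    (fun k hk => eq_one_of_reg (D.isPGroup_R _) hx h2 hk) (D.R_conj' hb.1 hq)
  convert Pr.mk' (h1.trans e1) (h2.trans e2) using 1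
  group

/-- An elliptic element of the Levi subgroup without fixed points in the radical is regular. -/
theorem reg (hD : D.Good) (hgen : Subgroup.normalClosure (D.U : Set G) = ⊤) (hx : x ∈ R.L)
    (ho : ¬ p ∣ orderOf x) (he : ∀ g ∈ D.PJ {R.i}, g⁻¹ * x * g ∉ D.B)
    (hf : ∀ u ∈ D.R {R.i}, x * u = u * x → u = 1) :
    ¬ p ∣ Nat.card (Subgroup.centralizer ({x} : Set G)) := by
  classical
  have := Fintype.ofFinite D.P.S
  have hval := stRel_eq (P := D.P) (J := {R.i}) (A := Finset.univ) (K₀ := {R.i}) (Finset.subset_univ _)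
    (x := x) (by rw [Finset.coe_singleton]; exact hx.1) (fun I hI q hq => by
      rw [Finset.coe_singleton] at hI hq
      rw [Set.ssubset_singleton_iff.1 hI, cellSubgroup_empty]
      exact he q hq) (n := R.ν) (by rw [Finset.coe_univ]; exact R.longest) (fun k => by
      simp only [Finset.mem_singleton, exists_eq_left, R.comm, mul_right_inj]
      exact ⟨fun h => by rw [h], fun h => (sim_injective _ h).symm⟩)
  rw [Finset.coe_singleton, ofix_eq_card_centralizer (U := D.R {R.i})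
    ((D.R_le_U _).trans (D.U_le.trans (D.B_le_PJ _))) (fun q hq u hu => D.R_conj' hq hu)
    (fun q hq => by
      obtain ⟨r, hr, l, hl, rfl⟩ := R.exists_L hq
      exact ⟨r, hr, by rw [mul_smul, smul_mk_eq_iff.2 (R.mem_L.1 hl).2]⟩)
    (fun u hu h => R.eq_one_of_mem_R hu (smul_mk_eq_iff.1 h)) hx.1 (smul_mk_eq_iff.2 (R.mem_L.1 hx).2),
    show D.R {R.i} ⊓ Subgroup.centralizer {x} = ⊥ from eq_bot_iff.2 fun u hu =>
      hf u hu.1 (Subgroup.mem_centralizer_singleton_iff.1 hu.2).symm] at hval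
  obtain ⟨e, h⟩ := st_value D (H2.H_le_of_gen D hD.comm hgen) ho
  rw [stBN_eq, hval] at h
  have h1 := congrArg norm h
  simp only [Finset.card_singleton, pow_one, Subgroup.card_bot, Nat.cast_one, mul_one, Int.reduceNeg,
    Int.cast_neg, Int.cast_one, norm_neg, norm_one, norm_mul, norm_pow, one_pow, one_mul,
    Complex.norm_natCast] at h1
  have h2 : p ^ (Nat.card (Subgroup.centralizer ({x} : Set G))).factorization p = 1 := by
    exact_mod_cast h1.symm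
  intro hd
  rcases Nat.pow_eq_one.1 h2 with h | h
  · exact hp.out.ne_one h
  · exact (hp.out.factorization_pos_of_dvd Nat.card_pos.ne' hd).ne' h

/-- The reduction to three types of elements. -/
theorem red (hD : D.Good) (hgen : Subgroup.normalClosure (D.U : Set G) = ⊤)
    (hx : ¬ p ∣ Nat.card (Subgroup.centralizer ({x} : Set G)))
    (hA : ∀ h ∈ D.H, ∀ u ∈ D.U, h * u = u * h → u ∉ D.R {R.i} ⊓ D.R {R.j} → Pr x x (h * u))
    (hJ : ∀ s ∈ D.PJ {R.j}, ∀ u ∈ D.R {R.j}, (∀ y ∈ D.PJ {R.j}, y⁻¹ * s * y ∉ D.B) → Pr x x (s * u))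
    (hI : ∀ l ∈ R.L, ∀ u ∈ D.R {R.i}, l * u = u * l → u ≠ 1 →
      (∀ y ∈ D.PJ {R.i}, y⁻¹ * l * y ∉ D.B) → R.Sx x l) {g : G} (hg : g ≠ 1) : Pr x x g := by
  obtain ⟨m, n, k, hs, hu, e⟩ := exists_jordan (p := p) g
  by_cases h1 : g ^ n = 1
  · rw [h1, mul_one] at e
    exact gow hD hgen hx hx (e ▸ hs) hg
  have hc : ∀ y : G, y⁻¹ * g ^ m * y * (y⁻¹ * g ^ n * y) = y⁻¹ * g ^ n * y * (y⁻¹ * g ^ m * y) :=
    fun y => by group
  have he : ∀ y : G, y⁻¹ * g ^ m * y * (y⁻¹ * g ^ n * y) = y⁻¹ * g * y := fun y => by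
    conv_rhs => rw [← e]
    group
  have ho : ∀ y : G, ¬ p ∣ orderOf (y⁻¹ * g ^ m * y) := fun y => by
    rwa [← orderOf_eq_of_isConj' (isConj_iff.2 ⟨y⁻¹, by rw [inv_inv]⟩)]
  have hn1 : ∀ y : G, y⁻¹ * g ^ n * y ≠ 1 := fun y h => h1 (by
    rw [← mul_left_inj y, ← mul_right_inj y⁻¹, ← mul_assoc, h]; group)
  by_cases hB : ∃ y, y⁻¹ * g * y ∈ D.B
  · obtain ⟨y, hy⟩ := hB
    have hz : ∀ a : ℤ, y⁻¹ * g ^ a * y ∈ D.B := fun a => by
      have := zpow_mem hy a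
      rwa [show y⁻¹ * g * y = y⁻¹ * g * y⁻¹⁻¹ by rw [inv_inv], conj_zpow, inv_inv] at this
    obtain ⟨r, hr, hh⟩ := exists_conj_H (hz m) (ho y)
    have hU := D.U_norm' (D.U_le hr) (D.mem_U_of_pow (hz n) (conj_pow_eq_one hu))
    rw [show ∀ a, r⁻¹ * (y⁻¹ * a * y) * r = (y * r)⁻¹ * a * (y * r) from fun a => by group] at hh hU
    obtain ⟨t, ht, hU', s, hR⟩ := exists_not_mem_R hU (hn1 _)
    replace hh := D.H_conj' ht hh
    rw [show ∀ a, t⁻¹ * ((y * r)⁻¹ * a * (y * r)) * t = (y * r * t)⁻¹ * a * (y * r * t) from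
      fun a => by group] at hh hU' hR
    refine Pr.of_conj' (y * r * t) (he _ ▸ hA _ hh _ hU' (hc _) fun h => hR ?_)
    rcases R.all s with rfl | rfl
    exacts [h.1, h.2]
  push Not at hB
  obtain ⟨y, J, hP, hR⟩ := hD.bt (Subgroup.zpowers (g ^ n)) (IsPGroup.of_card (n := Nat.log p (orderOf (g ^ n)))
    (by
      obtain ⟨a, -, ha⟩ := (Nat.dvd_prime_pow hp.out).1 (orderOf_dvd_of_pow_eq_one hu)
      rw [Nat.card_zpowers, ha, Nat.log_pow hp.out.one_lt]))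
  have hs' := hP (g ^ m) (mem_normalizer_of_conj_mem fun z hz => by
    obtain ⟨a, rfl⟩ := hz
    convert Subgroup.zpow_mem_zpowers (g ^ n) a using 1
    group)
  have hu' := hR _ (Subgroup.mem_zpowers _)
  have hell : ∀ z ∈ D.PJ J, z⁻¹ * (y⁻¹ * g ^ m * y) * z ∉ D.B := fun z hz h => hB (y * z) (by
    have := mul_mem h (D.U_le (D.R_le_U _ (D.R_conj hz hu')))
    rw [← he]
    convert this using 1
    group)
  have hJ' : J = {R.i} ∨ J = {R.j} := by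
    by_cases hi : R.i ∈ J <;> by_cases hj : R.j ∈ J
    · have : J = Set.univ := Set.eq_univ_of_forall fun s => by rcases R.all s with rfl | rfl <;> assumption
      rw [this, D.R_univ] at hu'
      exact absurd hu' (hn1 y)
    · exact Or.inl (Set.eq_singleton_iff_unique_mem.2 ⟨hi, fun s hs =>
        (R.all s).resolve_right fun h => hj (h ▸ hs)⟩)
    · exact Or.inr (Set.eq_singleton_iff_unique_mem.2 ⟨hj, fun s hs =>
        (R.all s).resolve_left fun h => hi (h ▸ hs)⟩)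
    · have : J = ∅ := Set.eq_empty_of_forall_notMem fun s => by
        rcases R.all s with rfl | rfl <;> assumption
      rw [this] at hs' hell
      exact absurd (by simpa [SBN.PJ, cellSubgroup_empty] using hs') (hell 1 (one_mem _))
  rcases hJ' with rfl | rfl
  · obtain ⟨r, hr, hl⟩ := exists_conj_stab (Q := D.PJ {R.i}) (V := D.PJ {R.i}) R.ν (D.isPGroup_R {R.i})
      (D.normalizer_R _).ge (fun q hq => by
        obtain ⟨r, hr, l, hl, e⟩ := R.exists_L hq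
        exact ⟨r, hr, l, (R.mem_L.1 hl).2, e⟩) hs' (ho y)
    have hrP := D.B_le_PJ {R.i} (D.U_le (D.R_le_U _ hr))
    have hl' := R.mem_L.2 ⟨mul_mem (mul_mem (inv_mem hrP) hs') hrP, hl⟩
    have hq := D.R_conj hrP hu'
    have hell' : ∀ z ∈ D.PJ {R.i}, z⁻¹ * (r⁻¹ * (y⁻¹ * g ^ m * y) * r) * z ∉ D.B := fun z hz h =>
      hell (r * z) (mul_mem hrP hz) (by simpa [mul_assoc] using h)
    rw [show ∀ a, r⁻¹ * (y⁻¹ * a * y) * r = (y * r)⁻¹ * a * (y * r) from fun a => by group] at hl' hq hell'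
    have := (hI _ hl' _ hq (hc _) (hn1 _) hell').pr hx (one_mem _) hq
    rw [one_mul, he] at this
    exact Pr.of_conj' _ this
  · exact Pr.of_conj' y (he y ▸ hJ _ hs' _ hu' hell)

end Rk2

end H68.Gow
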