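/- Products of two classes of two by two matrices. -/
import Cfsg.Agent.H33.GL2Torus

set_option autoImplicit false

namespace H68.OreSL

open H33 Matrix

variable {F : Type*} [Field F] [Finite F]

theorem univ {A B C : F} (h : B ^ 2 ≠ 4 * A * C) (e : F) : ∃ x y, A * x ^ 2 + B * x * y + C * y ^ 2 = e := by
  by_cases hA : A = 0
  · have hB : B ≠ 0 := fun hB => h (by simp [hA, hB])
    exact ⟨(e - C) / B, 1, by rw [hA]; field_simp; ring⟩
  by_cases h2 : ringChar F = 2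
  · obtain ⟨x, hx⟩ := FiniteField.isSquare_of_char_two h2 (e / A)
    exact ⟨x, 0, by rw [pow_two, ← hx]; field_simp; simp⟩
  have := Fintype.ofFinite F
  have h3 := Ring.two_ne_zero h2
  have h4 : C - B ^ 2 / (4 * A) ≠ 0 := fun h5 => h (by
    have : (4 : F) ≠ 0 := by rw [show (4 : F) = 2 * 2 by norm_num]; exact mul_ne_zero h3 h3
    rw [sub_eq_zero.1 h5]; field_simp)
  open Polynomial in
  obtain ⟨a, b, hab⟩ := FiniteField.exists_root_sum_quadratic (f := Polynomial.C A * X ^ 2)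
    (g := Polynomial.C (C - B ^ 2 / (4 * A)) * X ^ 2 - Polynomial.C e) (degree_C_mul_X_pow 2 hA)
    (by rw [degree_sub_C (by rw [degree_C_mul_X_pow 2 h4]; decide), degree_C_mul_X_pow 2 h4]; rfl)
    (FiniteField.odd_card_of_char_ne_two h2)
  simp only [eval_mul, eval_C, eval_pow, eval_X, eval_sub] at hab
  refine ⟨a - B * b / (2 * A), b, ?_⟩
  rw [show (4 : F) = 2 * 2 by norm_num] at hab
  field_simp at hab ⊢
  linear_combination hab

theorem exists_comp {A : M2 F} (h : A.trace ^ 2 ≠ 4 * A.det) :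
    ∃ P : SL2 F, A * (P : M2 F) = (P : M2 F) * !![0, -A.det; 1, A.trace] := by
  obtain ⟨x, y, e⟩ := univ (A := A 1 0) (B := A 1 1 - A 0 0) (C := -A 0 1) (fun h' => h (by
    rw [trace_fin_two, det_fin_two]; linear_combination h')) 1
  refine ⟨⟨!![x, A 0 0 * x + A 0 1 * y; y, A 1 0 * x + A 1 1 * y], by
    rw [det_fin_two_of]; linear_combination e⟩, ?_⟩
  apply m2_ext <;> simp [m2_mul_apply, trace_fin_two, det_fin_two] <;> ring

theorem exists_conj {A B : M2 F} (h : A.trace ^ 2 ≠ 4 * A.det) (ht : B.trace = A.trace)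
    (hd : B.det = A.det) : ∃ P : SL2 F, (P : M2 F) * A = B * (P : M2 F) := by
  obtain ⟨P, hP⟩ := exists_comp h
  obtain ⟨Q, hQ⟩ := exists_comp (A := B) (by rwa [ht, hd])
  rw [ht, hd] at hQ
  have e : (P : M2 F) * ((P⁻¹ : SL2 F) : M2 F) = 1 := congrArg Subtype.val (mul_inv_cancel P)
  have e' : ((P⁻¹ : SL2 F) : M2 F) * (P : M2 F) = 1 := congrArg Subtype.val (inv_mul_cancel P)
  refine ⟨Q * P⁻¹, ?_⟩
  change (Q : M2 F) * ((P⁻¹ : SL2 F) : M2 F) * A = B * ((Q : M2 F) * ((P⁻¹ : SL2 F) : M2 F))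
  rw [← mul_assoc B, hQ, ← mul_one (_ * A), ← e, ← mul_assoc, mul_assoc _ A, hP, mul_assoc (Q : M2 F),
    ← mul_assoc _ (P : M2 F), e', one_mul]

theorem exists_tr {l : M2 F} (hl : l.det = 1) (hs : ¬ IsSc l) {τ δ t : F}
    (h : l.trace ^ 2 ≠ 4 ∨ l.trace = 2 ∧ (t ≠ τ ∨ ∃ e, e ^ 2 - τ * e + δ = 0) ∨ l.trace = -2 ∧ t ≠ -τ) :
    ∃ c : M2 F, c.trace = τ ∧ c.det = δ ∧ (c * l).trace = t := by
  obtain ⟨P, hP⟩ := exists_conj_companion hs
  obtain ⟨d, c, e⟩ : ∃ d c : F, d ^ 2 - l.trace * d * c + c ^ 2 - τ * d + t * c + δ = 0 := by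
    generalize l.trace = s at h
    rcases h with h | ⟨rfl, h | ⟨e, h⟩⟩ | ⟨rfl, h⟩
    · have h' : 4 - s ^ 2 ≠ 0 := sub_ne_zero.2 h.symm
      obtain ⟨a, b, e1, e2⟩ : ∃ a b : F, 2 * a - s * b = τ ∧ 2 * b - s * a = -t :=
        ⟨(2 * τ - s * t) / (4 - s ^ 2), (s * τ - 2 * t) / (4 - s ^ 2), by field_simp; ring, by field_simp; ring⟩
      obtain ⟨x, y, e⟩ := univ (A := 1) (B := -s) (C := 1) (by simpa using h) (a ^ 2 - s * a * b + b ^ 2 - δ)
      exact ⟨x + a, y + b, by linear_combination e + (x + a) * e1 + (y + b) * e2⟩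
    · have := sub_ne_zero.2 h
      exact ⟨-δ / (t - τ), -δ / (t - τ), by field_simp; ring⟩
    · by_cases h' : t = τ
      · exact ⟨e, 0, by linear_combination h⟩
      · have := sub_ne_zero.2 h'
        exact ⟨-δ / (t - τ), -δ / (t - τ), by field_simp; ring⟩
    · have : t + τ ≠ 0 := fun h' => h (eq_neg_of_add_eq_zero_left h')
      exact ⟨δ / (t + τ), -δ / (t + τ), by field_simp; ring⟩
  refine ⟨P.1 * !![τ - d, t - l.trace * d + c; c, d] * (P⁻¹).1, ?_, ?_, ?_⟩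
  · rw [trace_units_conj]; simp [trace_fin_two]
  · rw [det_units_conj, det_fin_two_of]; linear_combination -e
  · rw [mul_assoc, mul_assoc, trace_mul_comm, mul_assoc, mul_assoc, hP, ← mul_assoc _ P.1, Units.inv_mul,
      one_mul, hl]
    simp [trace_fin_two]
    ring

theorem isConj_sl {a b : SL2 F} (h : (a : M2 F).trace ^ 2 ≠ 4) (ht : (b : M2 F).trace = (a : M2 F).trace) :
    IsConj a b := by
  obtain ⟨P, hP⟩ := exists_conj (A := (a : M2 F)) (B := (b : M2 F)) (by rwa [a.det_coe, mul_one]) ht (b.2.trans a.2.symm)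
  exact isConj_iff.2 ⟨P, mul_inv_eq_iff_eq_mul.2 (Subtype.ext hP)⟩

omit [Finite F] in
theorem trace_inv (a : SL2 F) : ((a⁻¹ : SL2 F) : M2 F).trace = (a : M2 F).trace := by
  simp [trace_fin_two, adjugate_fin_two, add_comm]

theorem exists_prod {l : SL2 F} (hs : ¬ IsSc (l : M2 F)) {τ t : F}
    (h : (l : M2 F).trace ^ 2 ≠ 4 ∨ (l : M2 F).trace = 2 ∧ (t ≠ τ ∨ ∃ e, e ^ 2 - τ * e + 1 = 0) ∨
      (l : M2 F).trace = -2 ∧ t ≠ -τ) :
    ∃ a b : SL2 F, (a : M2 F).trace = τ ∧ (b : M2 F).trace = t ∧ l = a * b := by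
  obtain ⟨c, h1, h2, h3⟩ := exists_tr l.2 hs h
  let c' : SL2 F := ⟨c, h2⟩
  exact ⟨c'⁻¹, c' * l, (trace_inv _).trans h1, h3, by group⟩

omit [Finite F] in
theorem mk_eq_one_iff {l : SL2 F} : (l : ProjectiveSpecialLinearGroup (Fin 2) F) = 1 ↔ IsSc (l : M2 F) := by
  rw [QuotientGroup.eq_one_iff, Matrix.SpecialLinearGroup.mem_center_iff, isSc_iff_smul]
  refine ⟨fun ⟨r, _, e⟩ => ⟨r, by rw [← e, scalar_apply, smul_one_eq_diagonal]⟩, fun ⟨r, e⟩ =>
    ⟨r, ?_, by rw [e, scalar_apply, smul_one_eq_diagonal]⟩⟩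
  have := l.det_coe
  rwa [e, det_smul, det_one, mul_one] at this

theorem psl_cov {x l : SL2 F} (hx : (x : M2 F).trace ^ 2 ≠ 4) {a b : SL2 F}
    (ha : (a : M2 F).trace = (x : M2 F).trace)
    (hb : (b : M2 F).trace = (x : M2 F).trace ∨ (b : M2 F).trace = -(x : M2 F).trace) (e : l = a * b) :
    ∃ u v : ProjectiveSpecialLinearGroup (Fin 2) F,
      (l : ProjectiveSpecialLinearGroup (Fin 2) F) = (u * x * u⁻¹) * (v * x * v⁻¹) := by
  obtain ⟨u, rfl⟩ := isConj_iff.1 (isConj_sl hx ha)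
  rcases hb with hb | hb
  · obtain ⟨v, rfl⟩ := isConj_iff.1 (isConj_sl hx hb)
    exact ⟨u, v, by rw [e]; rfl⟩
  · obtain ⟨v, hv⟩ := isConj_iff.1 (isConj_sl (b := -b) hx (by simp [hb]))
    refine ⟨u, v, ?_⟩
    rw [e, ← neg_neg b, ← hv, ← mul_neg_one, QuotientGroup.mk_mul, QuotientGroup.mk_mul _ _ (-1),
      (mk_eq_one_iff (l := -1)).2 ⟨by simp, by simp, by simp⟩, mul_one]
    rfl

omit [Finite F] in
theorem sq_eq (a : M2 F) : a * a = a.trace • a - a.det • (1 : M2 F) := by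
  apply m2_ext <;> simp [m2_mul_apply, trace_fin_two, det_fin_two] <;> ring

omit [Finite F] in
theorem trace_ne_zero {x : SL2 F} (h : 2 < orderOf (x : ProjectiveSpecialLinearGroup (Fin 2) F)) :
    (x : M2 F).trace ≠ 0 := fun h0 => pow_ne_one_of_lt_orderOf two_ne_zero h (by
  rw [← QuotientGroup.mk_pow, mk_eq_one_iff, isSc_iff_smul]
  exact ⟨-1, by rw [pow_two, Matrix.SpecialLinearGroup.coe_mul, sq_eq, h0, x.det_coe]; simp⟩)

/-- an elliptic matrix of given determinant -/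
theorem exists_ell {δ : F} (hδ : δ ≠ 0) : ∃ τ : F, ∀ e, e ^ 2 - τ * e + δ ≠ 0 := by
  by_contra hc
  push Not at hc
  choose f hf using hc
  have hf0 : ∀ τ, f τ ≠ 0 := fun τ h0 => hδ (by simpa [h0] using hf τ)
  have hi : Function.Injective f := fun a b h => mul_right_cancel₀ (hf0 a) (by
    linear_combination hf b - hf a + (f a + f b - b) * h)
  obtain ⟨τ, h0⟩ := Finite.surjective_of_injective hi 0
  exact hf0 τ h0

end H68.OreSL
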