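/- Squares of regular semisimple classes in rank two: Levi subgroups of type `A₁`. -/
import Cfsg.Agent.H68.Ore2
import Cfsg.Agent.H68.OreSL
import Cfsg.Agent.H72.HexD4

set_option autoImplicit false
set_option linter.unusedSectionVars false

namespace H68.Gow

open Cfsg H67 H33 H61 H83 H68.OreSL

variable {p : ℕ} [hp : Fact p.Prime] {G : Type*} [Group G] [Finite G] {D : SBN p G}

theorem inv_mul_mem_H {n n' : G} (hn : n ∈ D.N) (hn' : n' ∈ D.N) (h : wOf D.P n = wOf D.P n') :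
    n⁻¹ * n' ∈ D.H := ⟨inv_mul_mem_B_of_wOf_eq hn hn' h, D.N.mul_mem (D.N.inv_mem hn) hn'⟩

namespace Rk2

variable {R : Rk2 D} {x : G}

theorem jmove (hx : ¬ p ∣ Nat.card (Subgroup.centralizer ({x} : Set G))) {Y K : Set G}
    (hY : ∀ y ∈ Y, y ∈ R.Rm) (hK : ∀ k ∈ K, k ∈ D.H)
    (hJ : ∀ h ∈ D.H, ∃ y ∈ Y, ∃ a ∈ D.U, ∃ b ∈ D.U, ∃ k ∈ K, (R.j : G) * h = a * y * b * k)
    (hC : ∀ y ∈ Y, ∀ k ∈ K, ∀ ξ₀ ∈ D.X R.i, ∃ r ∈ D.R {R.i}, ∃ ξ,
      ξ⁻¹ * (y⁻¹ * r * y) ∈ D.R {R.i} ∧ R.Sx x (ξ * k * ξ₀))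
    {g : G} (hg : g ∈ D.PJ {R.j}) (hB : g ∉ D.B) : Pr x x g := by
  obtain ⟨b, hb, n, hn, b', hb', rfl, e⟩ := exists_bruhat D.P g
  rw [(mem_cellSubgroup_singleton.1 hg).resolve_left hB, ← wOf_S] at e
  obtain ⟨u, hu, h, hh, e1⟩ := D.split _ (mul_mem hb' hb)
  obtain ⟨y, hy, a, ha, c, hc, k, hk, e2⟩ := hJ _ (mul_mem (inv_mul_mem_H (D.S_mem _) hn e.symm) hh)
  obtain ⟨ξ₀, h0, q, hq, e3⟩ := D.exists_X_mul_R R.i
    (mul_mem (mul_mem (D.U_norm' (hK k hk).1 hc) (D.U_norm' hh.1 hu)) ha)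
  obtain ⟨r, hr, ξ, h1, h2⟩ := hC y hy k hk ξ₀ h0
  have := h2.pr hx (hY y hy) (mul_mem (mul_mem (D.R_conj (D.B_le_PJ _
    (mul_mem (hK k hk).1 (D.U_le (D.X_le_U _ h0)))) h1) hq) (inv_mem hr))
  refine Pr.of_conj (r * a⁻¹ * b⁻¹) ?_
  convert this using 1
  calc _ = r * a⁻¹ * ((R.j : G) * ((R.j : G)⁻¹ * n * h)) * h⁻¹ * (b' * b) * a * r⁻¹ := by group
    _ = r * y * k * (k⁻¹ * c * k * (h⁻¹ * u * h) * a) * r⁻¹ := by rw [e2, e1]; group
    _ = _ := by rw [e3]; group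

theorem fin (hD : D.Good) (hgen : Subgroup.normalClosure (D.U : Set G) = ⊤)
    (hx : ¬ p ∣ Nat.card (Subgroup.centralizer ({x} : Set G)))
    (hJ : ∀ g ∈ D.PJ {R.j}, g ∉ D.B → Pr x x g)
    (hF : ∀ h ∈ D.H, ∀ ξ ∈ D.X R.i, ξ ≠ 1 → h * ξ = ξ * h → ∀ ξ' ∈ D.X R.i, h * ξ' = ξ' * h)
    (hU : ∀ u ∈ D.R {R.j}, u ∉ D.R {R.i} → Pr x x u)
    (hI : ∀ l ∈ R.L, ∀ u ∈ D.R {R.i}, l * u = u * l → u ≠ 1 →
      (∀ y ∈ D.PJ {R.i}, y⁻¹ * l * y ∉ D.B) → R.Sx x l) {g : G} (hg : g ≠ 1) : Pr x x g := by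
  refine red hD hgen hx (fun h hh u hu hc hR => ?_) (fun s hs u hu h => hJ _
    (mul_mem hs (D.B_le_PJ _ (D.U_le (D.R_le_U _ hu)))) fun hb => h 1 (one_mem _) (by
      simpa using mul_mem hb (inv_mem (D.U_le (D.R_le_U _ hu))))) hI hg
  by_cases h1 : ∃ y ∈ D.PJ {R.j}, y⁻¹ * (h * u) * y ∉ D.B
  · obtain ⟨y, hy, h1⟩ := h1
    exact Pr.of_conj' y (hJ _ (mul_mem (mul_mem (inv_mem hy) (D.B_le_PJ _ (mul_mem hh.1 (D.U_le hu)))) hy) h1)
  push Not at h1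
  obtain ⟨h2, h3⟩ := D.mem_of_mul_mem (C := ⨅ y ∈ D.PJ {R.j}, cjs D.B y) (fun b hb c hc => by
    simp only [Subgroup.mem_iInf, mem_cjs] at hc ⊢
    exact fun y hy => by simpa [mul_assoc] using hc (b * y) (mul_mem (D.B_le_PJ _ hb) hy)) hu hh
    (by simpa only [Subgroup.mem_iInf, mem_cjs, hc] using h1)
  simp only [Subgroup.mem_iInf, mem_cjs] at h2 h3
  have h4 : u ∈ D.R {R.j} := D.mem_R.2 fun y hy => D.conj_mem_U hu (h2 y hy)
  have h5 : u ∉ D.R {R.i} := fun h => hR ⟨h, h4⟩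
  obtain ⟨ξ, hξ, q, hq, e⟩ := D.exists_X_mul_R R.i hu
  have h6 := D.eq_one_of_mem_X_of_mem_R (mul_mem (inv_mem hξ) (D.X_conj_H hh hξ)) (by
    convert mul_mem hq (inv_mem (D.R_conj (D.B_le_PJ _ hh.1) hq)) using 1
    calc _ = ξ⁻¹ * h⁻¹ * (ξ * q * h) * (h⁻¹ * q * h)⁻¹ := by group
      _ = _ := by rw [← e, ← hc, e]; group)
  have h7 := D.mem_normalCore_of_comm_X hh fun s => by
    rcases R.all s with rfl | rfl
    · refine hF h hh ξ hξ (fun h => h5 (by rwa [e, h, one_mul])) ?_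
      calc _ = h * ξ * (ξ⁻¹ * (h⁻¹ * ξ * h)) := by rw [h6, mul_one]
        _ = _ := by group
    · exact fun _ => D.comm_X_of_fix hh h3
  rw [hD.core, Subgroup.mem_bot] at h7
  rw [h7, one_mul]
  exact hU u h4 h5

end Rk2

section SL

variable {F : Type*} [Field F]

/-- a diagonal matrix -/
def dgm (a : Fˣ) : M2 F := !![(a : F), 0; 0, 1]

/-- a diagonal automorphism -/
def cj (a : Fˣ) : SL2 F →* SL2 F :=
  MonoidHom.mk' (fun m => sl2 (m 0 0) (a * m 0 1) ((a : F)⁻¹ * m 1 0) (m 1 1) (by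
    rw [mul_mul_mul_comm, Units.mul_inv', one_mul, sl_det])) fun m m' => by
      apply sl_ext <;> simp [sl_mul_apply] <;> field_simp

theorem cj_coe (a : Fˣ) (m : SL2 F) :
    (cj a m : M2 F) = !![m 0 0, a * m 0 1; (a : F)⁻¹ * m 1 0, m 1 1] := rfl

theorem dgm_mul (a : Fˣ) (m : SL2 F) : dgm a * (m : M2 F) = (cj a m : M2 F) * dgm a := by
  apply m2_ext <;> simp [m2_mul_apply, dgm, cj_coe] <;> field_simp

theorem dgm_mul_dgm (a b : Fˣ) : dgm a * dgm b = dgm (a * b) := by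
  apply m2_ext <;> simp [dgm]

theorem dgm_one : dgm (1 : Fˣ) = 1 := by apply m2_ext <;> simp [dgm]

theorem det_dgm (a : Fˣ) : (dgm a).det = a := by simp [dgm]

theorem cj_cj (a b : Fˣ) (m : SL2 F) : cj a (cj b m) = cj (a * b) m := by
  apply Subtype.ext
  apply m2_ext <;> simp [cj_coe, mul_assoc, mul_left_comm]

theorem cj_one (m : SL2 F) : cj 1 m = m := by
  apply Subtype.ext
  apply m2_ext <;> simp [cj_coe]

theorem cj_upper (a : Fˣ) (s : F) : cj a (upper s) = upper (a * s) := by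
  apply Subtype.ext
  apply m2_ext <;> simp [cj_coe]

theorem cj_lower (a : Fˣ) (s : F) : cj a (lower s) = lower ((a : F)⁻¹ * s) := by
  apply Subtype.ext
  apply m2_ext <;> simp [cj_coe]

theorem lower_eq (s : F) : lower s = weyl F * upper (-s) * (weyl F)⁻¹ := by
  rw [eq_mul_inv_iff_mul_eq]
  apply sl_ext <;> simp [sl_mul_apply]

theorem exists_upper {m : SL2 F} (h : m 1 0 = 0) : ∃ s d hd, m = upper s * hxD d hd := by
  have hd := sl_det m
  rw [h, mul_zero, sub_zero] at hd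
  have h0 := left_ne_zero_of_mul_eq_one hd
  refine ⟨m 0 1 * m 0 0, m 0 0, h0, ?_⟩
  apply sl_ext <;> simp [sl_mul_apply, hxD, h, h0]
  exact eq_inv_of_mul_eq_one_right hd

theorem exists_weyl {m : SL2 F} (h : m 1 0 ≠ 0) : ∃ s s', m = upper s * weyl F * hxD _ h * upper s' := by
  have hd := sl_det m
  refine ⟨m 0 0 / m 1 0, m 1 1 / m 1 0, ?_⟩
  apply sl_ext <;> simp [sl_mul_apply, hxD] <;> field_simp
  linear_combination -hd

theorem hxD_neg_one : hxD (-1 : F) (by simp) = -1 := by apply sl_ext <;> simp [hxD]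

theorem disc_ne {M : M2 F} (h : IsEll M) (h2 : (2 : F) ≠ 0) : M.trace ^ 2 ≠ 4 * M.det := fun e =>
  isEll_iff.1 h (M.trace / 2) (by field_simp; linear_combination -e)

variable {A : Type*} [Group A] (φ : SL2 F →* A)

/-- `h` induces a diagonal automorphism -/
def Act (h : A) (a : Fˣ) : Prop := ∀ m, h * φ m = φ (cj a m) * h

/-- the matrix of an element of the Levi subgroup -/
def Rel (M : M2 F) (h l : A) : Prop := ∃ a, ∃ m : SL2 F, Act φ h a ∧ M = m * dgm a ∧ l = φ m * h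

variable {φ}

theorem act_of {h : A} {a : Fˣ} (h1 : ∀ s, h * φ (upper s) * h⁻¹ = φ (upper (a * s)))
    (h2 : ∀ s, h * φ (lower s) * h⁻¹ = φ (lower ((a : F)⁻¹ * s))) : Act φ h a := fun m =>
  mul_inv_eq_iff_eq_mul.1 ((H12.LC.sl_induction (K := ((MulAut.conj h).toMonoidHom.comp φ).eqLocus
    (φ.comp (cj a))) (fun s => (h1 s).trans (congrArg φ (cj_upper a s).symm))
    fun s => (h2 s).trans (congrArg φ (cj_lower a s).symm)).ge (Subgroup.mem_top m))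

theorem act_one : Act φ 1 1 := fun m => by rw [cj_one, one_mul, mul_one]

theorem Act.mul {h h' : A} {a a' : Fˣ} (h1 : Act φ h a) (h2 : Act φ h' a') : Act φ (h * h') (a * a') :=
  fun m => by rw [mul_assoc, h2, ← mul_assoc, h1, cj_cj, mul_assoc]

theorem Act.unique (hi : ∀ t, φ (upper t) = 1 → t = 0) {h : A} {a a' : Fˣ} (h1 : Act φ h a)
    (h2 : Act φ h a') : a = a' := by
  have e := (h1 (upper 1)).symm.trans (h2 _)
  rw [cj_upper, cj_upper, mul_left_inj, ← mul_inv_eq_one, ← map_inv, ← map_mul, ← hx_upper_neg,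
    ← hx_upper_add] at e
  exact Units.ext (by linear_combination hi _ e)

theorem act_D (d : F) (hd : d ≠ 0) : Act φ (φ (hxD d hd)) (Units.mk0 d hd ^ 2) := fun m => by
  rw [← map_mul, ← map_mul]
  congr 1
  apply sl_ext <;> simp [sl_mul_apply, hxD, cj_coe] <;> field_simp

theorem Act.rel {h : A} (h1 : Act φ h 1) (m : SL2 F) : Rel φ m h (φ m * h) :=
  ⟨1, m, h1, by rw [dgm_one, mul_one], rfl⟩

theorem rel_one (m : SL2 F) : Rel φ m 1 (φ m) := by simpa using act_one.rel (φ := φ) m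

theorem Rel.mul {M M' : M2 F} {h h' l l' : A} (h1 : Rel φ M h l) (h2 : Rel φ M' h' l') :
    Rel φ (M * M') (h * h') (l * l') := by
  obtain ⟨a, m, h1, rfl, rfl⟩ := h1
  obtain ⟨a', m', h2, rfl, rfl⟩ := h2
  refine ⟨a * a', m * cj a m', h1.mul h2, ?_, by rw [map_mul, mul_assoc, ← mul_assoc h, h1]; group⟩
  rw [mul_assoc, ← mul_assoc (dgm a), dgm_mul, mul_assoc, dgm_mul_dgm, ← mul_assoc]
  rfl

theorem Rel.pow {M : M2 F} {h l : A} (h1 : Rel φ M h l) (n : ℕ) : Rel φ (M ^ n) (h ^ n) (l ^ n) := by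
  induction n with
  | zero => simpa using rel_one (φ := φ) 1
  | succ n ih => simpa only [pow_succ] using ih.mul h1

theorem Rel.unique {M : M2 F} {h l l' : A} (h1 : Rel φ M h l) (h2 : Rel φ M h l') : l = l' := by
  obtain ⟨a, m, -, rfl, rfl⟩ := h1
  obtain ⟨a', m', -, e, rfl⟩ := h2
  obtain rfl : a = a' := Units.ext (by simpa [det_dgm] using congrArg Matrix.det e)
  have := congrArg (· * dgm a⁻¹) e
  simp only [mul_assoc, dgm_mul_dgm, mul_inv_cancel, dgm_one, mul_one] at this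
  rw [Subtype.ext this]

theorem Act.exists_rel {h : A} {a : Fˣ} (h1 : Act φ h a) {M : M2 F} (hM : M.det = a) :
    ∃ l, Rel φ M h l :=
  ⟨_, a, ⟨M * dgm a⁻¹, by simp [det_dgm, hM]⟩, h1, by
    simp only [mul_assoc, dgm_mul_dgm, inv_mul_cancel, dgm_one, mul_one], rfl⟩

theorem Rel.conj {M M' : M2 F} {h l l' : A} (h1 : Rel φ M h l) (h2 : Rel φ M' h l') {P : SL2 F}
    (e : (P : M2 F) * M = M' * P) : φ P * l * (φ P)⁻¹ = l' := by
  have h3 := (rel_one P).mul h1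
  rw [one_mul, e, ← mul_one h] at h3
  exact mul_inv_eq_iff_eq_mul.2 (h3.unique (h2.mul (rel_one P)))

theorem Rel.isConj [Finite F] {M M' : M2 F} {h l l' : A} (h1 : Rel φ M h l) (h2 : Rel φ M' h l')
    (hd : M.trace ^ 2 ≠ 4 * M.det) (e1 : M'.trace = M.trace) (e2 : M'.det = M.det) : IsConj l l' :=
  let ⟨_, e⟩ := exists_conj hd e1 e2
  isConj_iff.2 ⟨_, h1.conj h2 e⟩

end SL

/-- Two homomorphisms from `SL₂` attached to the simple reflections. -/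
structure Lev (R : Rk2 D) (F F' : Type*) [Field F] [Field F'] where
  φ : SL2 F →* G
  ψ : SL2 F' →* G
  Xi : ∀ g, g ∈ D.X R.i ↔ ∃ t, g = φ (upper t)
  Xj : ∀ t, ψ (upper t) ∈ D.X R.j
  inj : ∀ t, φ (upper t) = 1 → t = 0
  wi : φ (weyl F) ∈ D.N ∧ wOf D.P (φ (weyl F)) = sim D.P R.i
  wj : ψ (weyl F') ∈ D.N ∧ wOf D.P (ψ (weyl F')) = sim D.P R.j
  Di : ∀ d hd, φ (hxD d hd) ∈ D.H
  Dj : ∀ d hd, ψ (hxD d hd) ∈ D.H
  gen : ∀ h ∈ D.H, ∃ d hd t ht, h = ψ (hxD t ht) * φ (hxD d hd)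
  act : ∀ t ht, ∃ a, Act φ (ψ (hxD t ht)) a
  HR : ∀ γ ≠ 0, ∀ s, ∃ r ∈ D.R {R.i},
    (φ (upper s))⁻¹ * ((ψ (lower γ))⁻¹ * r * ψ (lower γ)) ∈ D.R {R.i}
  HU : p = 2 → ∀ u ∈ D.R {R.j}, ∃ g, g⁻¹ * u * g ∈ D.R {R.i}
  E : ∀ t ht a (m : SL2 F), Act φ (ψ (hxD t ht)) a → IsEll ((m : M2 F) * dgm a) → ∀ u ∈ D.R {R.i},
    φ m * ψ (hxD t ht) * u = u * (φ m * ψ (hxD t ht)) → u ≠ 1 → ψ (hxD t ht) = 1
  odd : p ≠ 2 → Act φ (ψ (-1)) (-1)
  even : p = 2 → (∃ t ht, ψ (hxD t ht) ≠ 1) ∧ ∀ h ∈ D.H, R.ν⁻¹ * h * R.ν = h⁻¹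

namespace Lev

variable {R : Rk2 D} {F F' : Type*} [Field F] [Field F'] (V : Lev R F F') {x : G}

theorem up_mem (s : F) : V.φ (upper s) ∈ D.X R.i := (V.Xi _).2 ⟨s, rfl⟩

theorem wi_H : (R.i : G)⁻¹ * V.φ (weyl F) ∈ D.H := inv_mul_mem_H (D.S_mem _) V.wi.1 ((wOf_S _).trans V.wi.2.symm)

theorem wj_H : (R.j : G)⁻¹ * V.ψ (weyl F') ∈ D.H := inv_mul_mem_H (D.S_mem _) V.wj.1 ((wOf_S _).trans V.wj.2.symm)

theorem mem_L (m : SL2 F) : V.φ m ∈ R.L := by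
  have h : V.φ (weyl F) ∈ R.L := by simpa using mul_mem R.i_mem_L (R.H_le_L V.wi_H)
  refine (H12.LC.sl_induction (K := R.L.comap V.φ) (fun s => R.X_le_L (V.up_mem s)) fun s => ?_).ge
    (Subgroup.mem_top m)
  rw [Subgroup.mem_comap, lower_eq, map_mul, map_mul, map_inv]
  exact mul_mem (mul_mem h (R.X_le_L (V.up_mem _))) (inv_mem h)

theorem mem_B {m : SL2 F} : V.φ m ∈ D.B ↔ m 1 0 = 0 := by
  have h1 : ∀ s, V.φ (upper s) ∈ D.B := fun s => D.U_le (D.X_le_U _ (V.up_mem s))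
  refine ⟨fun h => by_contra fun h0 => sim_ne_one D.P R.i ?_, fun h => ?_⟩
  · obtain ⟨s, s', e⟩ := exists_weyl h0
    rw [← V.wi.2, ← wOf_eq_one_iff.2 h, e, map_mul, map_mul, map_mul, wOf_mul_right _ (h1 _),
      wOf_mul_right _ (V.Di _ _).1, wOf_mul_left (h1 _)]
  · obtain ⟨s, d, hd, rfl⟩ := exists_upper h
    rw [map_mul]
    exact mul_mem (h1 s) (V.Di d hd).1

theorem rel_mem_B {M : M2 F} {h l : G} (h1 : Rel V.φ M h l) (hh : h ∈ D.H) : l ∈ D.B ↔ M 1 0 = 0 := by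
  obtain ⟨a, m, -, rfl, rfl⟩ := h1
  rw [D.B.mul_mem_cancel_right hh.1, V.mem_B]
  simp [dgm, m2_mul_apply]

theorem rel_mem_L {M : M2 F} {h l : G} (h1 : Rel V.φ M h l) (hh : h ∈ D.H) : l ∈ R.L := by
  obtain ⟨a, m, -, -, rfl⟩ := h1
  exact mul_mem (V.mem_L m) (R.H_le_L hh)

theorem act_unique {h : G} {a : Fˣ} (h1 : Act V.φ h a) {s : F} (hs : s ≠ 0)
    (e : h * V.φ (upper s) = V.φ (upper s) * h) : a = 1 := by
  rw [h1, cj_upper, mul_left_inj, ← mul_inv_eq_one, ← map_inv, ← map_mul, ← hx_upper_neg,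
    ← hx_upper_add] at e
  exact Units.ext (mul_right_cancel₀ hs (by rw [Units.val_one]; linear_combination V.inj _ e))

theorem exists_act {h : G} (hh : h ∈ D.H) : ∃ a, Act V.φ h a := by
  obtain ⟨d, hd, t, ht, rfl⟩ := V.gen h hh
  obtain ⟨a, ha⟩ := V.act t ht
  exact ⟨_, ha.mul (act_D d hd)⟩

theorem exists_eq (hD : D.Good) {l : G} (hl : l ∈ R.L) : ∃ m t ht, l = V.φ m * V.ψ (hxD t ht) := by
  obtain ⟨_, ⟨m, rfl⟩, b, hb, rfl⟩ := D.exists_mul_B (K := V.φ.range) (J := {R.i})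
    (fun s hs g hg => by obtain ⟨t, rfl⟩ := (V.Xi g).1 (hs ▸ hg); exact ⟨_, rfl⟩)
    (fun s hs => ⟨_, V.wi_H.1, by rw [hs, mul_inv_cancel_left]; exact ⟨_, rfl⟩⟩) hl.1
  obtain ⟨u, hu, h, hh, rfl⟩ := D.split b hb
  obtain ⟨ξ, hξ, r, hr, rfl⟩ := D.exists_X_mul_R R.i hu
  obtain ⟨s, rfl⟩ := (V.Xi _).1 hξ
  have h1 := R.eq_one_of_mem_R hr (R.mem_L.1 (by
    simpa [mul_assoc] using mul_mem (mul_mem (inv_mem (mul_mem (V.mem_L m) (V.mem_L (upper s)))) hl)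
      (inv_mem (R.H_le_L hh)))).2
  obtain ⟨d, hd, t, ht, rfl⟩ := V.gen h hh
  exact ⟨m * upper s * hxD d hd, t, ht, by
    rw [h1, hD.comm _ (V.Dj t ht) _ (V.Di d hd), map_mul, map_mul]; group⟩

theorem isEll_iff (hD : D.Good) {M : M2 F} {h l : G} (h1 : Rel V.φ M h l) (hh : h ∈ D.H) :
    IsEll M ↔ ∀ g ∈ D.PJ {R.i}, g⁻¹ * l * g ∉ D.B := by
  have key : ∀ P : SL2 F, Rel V.φ (((P⁻¹ : SL2 F) : M2 F) * M * P) h ((V.φ P)⁻¹ * l * V.φ P) := fun P => by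
    simpa using ((rel_one P⁻¹).mul h1).mul (rel_one P)
  have e : ∀ P : SL2 F, M * P = (P : M2 F) * (((P⁻¹ : SL2 F) : M2 F) * M * P) := fun P => by
    rw [← mul_assoc, ← mul_assoc, ← Matrix.SpecialLinearGroup.coe_mul, mul_inv_cancel,
      Matrix.SpecialLinearGroup.coe_one, one_mul]
  refine ⟨fun h2 g hg h3 => ?_, fun h2 c v hv h3 => ?_⟩
  · obtain ⟨r, hr, _, hl, rfl⟩ := R.exists_L hg
    obtain ⟨P, t, ht, rfl⟩ := V.exists_eq hD hl
    have h4 := D.U_le (D.R_le_U _ (D.R_conj (V.mem_L P).1 (mul_mem (inv_mem hr)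
      (D.R_conj (V.rel_mem_L h1 hh).1 hr))))
    have h5 := (V.rel_mem_B (key P) hh).1 (by
      simpa [mul_assoc] using D.B.mul_mem (D.B.mul_mem (D.B.mul_mem (V.Dj t ht).1 h3)
        (D.B.inv_mem (V.Dj t ht).1)) h4)
    have h6 := e P
    generalize (((P⁻¹ : SL2 F) : M2 F) * M * P : M2 F) = N at h5 h6
    refine h2 (N 0 0) ![P 0 0, P 1 0] (fun h => ?_) ?_
    · have := sl_det P
      rw [show P 0 0 = 0 from congrFun h 0, show P 1 0 = 0 from congrFun h 1] at this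
      simp at this
    · have h7 := congrFun (congrFun h6 0) 0
      have h8 := congrFun (congrFun h6 1) 0
      rw [m2_mul_apply, m2_mul_apply, h5] at h7 h8
      ext i
      fin_cases i <;> simp [Matrix.mulVec, dotProduct]
      · linear_combination h7
      · linear_combination h8
  · obtain ⟨P, h4, h5⟩ : ∃ P : SL2 F, P 0 0 = v 0 ∧ P 1 0 = v 1 := by
      by_cases h0 : v 0 = 0
      · have : v 1 ≠ 0 := fun h => hv (by ext i; fin_cases i; exacts [h0, h])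
        exact ⟨sl2 (v 0) (-(v 1)⁻¹) (v 1) 0 (by simp [this]), rfl, rfl⟩
      · exact ⟨sl2 (v 0) 0 (v 1) (v 0)⁻¹ (by simp [h0]), rfl, rfl⟩
    refine h2 _ (V.mem_L P).1 ((V.rel_mem_B (key P) hh).2 ?_)
    have h6 := congrFun h3 0
    have h7 := congrFun h3 1
    simp [Matrix.mulVec, dotProduct] at h6 h7
    simp [m2_mul_apply, Matrix.adjugate_fin_two, h4, h5, Matrix.vecMul, dotProduct]
    linear_combination v 0 * h7 - v 1 * h6

variable [Finite F] [CharP F p]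

theorem reg (hD : D.Good) (hgen : Subgroup.normalClosure (D.U : Set G) = ⊤) {M : M2 F} {t : F'} {ht : t ≠ 0}
    (h1 : Rel V.φ M (V.ψ (hxD t ht)) x) (h2 : IsEll M) (h3 : V.ψ (hxD t ht) ≠ 1) :
    ¬ p ∣ Nat.card (Subgroup.centralizer ({x} : Set G)) := by
  have hh := V.Dj t ht
  refine R.reg hD hgen (V.rel_mem_L h1 hh) (fun h => ?_) ((V.isEll_iff hD h1 hh).1 h2) fun u hu e => ?_
  · have := Fintype.ofFinite F
    let M' : GL2 F := Matrix.GeneralLinearGroup.mkOfDetNeZero M h2.det_ne_zero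
    have h4 : M ^ (Fintype.card F ^ 2 - 1) = 1 := congrArg Units.val (orderOf_dvd_iff_pow_eq_one.1
      (card_centralizer_ell (g := M') h2 ▸ Subgroup.orderOf_dvd_natCard _
        (Subgroup.mem_centralizer_singleton_iff.2 rfl)))
    have h5 := h1.pow ((Fintype.card F ^ 2 - 1) * Nat.card D.H)
    rw [pow_mul, h4, one_pow, pow_mul', D.pow_card_H hh, one_pow] at h5
    have h6 := h.trans (orderOf_dvd_of_pow_eq_one (h5.unique (by simpa using rel_one (φ := V.φ) 1)))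
    refine D.H_cop ((hp.out.dvd_mul.1 h6).resolve_left fun h => hp.out.one_lt.ne' (Nat.dvd_one.1 ?_))
    obtain ⟨n, -, hn⟩ := FiniteField.card F p
    exact (Nat.dvd_sub_iff_right (Nat.one_le_pow _ _ Fintype.card_pos)
      ((hn ▸ dvd_pow_self p n.ne_zero : p ∣ Fintype.card F).trans (dvd_pow_self _ two_ne_zero))).1 h
  · obtain ⟨a, m, h4, rfl, rfl⟩ := h1
    exact by_contra fun h => h3 (V.E t ht a m h4 h2 u hu e h)

theorem fin (hD : D.Good) (hgen : Subgroup.normalClosure (D.U : Set G) = ⊤)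
    (hx : ¬ p ∣ Nat.card (Subgroup.centralizer ({x} : Set G)))
    (h1 : ∀ m : SL2 F, ¬ IsSc (m : M2 F) → (m : M2 F).trace ≠ -2 → R.Sx x (V.φ m))
    (h2 : R.Sx x (V.φ (-1)) ∨ ∀ m : SL2 F, ¬ IsSc (m : M2 F) → R.Sx x (V.φ m)) {g : G} (hg : g ≠ 1) :
    Pr x x g := by
  refine Rk2.fin (R := R) hD hgen hx (fun g => Rk2.jmove hx (Y := {y | ∃ γ ≠ 0, y = V.ψ (lower γ)})
    (K := {k | ∃ d hd, k = V.φ (hxD d hd)}) ?_ ?_ (fun h hh => ?_) ?_) (fun h hh ξ hξ h0 e ξ' hξ' => ?_)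
    (fun u hu hu' => ?_) (fun l hl u hu e h0 he => ?_) hg
  · rintro _ ⟨γ, -, rfl⟩
    refine R.Y_le_Rm (mem_cjs.2 ?_)
    simpa [lower_eq γ, mul_assoc] using D.X_conj_H (inv_mem V.wj_H) (V.Xj (-γ))
  · rintro _ ⟨d, hd, rfl⟩
    exact V.Di d hd
  · obtain ⟨d, hd, t, ht, e⟩ := V.gen _ (mul_mem (inv_mem V.wj_H) hh)
    have h3 := inv_mem (D.X_le_U _ (V.Xj t⁻¹))
    refine ⟨_, ⟨t, ht, rfl⟩, _, h3, _, h3, _, ⟨d, hd, rfl⟩, ?_⟩
    rw [hx_lower_eq ht, map_mul, map_mul, map_mul]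
    calc _ = V.ψ (weyl F') * (((R.j : G)⁻¹ * V.ψ (weyl F'))⁻¹ * h) := by group
      _ = _ := by rw [e]; group
  · rintro _ ⟨γ, hγ, rfl⟩ _ ⟨d, hd, rfl⟩ ξ hξ
    obtain ⟨s, rfl⟩ := (V.Xi _).1 hξ
    suffices ∃ s', R.Sx x (V.φ (upper s' * hxD d hd * upper s)) by
      obtain ⟨s', h⟩ := this
      obtain ⟨r, hr, h3⟩ := V.HR γ hγ s'
      exact ⟨r, hr, _, h3, by rwa [← map_mul, ← map_mul]⟩
    have h3 : ¬ IsSc ((upper (d * (1 - d * s)) * hxD d hd * upper s : SL2 F) : M2 F) := fun h => by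
      have := h.1
      simp [hxD, hd, mul_right_comm d] at this
    by_cases h4 : d = -1
    · subst h4
      refine h2.elim (fun h => ⟨-s, ?_⟩) fun h => ⟨_, h _ h3⟩
      convert h
      apply sl_ext <;> simp [sl_mul_apply, hxD]
    · refine ⟨_, h1 _ h3 fun h => h4 (eq_neg_of_add_eq_zero_left (pow_eq_zero_iff two_ne_zero |>.1 ?_))⟩
      simp [hxD] at h
      field_simp at h
      linear_combination h
  · obtain ⟨s, rfl⟩ := (V.Xi _).1 hξ
    obtain ⟨s', rfl⟩ := (V.Xi _).1 hξ'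
    obtain ⟨a, ha⟩ := V.exists_act hh
    obtain rfl := V.act_unique ha (fun h => h0 (by rw [h, hx_upper_zero, map_one])) e
    rw [ha, cj_one]
  · obtain ⟨ξ, hξ, q, hq, rfl⟩ := D.exists_X_mul_R R.i (D.R_le_U _ hu)
    obtain ⟨s, rfl⟩ := (V.Xi _).1 hξ
    have h3 : ¬ IsSc (upper s : M2 F) := fun h => hu' (by
      rwa [show s = 0 from h.1, hx_upper_zero, map_one, one_mul])
    by_cases h4 : R.Sx x (V.φ (upper s))
    · simpa using h4.pr hx (one_mem _) hq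
    have h5 : (2 : F) = 0 := by
      by_contra h
      refine h4 (h1 _ h3 fun h5 => h (pow_eq_zero_iff two_ne_zero |>.1 ?_))
      simp at h5
      linear_combination h5
    obtain ⟨g, hg⟩ := V.HU ((Nat.prime_dvd_prime_iff_eq hp.out Nat.prime_two).1
      ((CharP.cast_eq_zero_iff F p 2).1 h5)) _ hu
    have h6 := (h2.resolve_right fun h => h4 (h _ h3)).pr hx (one_mem _) hg
    rw [show (-1 : SL2 F) = 1 by
      apply sl_ext <;> simp <;> linear_combination -h5, map_one, one_mul, one_mul] at h6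
    exact Pr.of_conj' g h6
  · obtain ⟨m, t, ht, rfl⟩ := V.exists_eq hD hl
    obtain ⟨a, ha⟩ := V.act t ht
    have h3 := (V.isEll_iff hD ⟨a, m, ha, rfl, rfl⟩ (V.Dj t ht)).2 he
    have h4 := V.E t ht a m ha h3 u hu e h0
    rw [h4] at ha ⊢
    obtain rfl := V.act_unique ha one_ne_zero (by simp)
    rw [dgm_one, mul_one] at h3
    rw [mul_one]
    exact h1 m h3.not_isSc fun h => H33.isEll_iff.1 h3 (-1) (by rw [h, m.det_coe]; ring)

theorem conj_mem (m : SL2 F) :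
    (V.φ (weyl F) * R.ν)⁻¹ * V.φ m * (V.φ (weyl F) * R.ν) ∈ V.φ.range := by
  have hn := D.N.mul_mem V.wi.1 R.ν_mem
  have e : wOf D.P (V.φ (weyl F) * R.ν) = sim D.P R.i * wOf D.P R.ν := by
    rw [wOf_mul_N V.wi.1 R.ν_mem, V.wi.2]
  generalize V.φ (weyl F) * R.ν = n at hn e
  have h0 := D.N.mul_mem (D.S_mem R.i) (D.nJ_mem Set.univ)
  have e0 : wOf D.P (R.i * D.n0) = wOf D.P n := by rw [wOf_mul_N (D.S_mem _) (D.nJ_mem _), wOf_S, e, R.wν]
  have h1 : ∀ s, ∃ s', n⁻¹ * V.φ (upper s) * n = V.φ (upper s') := fun s => (V.Xi _).1 (D.mem_X.2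
    ⟨D.conj_mem_U_congr h0 hn e0 (D.mem_X.1 (V.up_mem s)).2, by
      have := D.U_norm' (b := n * (R.i * D.n0)) (wOf_eq_one_iff.1 (by
        rw [wOf_mul_N hn h0, e0, e, mul_assoc, ← mul_assoc (wOf _ _), ← R.comm, mul_assoc,
          (bn_exch D.P).s_mul_s_mul, mul_eq_one_iff_eq_inv, (bn_exch D.P).isLongest_inv R.longest]))
        (D.X_le_U _ (V.up_mem s))
      simpa [mul_assoc] using this⟩)
  refine mem_cjs.1 ((H12.LC.sl_induction (K := (cjs V.φ.range n).comap V.φ)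
    (fun s => Subgroup.mem_comap.2 (mem_cjs.2 ?_)) fun s => Subgroup.mem_comap.2 (mem_cjs.2 ?_)).ge
      (Subgroup.mem_top m))
  · obtain ⟨s', h⟩ := h1 s
    exact ⟨_, h.symm⟩
  · obtain ⟨s', h⟩ := h1 (-s)
    obtain ⟨a, ha⟩ := V.exists_act (inv_mul_mem_H V.wi.1 (D.N.mul_mem (D.N.mul_mem (D.N.inv_mem hn) V.wi.1) hn)
      (by rw [wOf_mul_N (D.N.mul_mem (D.N.inv_mem hn) V.wi.1) hn, wOf_mul_N (D.N.inv_mem hn) V.wi.1, wOf_inv, e,
        V.wi.2, mul_assoc, R.comm, ← mul_assoc (sim _ _), R.comm, inv_mul_cancel_left]))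
    refine ⟨weyl F * cj a (upper s') * (weyl F)⁻¹, ?_⟩
    rw [lower_eq, map_mul, map_mul, map_mul, map_mul, map_inv, ← mul_inv_eq_iff_eq_mul.2 (ha _), ← h]
    group

include V in
theorem main (hD : D.Good) (hgen : Subgroup.normalClosure (D.U : Set G) = ⊤) :
    ∃ x : G, ¬ p ∣ orderOf x ∧ ∀ g ≠ 1, Pr x x g := by
  suffices ∃ x, ¬ p ∣ Nat.card (Subgroup.centralizer ({x} : Set G)) ∧
      (∀ m : SL2 F, ¬ IsSc (m : M2 F) → (m : M2 F).trace ≠ -2 → R.Sx x (V.φ m)) ∧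
      (R.Sx x (V.φ (-1)) ∨ ∀ m : SL2 F, ¬ IsSc (m : M2 F) → R.Sx x (V.φ m)) by
    obtain ⟨x, hx, h1, h2⟩ := this
    exact ⟨x, not_dvd_orderOf hx, fun g => V.fin hD hgen hx h1 h2⟩
  have h4 : ∀ a : F, a ^ 2 = 4 → a = 2 ∨ a = -2 := fun a h =>
    sq_eq_sq_iff_eq_or_eq_neg.1 (h.trans (by norm_num))
  by_cases hp2 : p = 2
  · have h2 : (2 : F) = 0 := by simpa [hp2] using CharP.cast_eq_zero F p
    obtain ⟨⟨t, ht, h1⟩, hν⟩ := V.even hp2
    obtain ⟨a, ha⟩ := V.act t ht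
    obtain ⟨e, he⟩ := FiniteField.isSquare_of_char_two ((ringChar.eq F p).trans hp2) (a : F)
    have he0 : e ≠ 0 := fun h => a.ne_zero (by rw [he, h, mul_zero])
    have hz := (act_D e⁻¹ (inv_ne_zero he0)).mul ha
    rw [show Units.mk0 e⁻¹ (inv_ne_zero he0) ^ 2 * a = 1 from Units.ext (by simp [he]; field_simp)] at hz
    have hzH := mul_mem (V.Di e⁻¹ (inv_ne_zero he0)) (V.Dj t ht)
    obtain ⟨τ, hτ⟩ := exists_ell (one_ne_zero (α := F))
    have h0 : ∀ a : F, a ≠ 0 → a ^ 2 ≠ 4 := fun a h h' => h ((h4 a h').elim (·.trans h2) (by simpa [h2] using ·))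
    have hτ0 : τ ≠ 0 := fun h => hτ 1 (by rw [h]; linear_combination h2)
    let c : SL2 F := sl2 0 (-1) 1 τ (by simp)
    have hc : (c : M2 F).trace = τ := by simp [c]
    have hx := V.reg hD hgen ⟨a, c * hxD e⁻¹ (inv_ne_zero he0), ha, rfl, rfl⟩ (H33.isEll_iff.2 fun y h =>
      hτ (y / e) (by
        simp [c, hxD, dgm, he, he0] at h
        field_simp
        linear_combination h)) h1
    rw [map_mul, mul_assoc] at hx
    generalize V.φ (hxD e⁻¹ (inv_ne_zero he0)) * V.ψ (hxD t ht) = z at hz hzH hx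
    have hz1 : ∀ m, z * V.φ m = V.φ m * z := fun m => by rw [hz, cj_one]
    have hz' : Act V.φ z⁻¹ 1 := fun m => by rw [cj_one, inv_mul_eq_iff_eq_mul, ← mul_assoc, hz1, mul_inv_cancel_right]
    obtain ⟨c', hc'⟩ := V.conj_mem c
    have hτ' : (c' : M2 F).trace ≠ 0 := fun h => hτ0 (by
      have h3 : c' * c' = 1 := Subtype.ext (by
        rw [Matrix.SpecialLinearGroup.coe_mul, sq_eq, h, c'.det_coe]
        apply m2_ext <;> simp <;> linear_combination -h2)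
      have h5 : V.φ (c * c) = 1 := by
        rw [← mul_left_inj (V.φ (weyl F) * R.ν), ← mul_right_inj (V.φ (weyl F) * R.ν)⁻¹, one_mul, inv_mul_cancel,
          ← map_one V.φ, ← h3, map_mul, map_mul, hc']
        group
      have := V.mem_B.1 (h5 ▸ D.B.one_mem)
      rw [sl_mul_apply] at this
      simpa [c] using this)
    have key : ∀ A B : SL2 F, (A : M2 F).trace = τ → (B : M2 F).trace = (c' : M2 F).trace →
        R.Sx (V.φ c * z) (V.φ (A * B)) := fun A B hA hB =>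
      ⟨_, V.rel_mem_L (hz.rel A) hzH, _, V.rel_mem_L (hz'.rel B) (inv_mem hzH),
        (hz.rel c).isConj (hz.rel A) (by rw [c.det_coe, hc, mul_one]; exact h0 _ hτ0) (hA.trans hc.symm)
          (A.2.trans c.2.symm),
        (isConj_iff.2 ⟨(V.φ (weyl F) * R.ν)⁻¹, by
          rw [hc', ← hν z hzH]
          calc _ = (V.φ (weyl F) * R.ν)⁻¹ * V.φ c * (z * V.φ (weyl F)) * R.ν := by group
            _ = _ := by rw [hz1]; group⟩ : IsConj _ (V.φ c' * z⁻¹)).trans ((hz'.rel c').isConj (hz'.rel B)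
          (by rw [c'.det_coe, mul_one]; exact h0 _ hτ') hB (B.2.trans c'.2.symm)),
        by rw [map_mul, mul_assoc, ← mul_assoc z, hz1]; group⟩
    refine ⟨_, hx, fun m hm h => ?_, ?_⟩
    · obtain ⟨A, B, hA, hB, rfl⟩ := exists_prod hm (Or.inl (h0 _ (by simpa [h2] using h)))
      exact key A B hA hB
    by_cases h : (c' : M2 F).trace = τ
    · left
      convert key c c⁻¹ hc (by rw [trace_inv, hc, h]) using 2
      rw [mul_inv_cancel]
      apply sl_ext <;> simp <;> linear_combination -h2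
    · refine Or.inr fun m hm => ?_
      obtain ⟨A, B, hA, hB, rfl⟩ := exists_prod hm ((em _).symm.imp_right fun h' =>
        Or.inl ⟨(h4 _ h').elim id (by simpa [h2] using ·), Or.inl h⟩)
      exact key A B hA hB
  have h2 : (2 : F) ≠ 0 := Ring.two_ne_zero (by rwa [ringChar.eq F p])
  have ha := V.odd hp2
  have hH := V.Dj (-1) (by simp)
  obtain ⟨τ, hτ⟩ := exists_ell (δ := (-1 : F)) (by simp)
  have hτ0 : τ ≠ -τ := fun h => hτ 1 (by rw [mul_left_cancel₀ h2 (show 2 * τ = 2 * 0 by linear_combination h)]; simp)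
  have hM : IsEll !![0, 1; 1, τ] := H33.isEll_iff.2 fun y => by simpa using hτ y
  obtain ⟨x, hx⟩ := ha.exists_rel (M := !![0, 1; 1, τ]) (by simp)
  have key : ∀ (A B : M2 F) (m : SL2 F), A.trace = τ → B.trace = τ → A.det = -1 → B.det = -1 →
      A * B = m → R.Sx x (V.φ m) := fun A B m h1 h3 h5 h6 e => by
    obtain ⟨a, h7⟩ := ha.exists_rel (M := A) h5
    obtain ⟨b, h8⟩ := ha.exists_rel (M := B) h6
    have h9 := h7.mul h8
    rw [e, ← map_mul, neg_mul_neg, one_mul, map_one] at h9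
    rw [hxD_neg_one] at hH
    exact ⟨a, V.rel_mem_L h7 hH, b, V.rel_mem_L h8 hH,
      hx.isConj h7 (disc_ne hM h2) (by simp [h1]) (by simp [h5]),
      hx.isConj h8 (disc_ne hM h2) (by simp [h3]) (by simp [h6]), (rel_one m).unique h9⟩
  refine ⟨x, V.reg hD hgen (hxD_neg_one (F := F') ▸ hx) hM fun h => h2 ?_, fun m hm h => ?_,
    Or.inl (key !![0, 1; 1, τ] !![τ, -1; -1, 0] _ (by simp) (by simp) (by simp) (by simp) ?_)⟩
  · rw [hxD_neg_one] at h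
    have := congrArg Units.val (V.act_unique ha one_ne_zero (by simp [h]))
    simp only [Units.val_neg, Units.val_one] at this
    linear_combination -this
  · obtain ⟨c, h1, h3, h5⟩ := exists_tr (τ := -τ) (δ := -1) (t := τ) m.2 hm
      ((em _).symm.imp_right fun h' => Or.inl ⟨(h4 _ h').resolve_right h, Or.inl hτ0⟩)
    refine key (-c.adjugate) (c * m) m (by rw [← neg_neg τ, ← h1]; simp [Matrix.adjugate_fin_two, Matrix.trace_fin_two]) h5
      (by simp [Matrix.det_neg, Matrix.det_adjugate, h3]) (by simp [h3]) ?_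
    rw [neg_mul, ← mul_assoc, Matrix.adjugate_mul, h3]
    simp
  · apply m2_ext <;> simp

end Lev

end H68.Gow
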