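/- Squares of conjugacy classes in split groups of Lie type (Ellers-Gordeev): interface. -/
import Cfsg.Agent.H68.Ore3
import Cfsg.Agent.H54.GRDBruhat
import Cfsg.Agent.H57.StA

set_option autoImplicit false
set_option linter.unusedSectionVars false

namespace H68.EG

open H54 H64 H33 H61 H83 H68.Gow
open H57 (xA)

universe u

/-- `SL_{n+1}`. -/
abbrev SLn (n : ℕ) (F : Type*) [Field F] := Matrix.SpecialLinearGroup (Fin (n + 1)) F

section Defs

variable {F : Type*} [Field F] {n : ℕ}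

/-- Regular unipotent elements. -/
def RU (m : SLn n F) : Prop :=
  ((m : Matrix (Fin (n + 1)) (Fin (n + 1)) F) - 1) ^ (n + 1) = 0 ∧
    ((m : Matrix (Fin (n + 1)) (Fin (n + 1)) F) - 1) ^ n ≠ 0

/-- Elementary matrices next to the diagonal. -/
def eU (i : Fin n) (t : F) : SLn n F := xA i.castSucc i.succ t

/-- Elementary matrices next to the diagonal. -/
def eL (i : Fin n) (t : F) : SLn n F := xA i.succ i.castSucc t

variable {Φ ι G : Type*} [Group G] {R : WData Φ ι}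

/-- The torus of the node `r` acts on the node `t` with enough room. -/
def Adj (φ : ι → SL2 F →* G) (r t : ι) : Prop :=
  ∀ e : Fˣ, ∃ c : Fˣ, c ^ 2 ≠ e ∧ ∃ a, a ≠ 1 ∧ Act (φ t) (φ r (hxD (c : F) c.ne_zero)) a

/-- Split rank one groups with connected diagram. -/
structure SG (T : GRD R G) (F : Type*) [Field F] where
  φ : ι → SL2 F →* G
  up : ∀ i g, g ∈ T.X (R.p i) ↔ ∃ t, g = φ i (upper t)
  lo : ∀ i g, g ∈ T.X (R.neg (R.p i)) ↔ ∃ t, g = φ i (lower t)
  act : ∀ i j (c : Fˣ), ∃ a, Act (φ j) (φ i (hxD (c : F) c.ne_zero)) a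
  conn : ∀ i j, Relation.ReflTransGen (Adj φ) i j
  gen : gen T.X Set.univ = ⊤

/-- A Levi subgroup of type `A_n` with a real central element which has no fixed point on the
other root groups. -/
structure LV (T : GRD R G) (F : Type*) [Field F] (n : ℕ) where
  Λ : SLn n F →* G
  nd : Fin n → ι
  up : ∀ i g, g ∈ T.X (R.p (nd i)) ↔ ∃ t, g = Λ (eU i t)
  lo : ∀ i g, g ∈ T.X (R.neg (R.p (nd i))) ↔ ∃ t, g = Λ (eL i t)
  ne : ∀ i, Λ (eU i 1) ≠ 1
  z : G
  zH : z ∈ T.H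
  zq : z ^ Nat.card F = z
  zU : ∀ i t, z * Λ (eU i t) = Λ (eU i t) * z
  zL : ∀ i t, z * Λ (eL i t) = Λ (eL i t) * z
  fix : ∀ r, r ∉ R.PhiJ (Set.range nd) → ∀ x ∈ T.X r, z * x = x * z → x = 1
  diag : ∀ δ : Fˣ, ∃ y, y * z = z * y ∧
    ∀ i t, y * Λ (eU i t) * y⁻¹ = Λ (eU i ((if (i : ℕ) = 0 then (δ : F) else 1) * t))
  real : ∃ y, y * z * y⁻¹ = z⁻¹ ∧
    ((∀ i, ∀ x ∈ T.X (R.p (nd i)), y * x * y⁻¹ ∈ T.X (R.p (nd i))) ∨
      ∃ σ : Equiv.Perm (Fin n), ∀ i, ∀ x ∈ T.X (R.p (nd i)), y * x * y⁻¹ ∈ T.X (R.neg (R.p (nd (σ i)))))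

end Defs

/-- A group with all the data. -/
def Mod (F G : Type*) [Field F] [Group G] : Prop :=
  ∃ (Φ ι : Type) (_ : Finite Φ) (R : WData Φ ι) (T : GRD R G) (n : ℕ),
    Nonempty (SG T F) ∧ Nonempty (LV T F n)

/-- The conclusion: a real class whose square contains all noncentral elements. -/
def Thom (G : Type*) [Group G] : Prop :=
  ∃ x : G, IsConj x x⁻¹ ∧ ∀ g, g ∉ Subgroup.center G → Pr x x g

/-- Facts on regular unipotent matrices. -/
def JobRU : Prop := ∀ (F : Type u) [Field F] (n : ℕ),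
  (∀ (l : List (Fin n)) (c : Fin n → F), l.Nodup → (∀ i, i ∈ l) → (∀ i, c i ≠ 0) →
    RU (l.map fun i => eU i (c i)).prod ∧ RU (l.map fun i => eL i (c i)).prod) ∧
  (∀ j j' : SLn n F, RU j → RU j' → ∃ g : GL (Fin (n + 1)) F,
    (g : Matrix (Fin (n + 1)) (Fin (n + 1)) F) * j = j' * g) ∧
  (∀ j : SLn n F, RU j → RU j⁻¹) ∧
  (∀ K : Subgroup (SLn n F), (∀ i t, eU i t ∈ K) → (∀ i t, eL i t ∈ K) → K = ⊤)

/-- Nonscalar matrices are products of two regular unipotent matrices. -/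
def JobP : Prop := ∀ (F : Type u) [Field F] [Finite F], 4 ≤ Nat.card F → ∀ (n : ℕ) (m : SLn n F),
  (¬ ∃ c : F, (m : Matrix (Fin (n + 1)) (Fin (n + 1)) F) = c • 1) →
    ∃ j j', RU j ∧ RU j' ∧ m = j * j'

/-- The abstract theorem. -/
def JobMain : Prop := ∀ (F G : Type u) [Field F] [Finite F] [Group G] [Finite G],
  4 ≤ Nat.card F → Mod F G → Thom G

def JobA : Prop := ∀ (F : Type u) [Field F] [Finite F], 4 ≤ Nat.card F → ∀ N : ℕ, 2 ≤ N →
  Mod F (Matrix.SpecialLinearGroup (Fin N) F)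

def JobC : Prop := ∀ (F : Type u) [Field F] [Finite F], 9 ≤ Nat.card F → ∀ m : ℕ, 2 ≤ m →
  Mod F (Matrix.symplecticGroup (Fin m) F)

def JobB : Prop := ∀ (F : Type u) [Field F] [Finite F], 9 ≤ Nat.card F → Odd (Nat.card F) →
  ∀ m : ℕ, 3 ≤ m → Mod F (Cfsg.Omega F (Cfsg.quadFormOdd m F))

def JobD : Prop := ∀ (F : Type u) [Field F] [Finite F], 9 ≤ Nat.card F →
  ∀ m : ℕ, 4 ≤ m → Mod F (Cfsg.Omega F (Cfsg.quadFormPlus m F))

def JobE : Prop := ∀ (F : Type u) [Field F] [Finite F], 9 ≤ Nat.card F →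
  ∀ D ∈ [Cfsg.Lie.chevG2, Cfsg.Lie.chevF4, Cfsg.Lie.chevE6, Cfsg.Lie.chevE7, Cfsg.Lie.chevE8],
    Mod F (D.group F)

section Kit

variable {F : Type*} [Field F] [Finite F] {Φ ι G : Type*} [Group G] {R : WData Φ ι}

theorem exists_unit_ne (e : Fˣ) {k : ℕ} (hk : 0 < k) (h : k + 4 ≤ Nat.card F ∨ k = 1 ∧ 4 ≤ Nat.card F) :
    ∃ c : Fˣ, c ^ 2 ≠ e ∧ c ^ k ≠ 1 := by
  classical
  have := Fintype.ofFinite F
  have h1 : ∀ (m : ℕ) (a : Fˣ), 0 < m → (Finset.univ.filter fun c : Fˣ => c ^ m = a).card ≤ m := by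
    intro m a hm
    refine le_trans (Finset.card_le_card_of_injOn (fun c => (c : F))
      (t := (Polynomial.nthRoots m (a : F)).toFinset) (fun c hc => ?_)
      fun _ _ _ _ h => Units.ext h) ((Multiset.toFinset_card_le _).trans (Polynomial.card_nthRoots _ _))
    simp only [Finset.coe_filter, Finset.mem_univ, true_and, Set.mem_ofPred_eq] at hc
    simp [Polynomial.mem_nthRoots hm, ← hc]
  by_contra hc
  push Not at hc
  have h2 : (Finset.univ : Finset Fˣ) ⊆ (Finset.univ.filter fun c : Fˣ => c ^ 2 = e) ∪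
      Finset.univ.filter fun c : Fˣ => c ^ k = 1 := fun c _ => by
    by_cases h : c ^ 2 = e <;> simp [h, hc]
  have h3 := (Finset.card_le_card h2).trans (Finset.card_union_le _ _)
  have h4 := h1 k 1 hk
  rw [Finset.card_univ, Fintype.card_units, ← Nat.card_eq_fintype_card] at h3
  by_cases h5 : Nat.card F = 4
  · have : ringChar F = 2 := by
      rw [FiniteField.even_card_iff_char_two, ← Nat.card_eq_fintype_card, h5]
    have h6 : (Finset.univ.filter fun c : Fˣ => c ^ 2 = e).card ≤ 1 := Finset.card_le_one.2 fun a ha b hb => by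
      have : CharP F 2 := this ▸ ringChar.charP F
      simp only [Finset.mem_filter, Finset.mem_univ, true_and] at ha hb
      have h7 : (a : F) ^ 2 = (b : F) ^ 2 := congrArg Units.val (ha.trans hb.symm)
      exact Units.ext (frobenius_inj F 2 h7)
    omega
  · have := h1 2 e two_pos
    omega

/-- The bond condition from a Cartan integer. -/
theorem adj_of_pow {φ : ι → SL2 F →* G} {r t : ι} {k : ℕ} (hk : 0 < k)
    (h : k + 4 ≤ Nat.card F ∨ k = 1 ∧ 4 ≤ Nat.card F)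
    (ha : ∀ c : Fˣ, Act (φ t) (φ r (hxD (c : F) c.ne_zero)) (c ^ (-(k : ℤ)))) : Adj φ r t := fun e =>
  let ⟨c, h1, h2⟩ := exists_unit_ne e hk h
  ⟨c, h1, _, by rwa [zpow_neg, zpow_natCast, ne_eq, inv_eq_one], ha c⟩

/-- Parametrisation of a root group by counting. -/
theorem iff_of_card {X : Subgroup G} {x : F → G} (h1 : ∀ t, x t ∈ X) (h2 : Function.Injective x)
    (h3 : Nat.card X = Nat.card F) (g : G) : g ∈ X ↔ ∃ t, g = x t := by
  have : Finite X := Nat.finite_of_card_ne_zero (h3 ▸ Nat.card_pos.ne')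
  refine ⟨fun hg => ?_, by rintro ⟨t, rfl⟩; exact h1 t⟩
  obtain ⟨t, ht⟩ := ((Nat.bijective_iff_injective_and_card fun t => (⟨x t, h1 t⟩ : X)).2
    ⟨fun a b e => h2 (congrArg Subtype.val e), h3.symm⟩).2 ⟨g, hg⟩
  exact ⟨t, (congrArg Subtype.val ht).symm⟩

theorem gen_top_of_perfect (T : GRD R G) (top : T.Gp = ⊤) (hp : commutator G = ⊤)
    (hH : ∀ a ∈ T.H, ∀ b ∈ T.H, a * b = b * a) : gen T.X Set.univ = ⊤ := by
  have key : ∀ g, ∃ u ∈ gen T.X Set.univ, ∃ h ∈ T.H, g = u * h := fun g =>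
    T.mem_gen_sup_H.1 (show g ∈ T.Gp from top ▸ Subgroup.mem_top g)
  have hn : (gen T.X Set.univ).Normal := ⟨fun x hx g => by
    obtain ⟨u, hu, h, hh, rfl⟩ := key g
    simpa [mul_assoc] using mul_mem (mul_mem hu (T.h_conj_gen hh hx)) (inv_mem hu)⟩
  rw [eq_top_iff, ← hp, commutator_def, Subgroup.commutator_le]
  intro a _ b _
  obtain ⟨u, hu, h, hh, rfl⟩ := key a
  obtain ⟨v, hv, k, hk, rfl⟩ := key b
  rw [← QuotientGroup.eq_one_iff]
  have e : ∀ w ∈ gen T.X Set.univ, (w : G ⧸ gen T.X Set.univ) = 1 := fun w hw =>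
    (QuotientGroup.eq_one_iff w).2 hw
  simp only [commutatorElement_def, QuotientGroup.mk_mul, QuotientGroup.mk_inv, e u hu, e v hv, one_mul]
  rw [← QuotientGroup.mk_mul, hH h hh k hk, QuotientGroup.mk_mul]
  group

/-- A unit whose small powers are nontrivial. -/
theorem exists_gen : ∃ s : Fˣ, ∀ k : ℤ, k ≠ 0 → k.natAbs + 1 < Nat.card F → s ^ k ≠ 1 := by
  obtain ⟨s, hs⟩ := IsCyclic.exists_ofOrder_eq_natCard (α := Fˣ)
  refine ⟨s, fun k hk h e => ?_⟩
  rw [← orderOf_dvd_iff_zpow_eq_one, hs, Nat.card_units, Int.natCast_dvd] at e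
  have := Nat.le_of_dvd (Int.natAbs_pos.2 hk) e
  omega

end Kit

end H68.EG
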