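/- Gauss decomposition with prescribed semisimple part (Ellers-Gordeev). -/
import Cfsg.Agent.H68.EGSpec

set_option autoImplicit false
set_option linter.unusedSectionVars false

namespace H68.EG

open H54 H64 H33 H61 H83 H68.Gow H68.OreSL

section SL2

variable {F : Type*} [Field F]

theorem exists_ldu {m : SL2 F} {d : Fˣ} (e : m 0 0 = d) :
    ∃ b c, m = lower b * hxD (d : F) d.ne_zero * upper c := by
  have hd := sl_det m
  have h : m 0 0 ≠ 0 := e ▸ d.ne_zero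
  simp only [← e]
  refine ⟨m 1 0 / m 0 0, m 0 1 / m 0 0, ?_⟩
  apply sl_ext <;> simp [sl_mul_apply, hxD] <;> field_simp
  linear_combination hd

theorem exists_uldu (m : SL2 F) : ∃ a b c, ∃ d : Fˣ, m = upper a * lower b * hxD (d : F) d.ne_zero * upper c := by
  have key : ∀ a, (upper (-a) * m : SL2 F) 0 0 ≠ 0 → ∃ a b c, ∃ d : Fˣ,
      m = upper a * lower b * hxD (d : F) d.ne_zero * upper c := fun a h => by
    obtain ⟨b, c, e⟩ := exists_ldu (m := upper (-a) * m) (d := Units.mk0 _ h) rfl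
    generalize Units.mk0 _ h = d at e
    refine ⟨a, b, c, d, ?_⟩
    rw [hx_upper_neg, inv_mul_eq_iff_eq_mul] at e
    simpa only [mul_assoc] using e
  by_cases h : m 0 0 = 0
  · refine key 1 fun h1 => ?_
    have hd := sl_det m
    simp [sl_mul_apply, h] at h1 hd
    simp [h1] at hd
  · exact key 0 (by simpa [sl_mul_apply] using h)

/-- A nonscalar matrix is conjugate to a matrix with prescribed corner. -/
theorem exists_corner {M : M2 F} (h : ¬ ∃ c : F, M = c • 1) (δ : F) :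
    ∃ P : SL2 F, ((P : M2 F) * M * (P⁻¹ : SL2 F)) 0 0 = δ := by
  have key : ∀ M : M2 F, M 1 0 ≠ 0 → ∃ P : SL2 F, ((P : M2 F) * M * (P⁻¹ : SL2 F)) 0 0 = δ :=
    fun M h => ⟨upper ((δ - M 0 0) / M 1 0), by
      rw [← hx_upper_neg]; simp only [m2_mul_apply]; simp; field_simp; ring⟩
  have step : ∀ Q : SL2 F, ((Q : M2 F) * M * (Q⁻¹ : SL2 F)) 1 0 ≠ 0 →
      ∃ P : SL2 F, ((P : M2 F) * M * (P⁻¹ : SL2 F)) 0 0 = δ := fun Q hQ =>
    let ⟨P, hP⟩ := key _ hQ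
    ⟨P * Q, by simpa only [mul_inv_rev, Matrix.SpecialLinearGroup.coe_mul, mul_assoc] using hP⟩
  by_cases h1 : M 1 0 = 0
  swap
  · exact key M h1
  have e : ∀ t : F, ((lower t)⁻¹ : SL2 F) = lower (-t) := fun t => inv_eq_of_mul_eq_one_right (by
    apply sl_ext <;> simp [sl_mul_apply])
  by_cases h2 : M 0 1 = 0
  · refine step (lower 1) fun h3 => h ⟨M 0 0, ?_⟩
    rw [e] at h3
    simp only [m2_mul_apply] at h3
    simp [h1, h2] at h3
    apply m2_ext <;> simp [h1, h2]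
    linear_combination -h3
  · refine step (weyl F) fun h3 => h2 ?_
    have : ((weyl F)⁻¹ : SL2 F) = sl2 0 1 (-1) 0 (by simp) := inv_eq_of_mul_eq_one_right (by
      apply sl_ext <;> simp [sl_mul_apply])
    rw [this] at h3
    simp only [m2_mul_apply] at h3
    simpa using h3

end SL2

variable {F : Type*} [Field F] {Φ ι G : Type*} [Group G] {R : WData Φ ι} [Finite Φ] {T : GRD R G}

theorem X_le_of_PhiJ {K : Subgroup G} {J : Set ι} (hH : T.H ≤ Subgroup.normalizer (K : Set G))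
    (h1 : ∀ j ∈ J, T.X (R.p j) ≤ K) (h2 : ∀ j ∈ J, T.X (R.neg (R.p j)) ≤ K) {r : Φ}
    (hr : r ∈ R.PhiJ J) : T.X r ≤ K := by
  obtain ⟨w, hw, j, hj, rfl⟩ := hr
  obtain ⟨m, hm, -, ha⟩ := T.exists_act_of_mem_WJ hw
  have : Subgroup.closure (T.n '' J) ≤ Subgroup.normalizer (K : Set G) := (Subgroup.closure_le _).2 (by
    rintro _ ⟨i, hi, rfl⟩
    obtain ⟨a, ha, y, hy, b, hb, h, hh, -, e⟩ := T.exists_n_eq i
    rw [e]
    exact mul_mem (Subgroup.le_normalizer (mul_mem (mul_mem (h1 i hi ha) (h2 i hi hy)) (h1 i hi hb))) (hH hh))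
  rw [← ha.map_X]
  rintro _ ⟨x, hx, rfl⟩
  exact (Subgroup.mem_normalizer_iff.1 (this hm) x).1 (h1 j hj hx)

theorem H_le_normalizer {K : Subgroup G} {S : Set Φ} (h : K = gen T.X S) :
    T.H ≤ Subgroup.normalizer (K : Set G) := h ▸ T.H_le_normalizer_gen S

variable (T) in
/-- `g` is conjugate into `V h U`. -/
def Av (g h : G) : Prop := ∃ v ∈ T.V, ∃ u ∈ T.U, IsConj g (v * h * u)

namespace SG

variable (S : SG T F)

theorem up_mem (i : ι) (t : F) : S.φ i (upper t) ∈ T.X (R.p i) := (S.up i _).2 ⟨t, rfl⟩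

theorem lo_mem (i : ι) (t : F) : S.φ i (lower t) ∈ T.X (R.neg (R.p i)) := (S.lo i _).2 ⟨t, rfl⟩

theorem up_U (i : ι) (t : F) : S.φ i (upper t) ∈ T.U := T.X_le_U (R.pos_p i) (S.up_mem i t)

theorem lo_V (i : ι) (t : F) : S.φ i (lower t) ∈ T.V := T.X_le_V (R.not_pos_neg_p i) (S.lo_mem i t)

theorem mem_of {K : Subgroup G} {i : ι} (h1 : T.X (R.p i) ≤ K) (h2 : T.X (R.neg (R.p i)) ≤ K)
    (m : SL2 F) : S.φ i m ∈ K :=
  (H12.LC.sl_induction (K := K.comap (S.φ i)) (fun t => h1 (S.up_mem i t))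
    fun t => h2 (S.lo_mem i t)).ge (Subgroup.mem_top m)

theorem eq_top {K : Subgroup G} (h : ∀ i m, S.φ i m ∈ K) : K = ⊤ := by
  let A : Set Φ := {r | ∃ i, r = R.p i ∨ r = R.neg (R.p i)}
  have h1 : H64.gen T.X A ≤ K := gen_le (by
    rintro _ ⟨i, rfl | rfl⟩ g hg
    · obtain ⟨t, rfl⟩ := (S.up i g).1 hg; exact h _ _
    · obtain ⟨t, rfl⟩ := (S.lo i g).1 hg; exact h _ _)
  rw [eq_top_iff, ← S.gen]
  refine gen_le fun r _ => (X_le_of_PhiJ (J := Set.univ) (H_le_normalizer rfl)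
    (fun j _ => le_gen T.X (S := A) ⟨j, Or.inl rfl⟩) (fun j _ => le_gen T.X (S := A) ⟨j, Or.inr rfl⟩) ?_).trans h1
  obtain ⟨w, i, rfl⟩ := R.exists_simple r
  exact ⟨w, R.WJ_univ ▸ Subgroup.mem_top w, i, trivial, rfl⟩

theorem induction {p : G → Prop} (h1 : p 1) (h : ∀ i m g, p g → p (S.φ i m * g)) (g : G) : p g := by
  have : g ∈ Subgroup.closure {g | ∃ i m, g = S.φ i m} :=
    (S.eq_top fun i m => Subgroup.subset_closure (by exact ⟨i, m, rfl⟩)).ge (Subgroup.mem_top g)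
  induction this using Subgroup.closure_induction_left with
  | one => exact h1
  | mul_left x hx y _ ih => obtain ⟨i, m, rfl⟩ := hx; exact h i m y ih
  | inv_mul_cancel x hx y _ ih => obtain ⟨i, m, rfl⟩ := hx; exact map_inv (S.φ i) m ▸ h i _ y ih

theorem conj_Up (i : ι) (m : SL2 F) {u : G} (hu : u ∈ T.Up i) : S.φ i m * u * (S.φ i m)⁻¹ ∈ T.Up i :=
  (Subgroup.mem_normalizer_iff.1 (S.mem_of (K := Subgroup.normalizer (T.Up i : Set G))
    (fun _ hx => GRD.mem_normalizer_of_conj (fun _ => T.X_conj_Up hx) fun _ => T.X_conj_Up (inv_mem hx))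
    (fun _ hx => GRD.mem_normalizer_of_conj (fun _ => T.X_neg_conj_Up hx)
      fun _ => T.X_neg_conj_Up (inv_mem hx)) m) u).1 hu

theorem conj_Vp (i : ι) (m : SL2 F) {u : G} (hu : u ∈ T.opp.Up i) :
    S.φ i m * u * (S.φ i m)⁻¹ ∈ T.opp.Up i := by
  have e : ∀ x ∈ T.X (R.p i), x ∈ T.opp.X (R.opp.neg (R.opp.p i)) := fun x hx =>
    (show R.neg (R.neg (R.p i)) = R.p i from R.neg_neg _).symm ▸ hx
  exact (Subgroup.mem_normalizer_iff.1 (S.mem_of (K := Subgroup.normalizer (T.opp.Up i : Set G))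
    (fun _ hx => GRD.mem_normalizer_of_conj (fun _ => T.opp.X_neg_conj_Up (e _ hx))
      fun _ => T.opp.X_neg_conj_Up (e _ (inv_mem hx)))
    (fun _ hx => GRD.mem_normalizer_of_conj (fun _ => T.opp.X_conj_Up hx)
      fun _ => T.opp.X_conj_Up (inv_mem hx)) m) u).1 hu

theorem decU (i : ι) {u : G} (hu : u ∈ T.U) : ∃ t, ∃ r ∈ T.Up i, u = S.φ i (upper t) * r := by
  obtain ⟨x, hx, r, hr, rfl⟩ := T.mem_U_split' i hu
  obtain ⟨t, rfl⟩ := (S.up i x).1 hx
  exact ⟨t, r, hr, rfl⟩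

theorem decU' (i : ι) {u : G} (hu : u ∈ T.U) : ∃ t, ∃ r ∈ T.Up i, u = r * S.φ i (upper t) := by
  obtain ⟨r, hr, x, hx, rfl⟩ := T.mem_U_split i hu
  obtain ⟨t, rfl⟩ := (S.up i x).1 hx
  exact ⟨t, r, hr, rfl⟩

theorem decV (i : ι) {u : G} (hu : u ∈ T.V) : ∃ t, ∃ r ∈ T.opp.Up i, u = r * S.φ i (lower t) := by
  obtain ⟨r, hr, x, hx, rfl⟩ := T.opp.mem_U_split i hu
  obtain ⟨t, rfl⟩ := (S.lo i x).1 hx
  exact ⟨t, r, hr, rfl⟩

/-- The elements of the rank one tori. -/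
def D (i : ι) (c : Fˣ) : G := S.φ i (hxD (c : F) c.ne_zero)

theorem D_mul (i : ι) (c d : Fˣ) : S.D i (c * d) = S.D i c * S.D i d := by
  rw [D, D, D, ← map_mul]
  congr 1
  apply sl_ext <;> simp [sl_mul_apply, hxD, mul_comm]

theorem D_one (i : ι) : S.D i 1 = 1 := by
  have := S.D_mul i 1 1
  rwa [one_mul, left_eq_mul] at this

theorem D_inv (i : ι) (c : Fˣ) : (S.D i c)⁻¹ = S.D i c⁻¹ :=
  inv_eq_of_mul_eq_one_right (by rw [← D_mul, mul_inv_cancel, D_one])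

/-- The part of the torus attached to a set of nodes. -/
def HT (A : Set ι) : Subgroup G := Subgroup.closure {g | ∃ i ∈ A, ∃ c, g = S.D i c}

theorem D_mem {A : Set ι} {i : ι} (hi : i ∈ A) (c : Fˣ) : S.D i c ∈ S.HT A :=
  Subgroup.subset_closure ⟨i, hi, c, rfl⟩

theorem HT_mono {A B : Set ι} (h : A ⊆ B) : S.HT A ≤ S.HT B :=
  Subgroup.closure_mono fun _ ⟨i, hi, c, e⟩ => ⟨i, h hi, c, e⟩

theorem HT_induction {A : Set ι} {p : G → Prop} (h1 : p 1)
    (h : ∀ i ∈ A, ∀ c, ∀ g ∈ S.HT A, p g → p (S.D i c * g)) {g : G} (hg : g ∈ S.HT A) : p g := by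
  induction hg using Subgroup.closure_induction_left with
  | one => exact h1
  | mul_left x hx y hy ih => obtain ⟨i, hi, m, rfl⟩ := hx; exact h i hi m y hy ih
  | inv_mul_cancel x hx y hy ih => obtain ⟨i, hi, m, rfl⟩ := hx; exact S.D_inv i m ▸ h i hi _ y hy ih

theorem exists_act {A : Set ι} {h : G} (hh : h ∈ S.HT A) (i : ι) : ∃ a, Act (S.φ i) h a :=
  S.HT_induction (p := fun h => ∃ a, Act (S.φ i) h a) ⟨1, act_one⟩
    (fun j _ c _ _ ⟨_, ha⟩ => let ⟨_, hb⟩ := S.act j i c; ⟨_, hb.mul ha⟩) hh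

theorem comm_D {A : Set ι} {h : G} (hh : h ∈ S.HT A) (i : ι) (c : Fˣ) : h * S.D i c = S.D i c * h := by
  obtain ⟨a, ha⟩ := S.exists_act hh i
  rw [D, ha]
  congr 2
  apply sl_ext <;> simp [cj_coe, hxD]

theorem mem_insert {A : Set ι} {t : ι} {k : G} (hk : k ∈ S.HT (insert t A)) :
    ∃ d, ∃ k' ∈ S.HT A, k = S.D t d * k' := by
  refine S.HT_induction (p := fun k => ∃ d, ∃ k' ∈ S.HT A, k = S.D t d * k')
    ⟨1, 1, one_mem _, by rw [D_one, one_mul]⟩ ?_ hk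
  rintro i (rfl | hi) c _ - ⟨d, k, hk, rfl⟩
  · exact ⟨c * d, k, hk, by rw [D_mul, mul_assoc]⟩
  · exact ⟨d, _, mul_mem (S.D_mem hi c) hk, by
      rw [← mul_assoc, S.comm_D (S.D_mem hi c), mul_assoc]⟩

theorem act_upper {i : ι} {h : G} {a : Fˣ} (ha : Act (S.φ i) h a) (t : F) :
    S.φ i (upper t) * h = h * S.φ i (upper ((a : F)⁻¹ * t)) := by
  rw [ha, cj_upper, mul_inv_cancel_left₀ a.ne_zero]

theorem gauss (g : G) : ∃ u₀ ∈ T.U, ∃ v ∈ T.V, ∃ h ∈ S.HT Set.univ, ∃ u ∈ T.U, g = u₀ * v * h * u := by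
  induction g using S.induction with
  | h1 => exact ⟨1, one_mem _, 1, one_mem _, 1, one_mem _, 1, one_mem _, by simp⟩
  | h i m g ih =>
    obtain ⟨u₀, hu₀, v, hv, h, hh, u, hu, rfl⟩ := ih
    obtain ⟨t₀, r₀, hr₀, rfl⟩ := S.decU' i hu₀
    obtain ⟨b, q, hq, rfl⟩ := S.decV i hv
    obtain ⟨a, ha⟩ := S.exists_act hh i
    obtain ⟨a', b', c', d, e⟩ := exists_uldu (m * upper t₀ * lower b)
    have h1 := S.conj_Vp i ((upper a')⁻¹ * (m * upper t₀)) hq
    refine ⟨_, mul_mem (T.Up_le_U i (S.conj_Up i m hr₀)) (S.up_U i a'), _,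
      mul_mem (T.opp.Up_le_U i h1) (S.lo_V i b'), _, mul_mem (S.D_mem (Set.mem_univ i) d) hh, _,
      mul_mem (S.up_U i ((a : F)⁻¹ * c')) hu, ?_⟩
    have e' := congrArg (S.φ i) e
    simp only [map_mul, map_inv] at e' ⊢
    calc _ = S.φ i m * r₀ * S.φ i (upper t₀) * q * (S.φ i (upper t₀))⁻¹ * (S.φ i m)⁻¹ *
          (S.φ i m * S.φ i (upper t₀) * S.φ i (lower b)) * h * u := by group
      _ = S.φ i m * r₀ * S.φ i (upper t₀) * q * (S.φ i (upper t₀))⁻¹ * (S.φ i m)⁻¹ *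
          (S.φ i (upper a') * S.φ i (lower b') * S.D i d) * (S.φ i (upper c') * h) * u := by
        rw [e', D]; group
      _ = _ := by rw [S.act_upper ha]; group

/-- `g` is conjugate into `V h U` with noncentral component at the node `i`. -/
def N (g h : G) (i : ι) : Prop := ∃ q ∈ T.opp.Up i, ∃ r ∈ T.Up i, ∃ b c a, Act (S.φ i) h a ∧
  (b ≠ 0 ∨ c ≠ 0 ∨ a ≠ 1) ∧ IsConj g (q * S.φ i (lower b) * h * (S.φ i (upper c) * r))

variable {S} {g h : G}

theorem _root_.H68.EG.Av.n (hA : Av T g h) {i : ι} {a : Fˣ} (ha : Act (S.φ i) h a) (h1 : a ≠ 1) : S.N g h i := by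
  obtain ⟨v, hv, u, hu, e⟩ := hA
  obtain ⟨b, q, hq, rfl⟩ := S.decV i hv
  obtain ⟨c, r, hr, rfl⟩ := S.decU i hu
  exact ⟨q, hq, r, hr, b, c, a, ha, Or.inr (Or.inr h1), e⟩

theorem N.move {i : ι} (hN : S.N g h i) (d : Fˣ) : Av T g (S.D i d * h) := by
  obtain ⟨q, hq, r, hr, b, c, a, ha, h0, e⟩ := hN
  have h1 : Rel (S.φ i) _ h _ := ⟨a, lower b * upper (a * c), ha, rfl, rfl⟩
  obtain ⟨P, hP⟩ := exists_corner (M := ((lower b * upper (a * c) : SL2 F) : M2 F) * dgm a) (by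
    rintro ⟨x, hx⟩
    have e0 := congrFun₂ hx 0 0
    have e1 := congrFun₂ hx 0 1
    have e2 := congrFun₂ hx 1 0
    have e3 := congrFun₂ hx 1 1
    simp only [m2_mul_apply, sl_mul_apply] at e0 e1 e2 e3
    simp [dgm] at e0 e1 e2 e3
    rw [e1, e2, ← e0] at e3
    rcases h0 with h | h | h
    exacts [h e2, h e1, h (by simpa using e3.symm)]) (d * a)
  obtain ⟨a', m, ha', e1, e2⟩ := ((rel_one P).mul h1).mul (rel_one P⁻¹)
  rw [one_mul, mul_one] at ha' e2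
  obtain rfl : a = a' := Units.ext (by
    simpa only [Matrix.det_mul, det_dgm, Matrix.SpecialLinearGroup.det_coe, one_mul, mul_one]
      using congrArg Matrix.det e1)
  have e3 : m 0 0 = d := by
    rw [e1] at hP
    simpa [m2_mul_apply, dgm] using hP
  obtain ⟨b', c', e4⟩ := exists_ldu e3
  refine ⟨_, mul_mem (T.opp.Up_le_U i (S.conj_Vp i P hq)) (S.lo_V i b'), _,
    mul_mem (S.up_U i ((a : F)⁻¹ * c')) (T.Up_le_U i (S.conj_Up i P hr)),
    e.trans (isConj_iff.2 ⟨S.φ i P, ?_⟩)⟩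
  have e5 : h * S.φ i (upper c) = S.φ i (upper (a * c)) * h := by rw [ha, cj_upper]
  rw [map_inv, map_mul] at e2
  calc _ = S.φ i P * q * (S.φ i P)⁻¹ * (S.φ i P * (S.φ i (lower b) * (h * S.φ i (upper c))) * (S.φ i P)⁻¹) *
        (S.φ i P * r * (S.φ i P)⁻¹) := by group
    _ = _ := by
      rw [e5, ← mul_assoc (S.φ i (lower b)), e2, e4, map_mul, map_mul, mul_assoc _ _ h, S.act_upper ha, D]
      group

variable (S) in
theorem exists_N (hg : g ∉ Subgroup.center G) : ∃ h ∈ S.HT Set.univ, ∃ i, S.N g h i := by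
  by_contra hc
  push Not at hc
  obtain ⟨u₀, hu₀, v, hv, h, hh, u, hu, e⟩ := S.gauss g
  have key : ∀ v ∈ T.V, ∀ u ∈ T.U, IsConj g (v * h * u) → ∀ i,
      v ∈ T.opp.Up i ∧ u ∈ T.Up i ∧ Act (S.φ i) h 1 := fun v hv u hu e i => by
    obtain ⟨b, q, hq, rfl⟩ := S.decV i hv
    obtain ⟨c, r, hr, rfl⟩ := S.decU i hu
    obtain ⟨a, ha⟩ := S.exists_act hh i
    by_contra h1
    refine hc h hh i ⟨q, hq, r, hr, b, c, a, ha, by_contra fun h2 => h1 ?_, e⟩
    push Not at h2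
    obtain ⟨rfl, rfl, rfl⟩ := h2
    have e1 : (upper 0 : SL2 F) = 1 := by apply sl_ext <;> simp
    have e2 : (lower 0 : SL2 F) = 1 := by apply sl_ext <;> simp
    exact ⟨by simpa [e2] using hq, by simpa [e1] using hr, ha⟩
  have e0 : IsConj g (v * h * (u * u₀)) := isConj_iff.2 ⟨u₀⁻¹, by rw [e]; group⟩
  have hZ : h ∈ Subgroup.center G := Subgroup.mem_center_iff.2 fun x =>
    Subgroup.mem_centralizer_singleton_iff.1 ((S.eq_top (K := Subgroup.centralizer {h}) fun i m =>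
      Subgroup.mem_centralizer_singleton_iff.2 (by
        rw [(key v hv _ (mul_mem hu hu₀) e0 i).2.2 m, cj_one])).ge (Subgroup.mem_top x))
  have h2 : ∀ x, x * v * x⁻¹ ∈ T.V ∧ x * (u * u₀) * x⁻¹ ∈ T.U := fun x => by
    induction x using S.induction with
    | h1 => simpa using ⟨hv, mul_mem hu hu₀⟩
    | h i m x ih =>
      obtain ⟨h3, h4, -⟩ := key _ ih.1 _ ih.2 (e0.trans (isConj_iff.2 ⟨x, by
        rw [mul_assoc (x * v), Subgroup.mem_center_iff.1 hZ x⁻¹, mul_assoc _ (h * x⁻¹), mul_assoc h,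
          ← mul_assoc x⁻¹, ← mul_assoc x⁻¹]; group⟩)) i
      exact ⟨by simpa [mul_assoc, GRD.opp_U] using T.opp.Up_le_U i (S.conj_Vp i m h3),
        by simpa [mul_assoc] using T.Up_le_U i (S.conj_Up i m h4)⟩
  obtain ⟨m, -, hm⟩ := T.map_U_n0
  have h3 : v = 1 := by
    obtain ⟨w, hw, e⟩ := hm.ge (h2 m).1
    obtain rfl : w = v := (MulAut.conj m).injective e
    exact T.eq_one_of_mem_U_V hw hv
  have h4 := T.eq_one_of_mem_U_V (h2 m).2 (hm.le ⟨_, mul_mem hu hu₀, rfl⟩)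
  rw [mul_inv_eq_one, mul_eq_left] at h4
  rw [h3, h4, one_mul, mul_one] at e0
  obtain ⟨x, rfl⟩ := isConj_iff.1 e0.symm
  exact hg (by simpa [Subgroup.mem_center_iff.1 hZ x] using hZ)

theorem extend {B : Set ι} (hh : h ∈ S.HT Set.univ) (hB : ∀ k ∈ S.HT B, Av T g (k * h)) {r t : ι}
    (hr : r ∈ B) (ha : Adj S.φ r t) : ∀ k ∈ S.HT (insert t B), Av T g (k * h) := by
  intro k hk0
  obtain ⟨d, k, hk, rfl⟩ := S.mem_insert hk0
  have hk' := mul_mem (S.HT_mono (Set.subset_univ B) hk) hh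
  obtain ⟨a, h1⟩ := S.exists_act hk' t
  rw [mul_assoc]
  by_cases h2 : a = 1
  swap
  · exact ((hB k hk).n h1 h2).move d
  obtain ⟨e, h3⟩ := S.exists_act (mul_mem (S.D_mem (Set.mem_univ t) d) hk') r
  obtain ⟨c, h4, b, h5, h6⟩ := ha e⁻¹
  have h7 := ((hB _ (mul_mem (S.D_mem hr c) hk)).n (mul_assoc _ k h ▸ h6.mul h1)
    (by rwa [h2, mul_one])).move d
  rw [mul_assoc, ← mul_assoc (S.D t d), S.comm_D (S.D_mem (Set.mem_univ t) d), mul_assoc] at h7
  have h8 := (h7.n ((act_D _ c.ne_zero).mul h3)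
    (by rwa [Units.mk0_val, ne_eq, mul_eq_one_iff_eq_inv])).move c⁻¹
  rwa [← D_inv, inv_mul_cancel_left] at h8

variable (S) in
/-- Every noncentral element is conjugate into `V h U` for every `h` in the torus. -/
theorem exists_conj (hg : g ∉ Subgroup.center G) (hh : h ∈ S.HT Set.univ) : Av T g h := by
  obtain ⟨h₀, h0, i, hN⟩ := S.exists_N hg
  have : Finite ι := Finite.of_injective _ R.p_inj
  have key : ∀ (n : ℕ) (B : Set ι), Bᶜ.ncard = n → i ∈ B → (∀ k ∈ S.HT B, Av T g (k * h₀)) →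
      ∀ k ∈ S.HT Set.univ, Av T g (k * h₀) := by
    intro n
    induction n with
    | zero =>
      intro B hB _ h
      rwa [Set.compl_empty_iff.1 ((Set.ncard_eq_zero (Set.toFinite _)).1 hB)] at h
    | succ n ih =>
      intro B hB hi h
      obtain ⟨j, hj⟩ := Set.nonempty_of_ncard_ne_zero (s := Bᶜ) (by omega)
      obtain ⟨r, hr, t, ht, ha⟩ : ∃ r ∈ B, ∃ t ∉ B, Adj S.φ r t := by
        by_contra hc
        push Not at hc
        refine hj ?_
        induction S.conn i j with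
        | refl => exact hi
        | tail _ h2 ih => exact by_contra fun h3 => hc _ (by_contra fun h4 => h4 (ih h4)) _ h3 h2
      refine ih (insert t B) ?_ (Or.inr hi) (extend h0 h hr ha)
      rw [show (insert t B)ᶜ = Bᶜ \ {t} by ext; simp [and_comm], Set.ncard_sdiff_singleton_of_mem ht, hB]
      rfl
  have := key _ {i} rfl rfl (fun k hk0 => by
    obtain ⟨d, k, hk, rfl⟩ := S.mem_insert (A := ∅) (t := i) (by simpa using hk0)
    rw [show k = 1 by simpa [HT] using hk, mul_one]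
    exact hN.move d) _ (mul_mem hh (inv_mem h0))
  rwa [inv_mul_cancel_right] at this

end SG

end H68.EG
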