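/- Squares of conjugacy classes in split groups: the abstract theorem. -/
import Cfsg.Agent.H68.EG1
import Cfsg.Agent.H91.EGRU

set_option autoImplicit false
set_option linter.unusedSectionVars false

namespace H68.EG

open H54 H64 H33 H61 H83 H68.Gow Matrix
open H57 (xA)

universe u

variable {F : Type u} [Field F] {n : ℕ}

theorem val_mul (a b : SLn n F) : (a * b).1 = a.1 * b.1 := rfl

theorem val_pow (a : SLn n F) (k : ℕ) : (a ^ k).1 = a.1 ^ k := Matrix.SpecialLinearGroup.coe_pow a k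

/-- The standard regular unipotent element. -/
def j0 (c : Fin n → F) : SLn n F := ((List.finRange n).map fun i => eU i (c i)).prod

theorem ru_j0 {c : Fin n → F} (h : ∀ i, c i ≠ 0) : RU (j0 c) :=
  ((H91.EG.jobRU F n).1 _ c (List.nodup_finRange n) List.mem_finRange h).1

theorem RU.inv {j : SLn n F} (h : RU j) : RU j⁻¹ := (H91.EG.jobRU F n).2.2.1 j h

theorem RU.pow [Finite F] {j : SLn n F} (h : RU j) : j ^ Nat.card F ^ (n + 1) = 1 := by
  have := Fintype.ofFinite F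
  obtain ⟨p, hp, k, hpp, hk⟩ := FiniteField.card' F
  have : Fact p.Prime := ⟨hpp⟩
  have : CharP (Matrix (Fin (n + 1)) (Fin (n + 1)) F) p := Matrix.charP p
  refine Subtype.ext ?_
  rw [val_pow, Nat.card_eq_fintype_card, hk, ← pow_mul, show (1 : SLn n F).1 = 1 from rfl,
    ← sub_eq_zero]
  have := sub_pow_char_pow_of_commute p (k * (n + 1)) (Commute.one_right j.1)
  rw [one_pow] at this
  rw [← this]
  refine pow_eq_zero_of_le ?_ h.1
  exact (Nat.le_mul_of_pos_left _ k.2).trans (Nat.lt_pow_self hpp.one_lt).le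

theorem diag_j0 (δ : Fˣ) : (diagonal (Function.update 1 0 (δ : F)) : Matrix _ _ F) * (j0 (n := n) 1).1 =
    (j0 fun i => (if (i : ℕ) = 0 then (δ : F) else 1) * 1).1 * diagonal (Function.update 1 0 (δ : F)) := by
  unfold j0
  induction List.finRange n with
  | nil => simp
  | cons i l ih =>
    simp only [List.map_cons, List.prod_cons, val_mul] at ih ⊢
    rw [Matrix.mul_assoc, ← ih, ← Matrix.mul_assoc, ← Matrix.mul_assoc]
    congr 1
    rw [eU, eU, H57.xA_coe (Fin.castSucc_lt_succ).ne, H57.xA_coe (Fin.castSucc_lt_succ).ne, Matrix.mul_add,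
      Matrix.add_mul, Matrix.mul_one, Matrix.one_mul]
    congr 1
    ext a b
    rw [diagonal_mul, mul_diagonal, single_apply, single_apply]
    split_ifs with h h'
    · obtain ⟨rfl, rfl⟩ := h
      rw [show i.castSucc = 0 from Fin.ext h']
      simp [Fin.succ_ne_zero]
    · obtain ⟨rfl, rfl⟩ := h
      rw [Function.update_of_ne fun e => h' (congrArg Fin.val e)]
      simp [Fin.succ_ne_zero]
    · simp

variable {Φ ι G : Type*} [Group G] {R : WData Φ ι} [Finite Φ] {T : GRD R G}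

theorem mem_opp_LJ {J : Set ι} {x : G} : x ∈ T.opp.LJ J ↔ x ∈ T.LJ J := by rw [T.opp_LJ]

theorem mem_opp_PhiJ {J : Set ι} {r : Φ} : r ∈ R.opp.PhiJ J ↔ r ∈ R.PhiJ J := by rw [R.opp_PhiJ]

namespace LV

variable (L : LV T F n)

theorem mem_of {K : Subgroup G} (h1 : ∀ i t, L.Λ (eU i t) ∈ K) (h2 : ∀ i t, L.Λ (eL i t) ∈ K)
    (m : SLn n F) : L.Λ m ∈ K :=
  ((H91.EG.jobRU F n).2.2.2 (K.comap L.Λ) h1 h2).ge (Subgroup.mem_top m)

theorem comm (m : SLn n F) : Commute L.z (L.Λ m) :=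
  (Subgroup.mem_centralizer_singleton_iff.1 (L.mem_of (K := Subgroup.centralizer {L.z})
    (fun i t => Subgroup.mem_centralizer_singleton_iff.2 (L.zU i t).symm)
    (fun i t => Subgroup.mem_centralizer_singleton_iff.2 (L.zL i t).symm) m)).symm

theorem mem_LJ (m : SLn n F) : L.Λ m ∈ T.LJ (Set.range L.nd) :=
  L.mem_of (fun i t => Subgroup.mem_sup_right (le_gen T.X (R.p_mem_PhiJ (Set.mem_range_self i)) ((L.up i _).2 ⟨t, rfl⟩)))
    (fun i t => Subgroup.mem_sup_right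
      (le_gen T.X (R.neg_mem_PhiJ (R.p_mem_PhiJ (Set.mem_range_self i))) ((L.lo i _).2 ⟨t, rfl⟩))) m

theorem X_le {r : Φ} (hr : r ∈ R.PhiJ (Set.range L.nd)) : T.X r ≤ L.Λ.range := by
  let A : Set Φ := {r | ∃ i, r = R.p (L.nd i) ∨ r = R.neg (R.p (L.nd i))}
  refine (X_le_of_PhiJ (H_le_normalizer (S := A) rfl) ?_ ?_ hr).trans (gen_le ?_)
  · rintro _ ⟨i, rfl⟩; exact le_gen T.X (S := A) ⟨i, Or.inl rfl⟩
  · rintro _ ⟨i, rfl⟩; exact le_gen T.X (S := A) ⟨i, Or.inr rfl⟩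
  · rintro _ ⟨i, rfl | rfl⟩ g hg
    · obtain ⟨t, rfl⟩ := (L.up i g).1 hg; exact ⟨_, rfl⟩
    · obtain ⟨t, rfl⟩ := (L.lo i g).1 hg; exact ⟨_, rfl⟩

theorem mem_of_fix (r : Φ) (y : G) (hy : y ∈ T.X r) (e : L.z * y = y * L.z) : y ∈ T.LJ (Set.range L.nd) := by
  by_cases h : r ∈ R.PhiJ (Set.range L.nd)
  · exact Subgroup.mem_sup_right (le_gen T.X h hy)
  · rw [L.fix r h y hy e]; exact one_mem _

theorem fixU {u : G} (hu : u ∈ T.UJ (Set.range L.nd)) (e : L.z * u = u * L.z) : u = 1 :=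
  (T.UJ_inf_LJ _).le ⟨hu, grd_cent_U T L.zH L.mem_of_fix (T.UJ_le_U _ hu) e⟩

theorem fixV {u : G} (hu : u ∈ T.opp.UJ (Set.range L.nd)) (e : L.z * u = u * L.z) : u = 1 :=
  (T.opp.UJ_inf_LJ _).le ⟨hu, mem_opp_LJ.2 (grd_cent_U T.opp L.zH L.mem_of_fix (T.opp.UJ_le_U _ hu) e)⟩

theorem isConj_of_ru {j : SLn n F} (hj : RU j) : IsConj (L.z * L.Λ (j0 1)) (L.z * L.Λ j) := by
  obtain ⟨g, hg⟩ := (H91.EG.jobRU F n).2.1 _ _ (ru_j0 (c := 1) fun _ => one_ne_zero) hj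
  let δ := GeneralLinearGroup.det g
  obtain ⟨y, h1, h2⟩ := L.diag δ
  have hd : ∀ a : Fˣ, (diagonal (Function.update 1 0 (a : F)) : Matrix (Fin (n + 1)) _ F).det = a := fun a => by
    simp [Finset.prod_update_of_mem]
  have hD : (diagonal (Function.update 1 0 ((δ⁻¹ : Fˣ) : F)) : Matrix (Fin (n + 1)) _ F) *
      diagonal (Function.update 1 0 (δ : F)) = 1 := by
    rw [diagonal_mul_diagonal, ← diagonal_one]
    congr 1
    funext i
    by_cases e : i = 0 <;> simp [e]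
  let m : SLn n F := ⟨g.1 * diagonal (Function.update 1 0 ((δ⁻¹ : Fˣ) : F)), by
    rw [det_mul, hd]; exact δ.mul_inv⟩
  have h3 : m * j0 (fun i => (if (i : ℕ) = 0 then (δ : F) else 1) * 1) = j * m := Subtype.ext (by
    have h4 := diag_j0 (n := n) δ
    have h5 := mul_eq_one_comm.1 hD
    change g.1 * _ * _ = j.1 * (g.1 * _)
    rw [← Matrix.mul_assoc j.1, ← hg, ← Matrix.mul_one (j0 _).1, ← h5, ← Matrix.mul_assoc (j0 _).1, ← h4]
    simp only [Matrix.mul_assoc]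
    rw [← Matrix.mul_assoc (diagonal _) (diagonal _), hD, Matrix.one_mul])
  have h4 : y * L.Λ (j0 1) * y⁻¹ = L.Λ (j0 fun i => (if (i : ℕ) = 0 then (δ : F) else 1) * 1) := by
    simp only [j0, map_list_prod, List.map_map, GRD.list_prod_conj, Function.comp_def, h2, Pi.one_apply]
  refine isConj_iff.2 ⟨L.Λ m * y, ?_⟩
  calc _ = L.Λ m * (y * L.z) * y⁻¹ * (y * L.Λ (j0 1) * y⁻¹) * (L.Λ m)⁻¹ := by group
    _ = _ := by
      rw [h1, h4, ← mul_assoc, mul_inv_cancel_right, ← (L.comm m).eq, mul_assoc L.z, ← map_mul, h3, map_mul]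
      group

theorem exists_real : ∃ j, RU j ∧ IsConj (L.z * L.Λ (j0 1)) (L.z⁻¹ * L.Λ j) := by
  obtain ⟨y, h1, h2⟩ := L.real
  have h0 : ∀ i, L.Λ (eU i 1) ∈ T.X (R.p (L.nd i)) := fun i => (L.up i _).2 ⟨1, rfl⟩
  have h3 : ∀ i, y * L.Λ (eU i 1) * y⁻¹ ≠ 1 := fun i h => L.ne i (by rwa [mul_inv_eq_one, mul_eq_left] at h)
  have h4 : ∀ i j : Fin (n + 1), L.Λ (xA i j 0) = 1 := fun i j => by
    rw [← map_one L.Λ]
    by_cases h : i = j
    · simp [xA, h]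
    · exact congrArg _ (Subtype.ext (by simp [H57.xA_coe h]))
  suffices ∃ j, RU j ∧ y * L.Λ (j0 1) * y⁻¹ = L.Λ j from
    let ⟨j, h5, h6⟩ := this
    ⟨j, h5, isConj_iff.2 ⟨y, by rw [← h1, ← h6]; group⟩⟩
  rcases h2 with h2 | ⟨σ, h2⟩
  · choose c hc using fun i => (L.up i _).1 (h2 i _ (h0 i))
    refine ⟨j0 c, ru_j0 fun i h => h3 i (by rw [hc, h]; exact h4 _ _), ?_⟩
    simp only [j0, map_list_prod, List.map_map, GRD.list_prod_conj, Function.comp_def, hc, Pi.one_apply]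
  · choose c hc using fun i => (L.lo _ _).1 (h2 i _ (h0 i))
    refine ⟨_, ((H91.EG.jobRU F n).1 ((List.finRange n).map σ) (c ∘ σ.symm)
      ((List.nodup_finRange n).map σ.injective)
      (fun i => List.mem_map.2 ⟨σ.symm i, List.mem_finRange _, by simp⟩)
      fun i h => h3 (σ.symm i) (by rw [hc, show c (σ.symm i) = 0 from h]; exact h4 _ _)).2, ?_⟩
    simp only [j0, map_list_prod, List.map_map, GRD.list_prod_conj, Function.comp_def, hc, Pi.one_apply,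
      Equiv.symm_apply_apply]

theorem isConj_inv {j : SLn n F} (hj : RU j) : IsConj (L.z * L.Λ (j0 1))⁻¹ (L.z⁻¹ * L.Λ j) := by
  obtain ⟨c, hc⟩ := isConj_iff.1 (L.isConj_of_ru hj.inv)
  refine isConj_iff.2 ⟨c, ?_⟩
  rw [← (L.comm j).inv_left.eq.symm, ← inv_inv (L.Λ j), ← _root_.mul_inv_rev, ← map_inv, ← hc]
  group

theorem isConj_inv' {j : SLn n F} (hj : RU j) : IsConj (L.z * L.Λ (j0 1)) (L.z⁻¹ * L.Λ j) :=
  let ⟨_, h1, h2⟩ := L.exists_real
  (h2.trans (L.isConj_inv h1).symm).trans (L.isConj_inv hj)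

variable [Finite F]

theorem comm_z {j : SLn n F} (hj : RU j) {k w : G} (hw : w = L.z ∨ w = L.z⁻¹)
    (e : w * L.Λ j * k = k * (w * L.Λ j)) : L.z * k = k * L.z := by
  have h1 : ∀ m : ℕ, L.z ^ Nat.card F ^ m = L.z := fun m => by
    induction m with
    | zero => simp
    | succ m ih => rw [pow_succ, pow_mul, ih, L.zq]
  have h2 := (show Commute (w * L.Λ j) k from e).pow_left (Nat.card F ^ (n + 1))
  rcases hw with rfl | rfl
  · rwa [(L.comm j).mul_pow, ← map_pow, hj.pow, map_one, mul_one, h1] at h2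
  · rw [(L.comm j).inv_left.mul_pow, ← map_pow, hj.pow, map_one, mul_one, inv_pow, h1] at h2
    exact Commute.inv_left_iff.1 h2

theorem exists_ru (h4 : 4 ≤ Nat.card F) (top : T.Gp = ⊤) {a b : SLn n F} (ha : L.Λ a ∈ T.U)
    (hb : L.Λ b ∈ T.V) : ∃ j j', RU j ∧ RU j' ∧ L.Λ b * L.Λ a = L.Λ j * L.Λ j' := by
  by_cases h : ∃ c : F, (b * a).1 = c • 1
  swap
  · obtain ⟨j, j', h1, h2, e⟩ := H91.EG.jobP F h4 n _ h
    exact ⟨j, j', h1, h2, by rw [← map_mul, e, map_mul]⟩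
  obtain ⟨c, hc⟩ := h
  have h1 : ∀ x ∈ L.Λ.range, L.Λ (b * a) * x * (L.Λ (b * a))⁻¹ = x := by
    rintro _ ⟨m, rfl⟩
    rw [mul_inv_eq_iff_eq_mul, ← map_mul, ← map_mul]
    exact congrArg _ (Subtype.ext (by rw [val_mul, val_mul m, hc]; simp))
  have h2 : L.Λ (b * a) ∈ T.B := T.mem_B_of_conj_U (top ▸ Subgroup.mem_top _) fun u hu => by
    obtain ⟨r, hr, x, hx, rfl⟩ := T.split_UJ (Set.range L.nd) hu
    have h3 := (Subgroup.mem_normalizer_iff.1 (T.LJ_le_normalizer_UJ _ (L.mem_LJ (b * a))) r).1 hr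
    rw [← conj_mul, h1 x (gen_le (fun r hr => L.X_le hr.2) hx)]
    exact T.U_le_B (mul_mem (T.UJ_le_U _ h3) (gen_mono _ (fun _ h => h.1) hx))
  rw [map_mul] at h2
  have h3 := T.eq_one_of_mem_B_V ((T.B.mul_mem_cancel_right (T.U_le_B ha)).1 h2) hb
  have h5 : L.Λ (b * a) ∈ T.opp.B := T.opp.mem_B_of_conj_U (top ▸ Subgroup.mem_top _) fun u hu => by
    obtain ⟨r, hr, x, hx, rfl⟩ := T.opp.split_UJ (Set.range L.nd) hu
    have h3 := (Subgroup.mem_normalizer_iff.1 (T.opp.LJ_le_normalizer_UJ _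
      (mem_opp_LJ.2 (L.mem_LJ (b * a)))) r).1 hr
    rw [← conj_mul, h1 x (gen_le (fun r hr => L.X_le (mem_opp_PhiJ.1 hr.2)) hx)]
    exact T.opp.U_le_B (mul_mem (T.opp.UJ_le_U _ h3) (gen_mono _ (fun _ h => h.1) hx))
  rw [map_mul, h3, one_mul] at h5
  have h6 := T.opp.eq_one_of_mem_B_V h5 (by rwa [T.opp_V])
  exact ⟨j0 1, (j0 1)⁻¹, ru_j0 fun _ => one_ne_zero, (ru_j0 fun _ => one_ne_zero).inv, by simp [h3, h6]⟩

theorem pr [Finite G] (h4 : 4 ≤ Nat.card F) (top : T.Gp = ⊤) {v u : G} (hv : v ∈ T.V) (hu : u ∈ T.U) :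
    Pr (L.z * L.Λ (j0 1)) (L.z * L.Λ (j0 1)) (v * u) := by
  obtain ⟨q, hq, y, hy, rfl⟩ := T.opp.split_UJ (Set.range L.nd) hv
  obtain ⟨r, hr, x, hx, rfl⟩ := T.split_UJ (Set.range L.nd) hu
  obtain ⟨b, rfl⟩ : y ∈ L.Λ.range := gen_le (fun r hr => L.X_le (mem_opp_PhiJ.1 hr.2)) hy
  obtain ⟨a, rfl⟩ : x ∈ L.Λ.range := gen_le (fun r hr => L.X_le hr.2) hx
  obtain ⟨j, j', h1, h2, e⟩ := L.exists_ru h4 top (gen_mono _ (fun _ h => h.1) hx)
    (gen_mono _ (fun _ h => h.1) hy)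
  have nU : ∀ x ∈ T.LJ (Set.range L.nd), ∀ k ∈ T.UJ (Set.range L.nd), x * k * x⁻¹ ∈ T.UJ (Set.range L.nd) :=
    fun x hx k => (Subgroup.mem_normalizer_iff.1 (T.LJ_le_normalizer_UJ _ hx) k).1
  have nV : ∀ x ∈ T.LJ (Set.range L.nd), ∀ k ∈ T.opp.UJ (Set.range L.nd),
      x * k * x⁻¹ ∈ T.opp.UJ (Set.range L.nd) := fun x hx k =>
    (Subgroup.mem_normalizer_iff.1 (T.opp.LJ_le_normalizer_UJ _ (mem_opp_LJ.2 hx)) k).1
  have hz : L.z ∈ T.LJ (Set.range L.nd) := Subgroup.mem_sup_left L.zH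
  have h3 := mul_mem hz (L.mem_LJ j)
  have e1 := conj_of_fpf (nV _ h3) (fun k hk e => L.fixV hk (L.comm_z h1 (Or.inl rfl) e)) hq
  have e2 := conj_of_fpf (nU _ (mul_mem (inv_mem hz) (L.mem_LJ j')))
    (fun k hk e => L.fixU hk (L.comm_z h2 (Or.inr rfl) e)) (nU _ (mul_mem (inv_mem h3) (L.mem_LJ b)) _ hr)
  convert Pr.mk' ((L.isConj_of_ru h1).trans e1) ((L.isConj_inv' h2).trans e2) using 1
  calc _ = q * L.Λ b * r * (L.Λ b)⁻¹ * (L.Λ b * L.Λ a) := by group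
    _ = q * L.Λ b * r * (L.Λ b)⁻¹ * (L.z * L.Λ j * L.z⁻¹ * L.Λ j') := by
      rw [e, (L.comm j).eq, mul_inv_cancel_right]
    _ = _ := by group

end LV

theorem jobMain : JobMain.{u} := by
  rintro F G _ _ _ _ h4 ⟨Φ, ι, _, R, T, n, ⟨S⟩, ⟨L⟩⟩
  have h1 := ru_j0 (n := n) (F := F) (c := 1) fun _ => one_ne_zero
  refine ⟨_, (L.isConj_inv' h1).trans (L.isConj_inv h1).symm, fun g hg => ?_⟩
  obtain ⟨v, hv, u, hu, e⟩ := S.exists_conj hg (one_mem _)
  obtain ⟨c, hc⟩ := isConj_iff.1 e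
  refine Pr.of_conj c ?_
  rw [hc, mul_one]
  exact L.pr h4 (eq_top_iff.2 (S.gen.ge.trans le_sup_left)) hv hu

end H68.EG
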