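/- Squares of regular semisimple classes: subgroups of Chevalley groups. -/
import Cfsg.Agent.H68.Ore3
import Cfsg.Agent.H68.SPerm
import Cfsg.Agent.H67.LieInst

set_option autoImplicit false
set_option linter.unusedSectionVars false

namespace H68.Gow

open Cfsg Cfsg.Lie H67 H33 H61 H83 H72 H68.OreSL
open H64 (RGD gen)
open H63 (RS Rt)

variable {p : ℕ} [hp : Fact p.Prime]

section Cmp

variable {R ι : Type} [Fintype R] [DecidableEq R] [Fintype ι] [DecidableEq ι] {E : RD R ι}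
  {A : Type*} [Group A] {T : RGD E.toW A} {K : Subgroup A} [Finite K] {D : SBN p K}

theorem conj_U_iff {m u : A} {w : Equiv.Perm R} (h : Ac T m w) (hu : u ∈ T.U) :
    m * u * m⁻¹ ∈ T.U ↔ u ∈ Up T w := by
  refine ⟨fun h1 => ?_, h.conj_Up⟩
  obtain ⟨a, ha, b, hb, rfl⟩ := split_U w hu
  have := T.eq_one_of_mem_U_V (by simpa [mul_assoc] using mul_mem (inv_mem (h.conj_Up ha)) h1)
    (h.conj_Um hb)
  rwa [show b = 1 by simpa [mul_inv_eq_one] using this, mul_one]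

theorem Up_s (i : ι) : Up T (E.s i) = T.Up i := by
  unfold Up RGD.Up
  congr 1
  ext r
  refine and_congr_right fun h => ⟨fun h1 e => ?_, RD.pos_s h⟩
  have e' : r = E.sim i := e
  rw [e'] at h h1
  rw [RD.s_sim] at h1
  exact RD.pos_neg.1 h1 h

theorem Um_s (i : ι) : Um T (E.s i) = T.X (E.sim i) := by
  rw [Um, ← H64.gen_singleton T.X]
  congr 1
  ext r
  refine ⟨fun h => by_contra fun h1 => h.2 (RD.pos_s h.1 h1), fun h => ?_⟩
  rw [show r = E.sim i from h]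
  exact ⟨RD.pos_sim i, by rw [RD.s_sim, RD.pos_neg, not_not]; exact RD.pos_sim i⟩

theorem gen_of_simple {G : Type*} [Group G] [Finite G] [IsSimpleGroup G] {D : SBN p G} (hD : D.Good) :
    Subgroup.normalClosure (D.U : Set G) = ⊤ := by
  obtain ⟨s, hs⟩ := hD.ne
  obtain ⟨x, hx, h1⟩ := D.exists_mem_X_ne_one ⟨s, hs⟩
  exact (Subgroup.Normal.eq_bot_or_eq_top inferInstance).resolve_left fun h =>
    h1 (h.le (Subgroup.subset_normalClosure (D.X_le_U _ hx)))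

variable (T D) in
/-- a split pair induced from the ambient group -/
structure Cmp : Prop where
  U : ∀ x : K, x ∈ D.U ↔ (x : A) ∈ T.U
  B : ∀ x : K, x ∈ D.B ↔ (x : A) ∈ T.B
  N : ∀ x : K, x ∈ D.N ↔ (x : A) ∈ T.N

namespace Cmp

variable (c : Cmp T D) {x ν : K} {s : D.P.S} {w w₀ : Equiv.Perm R}
include c

theorem H : x ∈ D.H ↔ (x : A) ∈ T.H :=
  ⟨fun h => mem_H_of_B_N ((c.B x).1 h.1) ((c.N x).1 h.2),
    fun h => ⟨(c.B x).2 (T.H_le_B h), (c.N x).2 (T.H_le_N h)⟩⟩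

theorem wOf_eq {m n : K} (hm : m ∈ D.N) (hn : n ∈ D.N) (h : Ac T m w) (h' : Ac T n w) :
    wOf D.P m = wOf D.P n := by
  rw [← wOf_mul_right m (c.H.2 (H68.inv_mul_mem_H ((c.N m).1 hm) ((c.N n).1 hn) h h') : m⁻¹ * n ∈ D.H).1,
    mul_inv_cancel_left]

theorem conj {m : K} (h : Ac T m w) (hx : x ∈ D.U) : m⁻¹ * x * m ∈ D.U ↔ (x : A) ∈ Up T w⁻¹ := by
  rw [c.U, ← conj_U_iff h.inv ((c.U x).1 hx), inv_inv]; rfl

theorem mem_R (hs : Ac T s w) (hw : w⁻¹ = w) : x ∈ D.R {s} ↔ (x : A) ∈ Up T w := by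
  rw [D.mem_R_singleton, and_congr_right (c.conj hs), hw, and_iff_right_of_imp]
  exact fun h => (c.U x).2 (Up_le_U _ h)

omit c in
theorem inv_neg (h0 : ∀ r, w₀ r = E.neg r) (r : R) : w₀⁻¹ r = E.neg r := by
  rw [Equiv.Perm.inv_eq_iff_eq, h0, RD.neg_neg]

theorem opp (hν : Ac T ν w₀) (h0 : ∀ r, w₀ r = E.neg r) (u : K) (hu : u ∈ D.U) (h : ν⁻¹ * u * ν ∈ D.U) :
    u = 1 :=
  Subtype.ext (T.eq_one_of_mem_U_V ((c.U u).1 hu) (H64.gen_mono _
    (fun r hr => absurd hr.1 (RD.pos_neg.1 (inv_neg h0 r ▸ hr.2))) ((c.conj hν hu).1 h)))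

theorem mem_X (hs : Ac T s w) (hw : w⁻¹ = w) (hN : ν ∈ D.N) (hν : Ac T ν w₀) (h0 : ∀ r, w₀ r = E.neg r) :
    x ∈ D.X s ↔ (x : A) ∈ Um T w := by
  have e : wOf D.P (s * D.n0) = wOf D.P (s * ν) := by
    rw [wOf_mul_N (D.S_mem s) (D.nJ_mem _), wOf_mul_N (D.S_mem s) hN, longest_of_opp hN (c.opp hν h0)]
  have h1 := D.N.mul_mem (D.S_mem s) (D.nJ_mem Set.univ)
  have h2 := D.N.mul_mem (D.S_mem s) hN
  have h3 : Up T (w * w₀)⁻¹ = Um T w := by
    simp only [Up, Um, mul_inv_rev, Equiv.Perm.mul_apply, inv_neg h0, RD.pos_neg, hw]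
  rw [D.mem_X, ← h3]
  refine ⟨fun h => (c.conj (m := s * ν) (hs.mul hν) h.1).1 (D.conj_mem_U_congr h1 h2 e h.2), fun h => ?_⟩
  have h4 := (c.U x).2 (Up_le_U _ h)
  exact ⟨h4, D.conj_mem_U_congr h2 h1 e.symm ((c.conj (m := s * ν) (hs.mul hν) h4).2 h)⟩

/-- the rank two data -/
def rk2 (i j : D.P.S) (ne : i ≠ j) (all : ∀ s, s = i ∨ s = j) (hi : Ac T i w) (hw : w⁻¹ = w)
    (hW : w ∈ E.W) (hN : ν ∈ D.N) (hν : Ac T ν w₀) (h0 : ∀ r, w₀ r = E.neg r) : Rk2 D where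
  i := i
  j := j
  ne := ne
  all := all
  ν := ν
  ν_mem := hN
  opp := c.opp hν h0
  cen x hx := by
    have h1 := (c.conj (m := ν * i) (hν.mul hi) (D.X_le_U _ hx)).2 (H64.gen_mono _ (fun r hr => And.intro hr.1 (by
      rw [mul_inv_rev, Equiv.Perm.mul_apply, inv_neg h0, hw, RD.apply_neg hW, RD.pos_neg]
      exact hr.2)) ((c.mem_X hi hw hN hν h0).1 hx))
    have h2 : (i : K) ∈ D.PJ {i} := S_mem_cellSubgroup rfl
    simpa [mul_assoc] using mul_mem (mul_mem h2 (D.B_le_PJ _ (D.U_le h1))) (inv_mem h2)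

end Cmp

end Cmp

variable {D : ChevalleyDatum} [RS D]

section CM

variable {K : Type*} [Field K] {G : Type*} [Group G] (M : CM D K G)

theorem wP_mem (l : List ℕ) : wP D l ∈ (rd D).W := Subgroup.list_prod_mem _ fun g hg => by
  obtain ⟨i, -, rfl⟩ := List.mem_map.1 hg
  split_ifs
  exacts [RD.s_mem_W _, one_mem _]

theorem wP_single (i : Fin D.rank) : wP D [i] = (rd D).s i := by simp [wP]

theorem nf_of_clo {S : Set (Rt D)} (hS : Clo M.T S) {L : List ℕ} (h1 : ∀ r ∈ L, r < D.nroots)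
    (h2 : L.Nodup) (h3 : ∀ r : Rt D, (r : ℕ) ∈ L ↔ r ∈ S) : M.NF (gen M.T.X S) L :=
  ⟨h1, fun _ hu => M.exists_wd_pos hS L h2 h1 h3 hu,
    fun r hr t => H64.le_gen _ ((h3 ⟨r, h1 r hr⟩).1 hr) (M.x_mem ⟨r, h1 r hr⟩ t),
    fun _ _ e e' => M.wd_inj L e e' h2 (Or.inl fun r hr => rd_pos.1 (hS.1 _ ((h3 ⟨r, h1 r hr⟩).1 hr))),
    fun _ hh _ hu => M.T.h_conj_gen hh hu, M.T.gen_le_Gp _⟩

theorem nf_Up (l : List ℕ) {L : List ℕ} (h : (∀ r ∈ L, r < D.nroots) ∧ L.Nodup ∧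
    ∀ r < D.nroots, r ∈ L ↔ D.IsPosRoot r ∧ D.IsPosRoot (fN D l r)) : M.NF (Up M.T (wP D l)) L :=
  nf_of_clo M (S := {r | (rd D).pos r ∧ (rd D).pos (wP D l r)}) ⟨fun _ h => h.1, fun _ ha _ hb _ hc _ _ =>
    And.intro (hc 1 (one_mem _) ha.1 hb.1) (hc _ (wP_mem l) ha.2 hb.2)⟩ h.1 h.2.1 fun r => by
      rw [h.2.2 r r.2, Set.mem_ofPred_eq, rd_pos, rd_pos, wP_val]

theorem nf_Um (l : List ℕ) {L : List ℕ} (h : (∀ r ∈ L, r < D.nroots) ∧ L.Nodup ∧
    ∀ r < D.nroots, r ∈ L ↔ D.IsPosRoot r ∧ ¬ D.IsPosRoot (fN D l r)) : M.NF (Um M.T (wP D l)) L :=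
  nf_of_clo M (clo_inv (wP_mem l)) h.1 h.2.1 fun r => by
    rw [h.2.2 r r.2, Set.mem_ofPred_eq, rd_pos, rd_pos, wP_val]

end CM

variable [H65.Tab D] [H65.Comm D] {K K' : Type*} [Field K] [Field K']

theorem act_tor (i : Fin D.rank) (c : Fin D.rank → Kˣ) :
    Act (hxθ K i) ((mat D K).tor c) (CM.chi c (D.simple i)) :=
  act_of (fun s => by rw [hxθ_upper, hxθ_upper]; exact (mat D K).tor_conj' c (H63.simpleR i).2 s) fun s => by
    rw [hxθ_lower, hxθ_lower, ← Units.val_inv_eq_inv_val]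
    exact CM.chi_neg c (H63.simpleR i) ▸ (mat D K).tor_conj' c ((rd D).neg (H63.simpleR i)).2 s

theorem map_chi (f : K →+* K') (c : Fin D.rank → Kˣ) (r : ℕ) :
    CM.chi (fun i => Units.map (f : K →* K') (c i)) r = Units.map (f : K →* K') (CM.chi c r) := by
  simp only [CM.chi, map_prod, map_zpow]

theorem map_tor (f : K →+* K') (c : Fin D.rank → Kˣ) : Matrix.GeneralLinearGroup.map f ((mat D K).tor c) =
    (mat D K').tor fun i => Units.map (f : K →* K') (c i) := by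
  refine Units.ext ?_
  change (H65.dg D fun s => (CM.chi c s : K)).map f = H65.dg D fun s => ((CM.chi _ s : K'ˣ) : K')
  simp only [H65.dg, map_chi]
  rw [Matrix.diagonal_map (map_zero f)]
  congr 1
  ext (i | i) <;> simp

theorem map_x (f : K →+* K') (r : ℕ) (t : K) :
    Matrix.GeneralLinearGroup.map f ((mat D K).x r t) = (mat D K').x r (f t) := H68.map_xU f r t

theorem map_hx (f : K →+* K') (i : Fin D.rank) (m : SL2 K) :
    Matrix.GeneralLinearGroup.map f (hxθ K i m) = hxθ K' i (Matrix.SpecialLinearGroup.map f m) :=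
  (H12.LC.sl_induction (K := ((Matrix.GeneralLinearGroup.map f).comp (hxθ K i)).eqLocus
    ((hxθ K' i).comp (Matrix.SpecialLinearGroup.map f)))
    (fun s => show Matrix.GeneralLinearGroup.map f (hxθ K i _) = hxθ K' i _ by
      rw [hx_map_upper, hxθ_upper, hxθ_upper, map_x])
    fun s => show Matrix.GeneralLinearGroup.map f (hxθ K i _) = hxθ K' i _ by
      rw [hx_map_lower, hxθ_lower, hxθ_lower, map_x]).ge (Subgroup.mem_top m)

theorem hx_conj_Up (i : Fin D.rank) (m : SL2 K) {u : GL D.Idx K} (hu : u ∈ (mat D K).T.Up i) :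
    hxθ K i m * u * (hxθ K i m)⁻¹ ∈ (mat D K).T.Up i := by
  have key : ∀ r : Rt D, (∀ x ∈ (mat D K).T.X r, ∀ u ∈ (mat D K).T.Up i, x * u * x⁻¹ ∈ (mat D K).T.Up i) →
      ∀ t, (mat D K).x r t ∈ Subgroup.normalizer ((mat D K).T.Up i : Set _) := fun r h t =>
    RGD.mem_normalizer_of_conj (h _ ((mat D K).x_mem r t)) (h _ (inv_mem ((mat D K).x_mem r t)))
  exact (Subgroup.mem_normalizer_iff.1 ((H12.LC.sl_induction
    (K := (Subgroup.normalizer ((mat D K).T.Up i : Set _)).comap (hxθ K i))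
    (fun s => Subgroup.mem_comap.2 (hxθ_upper i s ▸ key ((rd D).sim i) (fun _ h _ => (mat D K).T.X_conj_Up h) s))
    fun s => Subgroup.mem_comap.2 (hxθ_lower i s ▸ key ((rd D).neg ((rd D).sim i))
      (fun _ h _ => (mat D K).T.X_neg_conj_Up h) s)).ge (Subgroup.mem_top m)) u).1 hu

theorem disc_ne' [Finite K] {M : M2 K} (h : IsEll M) : M.trace ^ 2 ≠ 4 * M.det := by
  by_cases h2 : ringChar K = 2
  · have h3 : (2 : K) = 0 := by simpa [h2] using ringChar.Nat.cast_ringChar (R := K)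
    obtain ⟨e, he⟩ := FiniteField.isSquare_of_char_two h2 M.det
    refine fun h4 => H33.isEll_iff.1 h e ?_
    rw [pow_eq_zero_iff (n := 2) two_ne_zero |>.1 (by linear_combination h4 + 2 * M.det * h3 : M.trace ^ 2 = 0), he]
    linear_combination e * e * h3
  · exact disc_ne h (Ring.two_ne_zero h2)

/-- No fixed point on a root of the radical. -/
def NoFix (n : ℤ) (a k : Kˣ) : Prop := n = 0 ∧ k ≠ 1 ∨ n = 1 ∨ n = -1 ∨ (n = 2 ∨ n = -2) ∧ IsSquare k ∨
  n = 3 ∧ k ^ 2 ≠ a ^ 3 ∨ n = -3 ∧ k⁻¹ ^ 2 ≠ a ^ 3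

theorem NoFix.ne {n : ℤ} {a k : Kˣ} (h : NoFix n a k) (f : K →+* K') {τ : K} {l : K'ˣ}
    (h1 : ∀ e, f e ≠ l) (h2 : (l : K') ^ 2 - f τ * l + f a = 0) : l ^ n ≠ Units.map (f : K →* K') k := by
  have h3 : ∀ k : Kˣ, l ^ 3 = Units.map (f : K →* K') k → k ^ 2 = a ^ 3 := fun k e => by
    have e1 : f k = (l : K') ^ 3 := (congrArg Units.val e).symm
    have e2 : τ ^ 2 = a := by
      by_contra h
      refine h1 ((k + τ * a) / (τ ^ 2 - a)) ?_
      rw [map_div₀, div_eq_iff ((map_ne_zero f).2 (sub_ne_zero.2 h))]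
      simp only [map_add, map_mul, map_sub, map_pow]
      linear_combination e1 + (l + f τ) * h2
    refine Units.ext (f.injective ?_)
    simp only [Units.val_pow_eq_pow_val, ← e2, map_pow] at h2 ⊢
    linear_combination (f k + l ^ 3) * e1 + (l + f τ) * (l ^ 3 - f τ ^ 3) * h2
  have h4 : ∀ e : Kˣ, l ^ 2 ≠ Units.map (f : K →* K') (e * e) := fun e h => by
    have e1 : (l : K') ^ 2 = f e ^ 2 := by simpa [pow_two] using congrArg Units.val h
    rcases sq_eq_sq_iff_eq_or_eq_neg.1 e1 with h | h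
    exacts [h1 e h.symm, h1 (-e) (by rw [map_neg, h])]
  rintro e
  rcases h with ⟨rfl, h⟩ | rfl | rfl | ⟨rfl | rfl, b, rfl⟩ | ⟨rfl, h⟩ | ⟨rfl, h⟩
  · exact h (Units.ext (f.injective (by simpa using (congrArg Units.val e).symm)))
  · exact h1 k (by simpa using (congrArg Units.val e).symm)
  · exact h1 k⁻¹ (by simpa using (congrArg (fun x : K'ˣ => ((x⁻¹ : K'ˣ) : K')) e).symm)
  · exact h4 b e
  · exact h4 b⁻¹ (by rw [← mul_inv, map_inv, ← e]; group)
  · exact h (h3 k e)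
  · exact h (h3 k⁻¹ (by rw [map_inv, ← e]; group))

theorem ell_fix [Finite K] (i : Fin D.rank) {L : List ℕ} (hL : (∀ r ∈ L, r < D.nroots) ∧ L.Nodup ∧
    ∀ r < D.nroots, r ∈ L ↔ D.IsPosRoot r ∧ D.IsPosRoot (fN D [i] r)) {m : SL2 K} {c : Fin D.rank → Kˣ}
    (hM : IsEll ((m : M2 K) * dgm (CM.chi c (D.simple i))))
    (h : ∀ r ∈ L, NoFix (D.cartan i r) (CM.chi c (D.simple i)) (CM.chi c r)) {u : GL D.Idx K}
    (hu : u ∈ Up (mat D K).T (wP D [i])) (e : hxθ K i m * (mat D K).tor c * u = u * (hxθ K i m * (mat D K).tor c)) :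
    u = 1 := by
  set a := CM.chi c (D.simple i) with ha
  set M := (m : M2 K) * dgm a with hM'
  have hd : M.det = a := by simp [hM', det_dgm]
  open Polynomial in
  let P : K[X] := C 1 * X ^ 2 + C (-M.trace) * X + C M.det
  have hP : P.degree = 2 := Polynomial.degree_quadratic one_ne_zero
  let f := algebraMap K P.SplittingField
  have : Finite P.SplittingField := Module.finite_of_finite K
  obtain ⟨l, hl⟩ := (Polynomial.SplittingField.splits P).exists_eval_eq_zero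
    (by rw [Polynomial.degree_map, hP]; decide)
  simp only [P, Polynomial.eval_map_algebraMap, map_add, map_mul, Polynomial.aeval_C, map_pow, Polynomial.aeval_X,
    map_one, map_neg, hd] at hl
  have h1 : ∀ e, f e ≠ l := fun e h => H33.isEll_iff.1 hM e (f.injective (by
    simp only [map_add, map_sub, map_mul, map_pow, map_zero, h, hd]; linear_combination hl))
  have h0 : l ≠ 0 := fun h => h1 0 (by rw [h, map_zero])
  let c' := fun i => Units.map (f : K →* P.SplittingField) (c i)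
  have hc : (CM.chi c' (D.simple i) : P.SplittingField) = f a := by rw [map_chi]; rfl
  have h2 : Rel (hxθ _ i) (M.map f) ((mat D _).tor c') (Matrix.GeneralLinearGroup.map f
      (hxθ K i m * (mat D K).tor c)) := ⟨_, Matrix.SpecialLinearGroup.map f m, act_tor i c', by
    apply m2_ext <;> simp [hM', m2_mul_apply, dgm, hc], by rw [map_mul, map_hx, map_tor]⟩
  have h3 : Rel (hxθ _ i) _ _ _ := ⟨_, hxD l⁻¹ (inv_ne_zero h0), act_tor i c', rfl, rfl⟩
  have h4 : (M.map f).trace = f M.trace := by simp [Matrix.trace_fin_two]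
  have h5 : (M.map f).det = f M.det := by simp [Matrix.det_fin_two]
  obtain ⟨Q, hQ⟩ := exists_conj (A := M.map f) (B := (hxD l⁻¹ (inv_ne_zero h0) : M2 _) * dgm (CM.chi c' (D.simple i)))
    (fun h => disc_ne' hM (f.injective (by simpa [h4, h5, map_ofNat] using h)))
    (by simp [h4, hxD, dgm, hc]; field_simp; linear_combination hl) (by simp [h5, det_dgm, hc, hd])
  have h6 := h2.conj h3 hQ
  rw [hxθ_D, ← map_mul] at h6
  obtain ⟨w, hw, rfl⟩ := (nf_Up (mat D K) _ hL).ex u hu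
  have h7 : Matrix.GeneralLinearGroup.map f ((mat D K).wd w) ∈ (mat D _).T.Up i := by
    rw [← Up_s, ← wP_single, CM.wd, map_list_prod]
    refine Subgroup.list_prod_mem _ fun g hg => ?_
    simp only [List.map_map, List.mem_map, Function.comp] at hg
    obtain ⟨x, hx, rfl⟩ := hg
    rw [map_x]
    exact (nf_Up _ _ hL).mem _ (hw ▸ List.mem_map_of_mem hx) _
  have h8 := hx_conj_Up i Q h7
  rw [← Up_s, ← wP_single] at h8
  have h9 := (nf_Up _ _ hL).eq_one_of_comm (c := Pi.mulSingle i (Units.mk0 l⁻¹ (inv_ne_zero h0)) * c')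
    (fun r hr h9 => (h r hr).ne f (τ := M.trace)
    (l := Units.mk0 l h0) h1 (by simpa [hd] using by linear_combination hl) (by
      rw [CM.chi_mul, CM.chi_single, map_chi, ← eq_inv_iff_mul_eq_one] at h9
      rw [← inv_inj, ← h9, ← inv_zpow]
      congr 1
      exact Units.ext (by simp))) h8 (by
    rw [← h6]
    have := congrArg (Matrix.GeneralLinearGroup.map f) e
    rw [map_mul, map_mul _ ((mat D K).wd w)] at this
    simp only [mul_assoc, inv_mul_cancel_left]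
    rw [← mul_assoc _ _ (hxθ _ i Q)⁻¹, this, mul_assoc])
  rw [mul_inv_eq_one, mul_eq_left] at h9
  exact Units.ext (Matrix.ext fun i j => f.injective (by
    simpa [Matrix.one_apply, apply_ite f] using congrArg (fun g : GL D.Idx P.SplittingField => g.1 i j) h9))

theorem hx_mem (i : Fin D.rank) (m : SL2 K) : hxθ K i m ∈ (mat D K).T.Gp :=
  (H12.LC.sl_induction (K := (mat D K).T.Gp.comap (hxθ K i))
    (fun s => Subgroup.mem_comap.2 (hxθ_upper i s ▸ (mat D K).x_mem_Gp ((rd D).sim i).2 s))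
    fun s => Subgroup.mem_comap.2 (hxθ_lower i s ▸ (mat D K).x_mem_Gp ((rd D).neg ((rd D).sim i)).2 s)).ge
      (Subgroup.mem_top m)

theorem ac_weyl (i : Fin D.rank) : Ac (mat D K).T (hxθ K i (weyl K)) ((rd D).s i) := by
  rw [hxθ_weyl, ← RD.s_inv]
  exact (ac_n i).inv

theorem chev2 [Finite K] [CharP K p] [IsSimpleGroup (D.group K)] (hK : ∃ t : K, t ≠ 0 ∧ t ≠ 1)
    (i j : Fin D.rank) (l₀ L Z : List ℕ) (c : ℕ) (C : List (ℕ × ℤ × ℕ × ℕ))
    (h1 : i ≠ j ∧ (∀ k, k = i ∨ k = j) ∧ (∀ r < D.nroots, fN D l₀ r = D.neg r) ∧ D.cartan j (D.simple i) = -1)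
    (hi : (∀ r ∈ L, r < D.nroots) ∧ L.Nodup ∧
      ∀ r < D.nroots, r ∈ L ↔ D.IsPosRoot r ∧ D.IsPosRoot (fN D [i] r))
    (hj : (∀ r ∈ D.simple i :: c :: Z, r < D.nroots) ∧ (D.simple i :: c :: Z).Nodup ∧
      ∀ r < D.nroots, r ∈ D.simple i :: c :: Z ↔ D.IsPosRoot r ∧ D.IsPosRoot (fN D [j] r))
    (h2 : D.commTerms (D.neg (D.simple j)) c = (D.simple i, 1, 1, 1) :: C ∧ (∀ x ∈ C, x.1 ∈ L) ∧ c ∈ L ∧
      D.commTerms (D.neg (D.simple j)) (D.simple i) = [] ∧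
      (∀ r ∈ D.simple i :: c :: Z, r ≠ D.neg (D.simple j) ∧ r ≠ D.neg (D.neg (D.simple j))) ∧
      (∀ r ∈ Z, r ∈ L ∧ ∀ x ∈ D.commTerms (D.neg (D.simple j)) r, x.1 ∈ L) ∧
      ∀ r ∈ D.simple i :: Z, D.reflectRoot j r ∈ L)
    (hE : ∀ t : Kˣ, t ≠ 1 → ∀ r ∈ L, NoFix (D.cartan i r) t⁻¹ (t ^ D.cartan j r)) :
    ∃ x : D.group K, ¬ p ∣ orderOf x ∧ ∀ g ≠ 1, Pr x x g := by
  have hG := mat_Gp (D := D) (K := K)
  have hD := chevSBN_good D K p
  have cm : Cmp (mat D K).T (chevSBN D K p) := ⟨fun x => by rw [chevSBN_U]; rfl,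
    fun x => by rw [chevSBN_B]; rfl, fun x => by rw [chevSBN_N]; rfl⟩
  obtain ⟨ν, hν, hac⟩ := exists_N_ac (mat D K).T (wP_mem l₀)
  have h0 : ∀ r, wP D l₀ r = (rd D).neg r := fun r => Fin.ext (by rw [wP_val, h1.2.2.1 r r.2, rd_neg_val])
  let ν' : D.group K := ⟨ν, hG ▸ (mat D K).T.N_le_Gp hν⟩
  have hν' := (cm.N ν').2 hν
  have hs : ∀ k, Ac (mat D K).T (chevEq D K p k : D.group K) ((rd D).s k) := ac_n
  let R := cm.rk2 (ν := ν') (chevEq D K p i) (chevEq D K p j) (fun h => h1.1 ((chevEq D K p).injective h))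
    (fun s => by
      obtain ⟨k, rfl⟩ := (chevEq D K p).surjective s
      exact (h1.2.1 k).imp (congrArg _) (congrArg _)) (hs i) (RD.s_inv i) (RD.s_mem_W i) hν' hac h0
  let φ : Fin D.rank → SL2 K →* D.group K := fun k => (hxθ K k).codRestrict _ fun m => hG ▸ hx_mem k m
  have hφ : ∀ k m, (φ k m : GL D.Idx K) = hxθ K k m := fun _ _ => rfl
  have hX : ∀ k (g : D.group K), g ∈ (chevSBN D K p).X (chevEq D K p k) ↔ ∃ t, g = φ k (upper t) := fun k g => by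
    rw [cm.mem_X (hs k) (RD.s_inv k) hν' hac h0, Um_s, CM.mem_X]
    simp only [Subtype.ext_iff, hφ, hxθ_upper, rd_sim_val]
  have hR : ∀ k (g : D.group K), g ∈ (chevSBN D K p).R {chevEq D K p k} ↔
      (g : GL D.Idx K) ∈ Up (mat D K).T (wP D [k]) := fun k g => by
    rw [cm.mem_R (hs k) (RD.s_inv k), wP_single]
  have hw : ∀ k, φ k (weyl K) ∈ (chevSBN D K p).N ∧
      wOf (chevSBN D K p).P (φ k (weyl K)) = sim _ (chevEq D K p k) := fun k =>
    have h := (cm.N (φ k (weyl K))).2 (by rw [hφ, hxθ_weyl]; exact inv_mem ((mat D K).T.n_mem_N k))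
    ⟨h, (cm.wOf_eq h ((chevSBN D K p).S_mem _) (ac_weyl k) (hs k)).trans (wOf_S _)⟩
  have hD' : ∀ k d hd, φ k (hxD d hd) ∈ (chevSBN D K p).H := fun k d hd =>
    cm.H.2 (by rw [hφ, hxθ_D]; exact (mat D K).tor_mem _)
  have hχ : ∀ t : Kˣ, CM.chi (Pi.mulSingle j t : Fin D.rank → Kˣ) (D.simple i) = t⁻¹ := fun t => by
    rw [CM.chi_single, h1.2.2.2, zpow_neg_one]
  have ha : ∀ t ht, Act (φ i) (φ j (hxD t ht)) (Units.mk0 t ht)⁻¹ := fun t ht m => Subtype.ext (by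
    have := act_tor i (Pi.mulSingle j (Units.mk0 t ht)) m
    rwa [hχ, ← hxθ_D] at this)
  have hinj : ∀ t, φ i (upper t) = 1 → t = 0 := fun t h =>
    (mat D K).x_eq_one ((rd D).sim i) t (by rw [rd_sim_val, ← hxθ_upper]; exact congrArg Subtype.val h)
  have nL := nf_Up (mat D K) _ hi
  have hb : D.neg (D.simple j) < D.nroots := ((rd D).neg ((rd D).sim j)).2
  have hn : ∀ s, ∀ u ∈ Up (mat D K).T (wP D [i]), ((mat D K).x (D.simple i) s)⁻¹ * u * (mat D K).x (D.simple i) s ∈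
      Up (mat D K).T (wP D [i]) := fun s u hu => by
    have := hx_conj_Up i (upper s)⁻¹ (by rwa [← Up_s, ← wP_single])
    rwa [map_inv, inv_inv, hxθ_upper, ← Up_s, ← wP_single] at this
  have hc : ∀ γ t : K, ((mat D K).x (D.simple i) (-γ * t))⁻¹ * (((mat D K).x (D.neg (D.simple j)) γ)⁻¹ *
      (mat D K).x c t * (mat D K).x (D.neg (D.simple j)) γ) ∈ Up (mat D K).T (wP D [i]) := fun γ t => by
    rw [mul_assoc _ ((mat D K).x c t), (mat D K).comm' hb (hj.1 c (by simp)) (h2.2.2.2.2.1 c (by simp)).1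
      (h2.2.2.2.2.1 c (by simp)).2, ChevalleyDatum.commWord, h2.1, List.map_cons, CM.wd_cons]
    simp only [Int.cast_one, one_mul, pow_one, mul_assoc, inv_mul_cancel_left]
    rw [← mul_assoc, ← mul_assoc]
    refine mul_mem (hn _ _ (nL.mem _ h2.2.2.1 _)) (nL.wd_mem fun x hx => ?_)
    obtain ⟨y, hy, rfl⟩ := List.mem_map.1 hx
    exact h2.2.1 y hy
  refine Lev.main (R := R) ⟨φ i, φ j, hX i, fun t => (hX j _).2 ⟨t, rfl⟩, hinj, hw i, hw j, hD' i, hD' j,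
    fun h hh => ?_, fun t ht => ⟨_, ha t ht⟩, fun γ hγ s => ?_, fun _ u hu => ?_,
    fun t ht a m h3 h4 u hu e hu1 => ?_, fun _ => ?_, fun _ => ⟨?_, fun h hh => ?_⟩⟩ hD (gen_of_simple hD)
  · obtain ⟨c, hc⟩ := (mat D K).exists_tor (cm.H.1 hh)
    refine ⟨c i, (c i).ne_zero, c j, (c j).ne_zero, Subtype.ext ?_⟩
    rw [hc, Subgroup.coe_mul, hφ, hφ, hxθ_D, hxθ_D, ← map_mul]
    congr 1
    funext k
    rcases h1.2.1 k with rfl | rfl <;> simp [h1.1, h1.1.symm]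
  · refine ⟨⟨(mat D K).x c (-s / γ), hG ▸ (mat D K).x_mem_Gp (hj.1 c (by simp)) _⟩,
      (hR i _).2 (nL.mem _ h2.2.2.1 _), (hR i _).2 ?_⟩
    have := hc γ (-s / γ)
    rwa [show -γ * (-s / γ) = s by field_simp, ← hxθ_upper, ← hxθ_lower] at this
  · obtain ⟨w, hw₁, e⟩ := (nf_Up (mat D K) _ hj).ex _ ((hR j u).1 hu)
    obtain ⟨s, w, rfl, hw₂⟩ := map_fst_eq_cons.1 hw₁
    obtain ⟨t, w, rfl, hw⟩ := map_fst_eq_cons.1 hw₂
    have key : ∀ g : GL D.Idx K, (∀ r ∈ Z, ∀ t, g⁻¹ * (mat D K).x r t * g ∈ Up (mat D K).T (wP D [i])) →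
        g⁻¹ * (mat D K).wd w * g ∈ Up (mat D K).T (wP D [i]) := fun g h => mem_cjs.1
      (Subgroup.list_prod_mem _ fun y hy => by
        obtain ⟨x, hx, rfl⟩ := List.mem_map.1 hy
        exact mem_cjs.2 (h _ (hw ▸ List.mem_map_of_mem hx) _))
    rw [CM.wd_cons, CM.wd_cons] at e
    by_cases ht : t = 0
    · have h3 : ∀ r ∈ D.simple i :: Z, ∀ t, (hxθ K j (weyl K))⁻¹ * (mat D K).x r t * hxθ K j (weyl K) ∈
          Up (mat D K).T (wP D [i]) := fun r hr t => by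
        obtain ⟨η, -, h⟩ := (mat D K).n_conj j ⟨r, hj.1 r (by simp at hr ⊢; tauto)⟩
        rw [hxθ_weyl, inv_inv, h]
        exact nL.mem _ (h2.2.2.2.2.2.2 r hr) _
      refine ⟨φ j (weyl K), (hR i _).2 ?_⟩
      simpa [e, hφ, ht, mul_assoc] using mul_mem (h3 (D.simple i) (by simp) s) (key _ fun r hr => h3 r (by simp [hr]))
    · refine ⟨φ j (lower (s / t)), (hR i _).2 ?_⟩
      have h3 := (mul_mem (hc (s / t) t) (key ((mat D K).x (D.neg (D.simple j)) (s / t)) fun r hr t => by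
        have h := h2.2.2.2.2.1 r (by simp [hr])
        rw [mul_assoc, (mat D K).comm' hb (hj.1 r (by simp [hr])) h.1 h.2, mul_assoc, inv_mul_cancel_left]
        refine mul_mem (nL.mem _ (h2.2.2.2.2.2.1 r hr).1 _) (nL.wd_mem fun x hx => ?_)
        obtain ⟨y, hy, rfl⟩ := List.mem_map.1 hx
        exact (h2.2.2.2.2.2.1 r hr).2 y hy))
      rw [show -(s / t) * t = -s by field_simp, CM.x_inv, neg_neg] at h3
      have hcm := (mat D K).x_comm hb (hj.1 _ (by simp)) (h2.2.2.2.2.1 _ (by simp)).2 h2.2.2.2.1 (s / t) s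
      have e' : ((φ j (lower (s / t)))⁻¹ * u * φ j (lower (s / t)) : D.group K) =
          ((mat D K).x (D.neg (D.simple j)) (s / t))⁻¹ * ((mat D K).x (D.simple i) s * ((mat D K).x c t *
            (mat D K).wd w)) * (mat D K).x (D.neg (D.simple j)) (s / t) := by
        rw [Subgroup.coe_mul, Subgroup.coe_mul, Subgroup.coe_inv, hφ, hxθ_lower, e]
      rw [e', ← mul_assoc _ ((mat D K).x (D.simple i) s), (Commute.inv_left hcm.symm).eq]
      convert h3 using 1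
      group
  · obtain rfl := h3.unique hinj (ha t ht)
    by_contra h5
    refine hu1 (Subtype.ext (ell_fix i hi (m := m) (c := Pi.mulSingle j (Units.mk0 t ht)) (by rwa [hχ])
      (fun r hr => ?_) ((hR i u).1 hu) (by simpa [hφ, hxθ_D] using congrArg Subtype.val e)))
    rw [hχ, CM.chi_single]
    refine hE _ (fun h => h5 (Subtype.ext ?_)) r hr
    rw [hφ, hxθ_D, h, Pi.mulSingle_one, map_one, Subgroup.coe_one]
  · convert ha (-1) (by simp) using 1
    · rw [hxD_neg_one]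
    · exact Units.ext (by simp)
  · obtain ⟨t, h3, h4⟩ := hK
    refine ⟨t, h3, fun h => h4 ?_⟩
    have := (mat D K).tor_eq_one_iff.1 ((hxθ_D j t h3).symm.trans (congrArg Subtype.val h)) i
    rw [hχ, inv_eq_one] at this
    exact congrArg Units.val this
  · exact Subtype.ext ((mat D K).conj_H_of_neg (inv_mem (wP_mem l₀)) (Cmp.inv_neg h0) (inv_mem hν) hac.inv
      (cm.H.1 hh))

end H68.Gow
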