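/- Squares of conjugacy classes in split groups: the exceptional groups. -/
import Cfsg.Agent.H68.EG2
import Cfsg.Agent.H68.Ore4
import Cfsg.Agent.H64.CRecE
import Cfsg.Agent.H54.GRDTop

set_option autoImplicit false
set_option linter.unusedSectionVars false

namespace H68.EG

open Cfsg Cfsg.Lie H54 H64 H33 H61 H83 H72 H68.Gow
open H57 (xA StA)
open H63 (RS Rt)

universe u

/-- The signs of the root elements of a subsystem of type `A`. -/
def epsK {k : ℕ} (a b : Fin k) : ℤ := if ((a : ℕ) + b) % 2 = 1 then 1 else -1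

/-- The table check for a subsystem of type `A`. -/
def ChkK (D : ChevalleyDatum) {k : ℕ} (ρ : Fin k → Fin k → ℕ) : Prop :=
  (∀ a b, ρ a b < D.nroots) ∧
  (∀ a b c d, a ≠ b → c ≠ d → a ≠ d → b ≠ c → (a = c ∧ b = d) ∨ ChkC D (ρ a b) (ρ c d)) ∧
  ∀ i j k, i ≠ j → j ≠ k → i ≠ k → ρ i j ≠ ρ j k ∧ ρ i j ≠ D.neg (ρ j k) ∧
    D.commTerms (ρ j k) (ρ i j) = [(ρ i k, -(epsK i k * epsK i j * epsK j k), 1, 1)]

set_option synthInstance.maxSize 2000 in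
instance (D : ChevalleyDatum) {k : ℕ} (ρ : Fin k → Fin k → ℕ) : Decidable (ChkK D ρ) := by
  unfold ChkK; infer_instance

theorem stA_of_chk {F G : Type*} [Field F] [Group G] {D : ChevalleyDatum} {x : ℕ → F → G} (h : St D x)
    {k : ℕ} {ρ : Fin k → Fin k → ℕ} (hc : ChkK D ρ) : StA fun a b t => x (ρ a b) (epsK a b * t) := by
  have hcomm : ∀ a b c d, a ≠ b → c ≠ d → a ≠ d → b ≠ c → ∀ s t,
      Commute (x (ρ a b) s) (x (ρ c d) t) := fun a b c d h1 h2 h3 h4 s t => by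
    rcases hc.2.1 a b c d h1 h2 h3 h4 with ⟨rfl, rfl⟩ | h5
    · exact h.x_comm ⟨_, hc.1 a b⟩ s t
    · exact h.commute_of_chk (hc.1 _ _) (hc.1 _ _) h5 s t
  refine ⟨fun i j _ s t => by rw [h.add _ (hc.1 i j), mul_add],
    fun i j k l a b c d s t => hcomm i j k l a b c d _ _, fun i j k a b c s t => ?_⟩
  obtain ⟨h1, h2, h3⟩ := hc.2.2 i j k a b c
  rw [h.comm _ _ (hc.1 j k) (hc.1 i j) h1 h2, ChevalleyDatum.commWord, h3]
  simp only [List.map_cons, List.map_nil, wd_cons, wd_nil, mul_one]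
  rw [mul_assoc (x (ρ j k) _), (hcomm i j i k a c c a.symm _ _).eq, ← mul_assoc, mul_inv_cancel_right,
    (hcomm j k i k b c b c.symm _ _).eq, mul_inv_cancel_right]
  congr 1
  have e : ∀ {N : ℕ} (i j : Fin N), ((epsK i j : ℤ) : F) ^ 2 = 1 := fun i j => by
    unfold epsK; split_ifs <;> simp
  push_cast
  linear_combination (epsK i k * s * t * epsK j k ^ 2) * e i j + (epsK i k * s * t) * e j k

/-- The value of a cocharacter on a root. -/
def lv (D : ChevalleyDatum) (b : Fin D.rank → ℤ) (r : ℕ) : ℤ := ∑ i : Fin D.rank, b i * D.cartan i r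

/-- The table check for the Levi data. -/
def ChkE (D : ChevalleyDatum) {n : ℕ} (nd : Fin n → Fin D.rank) (ρ : Fin (n + 1) → Fin (n + 1) → ℕ)
    (a b : Fin D.rank → ℤ) (l : List ℕ) (τ : Fin D.rank → Fin D.rank) (σ : Fin n → Fin n) : Prop :=
  (n = 0 ∨ 2 ≤ n ∧ ChkK D ρ ∧ ∀ i : Fin n, ρ i.castSucc i.succ = D.simple (nd i) ∧
      ρ i.succ i.castSucc = D.neg (D.simple (nd i))) ∧
  (∀ A : Finset (Fin D.rank), ∀ i ∈ A, ∀ j ∉ A, ∃ r ∈ A, ∃ t ∉ A,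
      ∃ k ∈ [1, 2, 3], D.cartan r (D.simple t) = -(k : ℕ)) ∧
  (∀ i, lv D b (D.simple (nd i)) = 0 ∧ lv D a (D.simple (nd i)) = if (i : ℕ) = 0 then 1 else 0) ∧
  (∀ r < D.nroots, (lv D b r).natAbs < 8 ∧ (lv D b r = 0 → ∀ i, (∀ j, nd j ≠ i) → H63.co D r i = 0)) ∧
  (∀ j : Fin D.rank, fN D l (D.neg (D.simple (τ j))) = D.simple j ∧
      lv D b (D.simple (τ j)) = lv D b (D.simple j)) ∧
  ∀ i, fN D l (D.simple (nd i)) = D.neg (D.simple (nd (σ i)))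

set_option synthInstance.maxSize 2000 in
instance decChkE (D : ChevalleyDatum) {n : ℕ} (nd : Fin n → Fin D.rank) (ρ : Fin (n + 1) → Fin (n + 1) → ℕ)
    (a b : Fin D.rank → ℤ) (l : List ℕ) (τ : Fin D.rank → Fin D.rank) (σ : Fin n → Fin n) :
    Decidable (ChkE D nd ρ a b l τ σ) := by
  unfold ChkE; infer_instance

variable {D : ChevalleyDatum} [RS D] [H65.Tab D] [H65.Comm D] {K : Type u} [Field K] [Finite K]

theorem chi_zpow (s : Kˣ) (b : Fin D.rank → ℤ) (r : ℕ) : CM.chi (fun i => s ^ b i) r = s ^ lv D b r := by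
  simp only [CM.chi, lv, ← zpow_mul]
  induction (Finset.univ : Finset (Fin D.rank)) using Finset.cons_induction with
  | empty => simp
  | cons i A h ih => rw [Finset.prod_cons, Finset.sum_cons, zpow_add, ih]

theorem exists_levi {n : ℕ} (nd : Fin n → Fin D.rank) (ρ : Fin (n + 1) → Fin (n + 1) → ℕ)
    (h : n = 0 ∨ 2 ≤ n ∧ ChkK D ρ ∧ ∀ i : Fin n, ρ i.castSucc i.succ = D.simple (nd i) ∧
      ρ i.succ i.castSucc = D.neg (D.simple (nd i))) :
    ∃ Λ : SLn n K →* GL D.Idx K, (∀ i t, Λ (eU i t) = (mat D K).x (D.simple (nd i)) t) ∧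
      ∀ i t, Λ (eL i t) = (mat D K).x (D.neg (D.simple (nd i))) t := by
  rcases h with rfl | ⟨h1, h2, h3⟩
  · exact ⟨1, fun i => i.elim0, fun i => i.elim0⟩
  obtain ⟨Λ, h⟩ := (stA_of_chk (st_xU (D := D) (K := K)) h2).exists_hom (by omega)
  refine ⟨Λ, fun i t => ?_, fun i t => ?_⟩
  · rw [eU, h _ _ (Fin.castSucc_lt_succ).ne, (h3 i).1, epsK, if_pos (by simp; omega)]; simp
  · rw [eL, h _ _ (Fin.castSucc_lt_succ).ne', (h3 i).2, epsK, if_pos (by simp; omega)]; simp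

theorem mod_of_chev (h9 : 9 ≤ Nat.card K) {n : ℕ} (nd : Fin n → Fin D.rank)
    (ρ : Fin (n + 1) → Fin (n + 1) → ℕ) (a b : Fin D.rank → ℤ) (l : List ℕ) (τ : Fin D.rank → Fin D.rank)
    (σ : Equiv.Perm (Fin n))
    (hc : ChkE D nd ρ a b l τ σ) : Mod K (D.group K) := by
  obtain ⟨h0, h1, h2, h3, h4, h5⟩ := hc
  have hG := mat_Gp (D := D) (K := K)
  let M := mat D K
  let φ : Fin D.rank → SL2 K →* D.group K := fun k => (hxθ K k).codRestrict _ fun m => hG ▸ hx_mem k m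
  have hφ : ∀ k m, (φ k m : GL D.Idx K) = hxθ K k m := fun _ _ => rfl
  have act : ∀ i j (c : Kˣ), Act (φ j) (φ i (hxD (c : K) c.ne_zero)) (c ^ D.cartan i (D.simple j)) :=
    fun i j c m => Subtype.ext (by
      have := act_tor j (Pi.mulSingle i c) m
      rwa [CM.chi_single, show (mat D K).tor (Pi.mulSingle i c) = hxθ K i (hxD (c : K) c.ne_zero) by
        rw [hxθ_D, Units.mk0_val]] at this)
  obtain ⟨Λ₀, hU, hL⟩ := exists_levi (K := K) nd ρ h0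
  let Λ : SLn n K →* D.group K := Λ₀.codRestrict _ fun m =>
    ((H91.EG.jobRU K n).2.2.2 ((D.group K).comap Λ₀)
      (fun i t => by rw [Subgroup.mem_comap, hU, ← hG]; exact M.x_mem_Gp ((rd D).sim _).2 t)
      fun i t => by rw [Subgroup.mem_comap, hL, ← hG]; exact M.x_mem_Gp ((rd D).neg ((rd D).sim _)).2 t).ge
        (Subgroup.mem_top m)
  have hΛ : ∀ m, (Λ m : GL D.Idx K) = Λ₀ m := fun _ => rfl
  obtain ⟨s, hs⟩ := exists_gen (F := K)
  let tor : (Fin D.rank → Kˣ) → D.group K := fun c => ⟨M.tor c, hG ▸ M.T.H_le_Gp (M.tor_mem c)⟩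
  have hX : ∀ (r : Rt D) (g : D.group K), g ∈ (grdRes (ofRGD M.T) _ hG.symm).X r ↔
      ∃ t, (g : GL D.Idx K) = M.x r t := fun r g => M.mem_X r g
  have hc : ∀ {r : ℕ}, r < D.nroots → lv D b r = 0 → ∀ t,
      M.tor (fun i => s ^ b i) * M.x r t = M.x r t * M.tor fun i => s ^ b i := fun hr h t => by
    rw [← mul_inv_eq_iff_eq_mul, M.tor_conj' _ hr, chi_zpow, h, zpow_zero, Units.val_one, one_mul]
  have hn : ∀ r : Rt D, lv D b (D.neg r) = -lv D b r := fun r => by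
    simp only [lv, ← Finset.sum_neg_distrib, ← mul_neg]
    refine Finset.sum_congr rfl fun i _ => congrArg _ ?_
    have h1 := H63.pairing_negR_right (H63.simpleR i) r
    rwa [H63.simpleR_val, H63.pairing_simple i r, ← H63.negR_val, H63.pairing_simple] at h1
  refine ⟨Rt D, Fin D.rank, inferInstance, (rd D).toW, grdRes (ofRGD M.T) _ hG.symm, n,
    ⟨⟨φ, fun i g => ?_, fun i g => ?_, fun i j c => ⟨_, act i j c⟩, fun i j => ?_, ?_⟩⟩,
    ⟨⟨Λ, nd, fun i g => ?_, fun i g => ?_, fun i h => ?_, tor fun i => s ^ b i, M.tor_mem _, Subtype.ext ?_,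
      fun i t => Subtype.ext ?_, fun i t => Subtype.ext ?_, fun r hr x hx e => ?_, fun δ => ?_, ?_⟩⟩⟩
  · simp only [hX, Subtype.ext_iff, hφ, hxθ_upper]; rfl
  · simp only [hX, Subtype.ext_iff, hφ, hxθ_lower]; rfl
  · classical
    by_contra hj
    obtain ⟨r, hr, t, ht, k, hk, e⟩ := h1 (Finset.univ.filter fun j => Relation.ReflTransGen (Adj φ) i j)
      i (by simp [Relation.ReflTransGen.refl]) j (by simpa using hj)
    simp only [Finset.mem_filter, Finset.mem_univ, true_and] at hr ht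
    simp only [List.mem_cons, List.not_mem_nil, or_false] at hk
    exact ht (hr.tail (adj_of_pow (k := k) (by omega) (Or.inl (by omega)) fun c => e ▸ act r t c))
  · exact (grdRes_gen (ofRGD M.T) _ hG.symm _).trans
      (Subgroup.subgroupOf_eq_top.2 (H64.group_eq (D := D) (F := K)).le)
  · simp only [hX, Subtype.ext_iff, hΛ, hU]; rfl
  · simp only [hX, Subtype.ext_iff, hΛ, hL]; rfl
  · exact one_ne_zero (M.x_eq_one ((rd D).sim (nd i)) 1 ((hU i 1).symm.trans (congrArg Subtype.val h)))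
  · have := Fintype.ofFinite K
    rw [Subgroup.coe_pow, ← map_pow]
    congr 1
    funext i
    exact Units.ext (by rw [Pi.pow_apply, Units.val_pow_eq_pow_val, Nat.card_eq_fintype_card, FiniteField.pow_card])
  · rw [Subgroup.coe_mul, Subgroup.coe_mul, hΛ, hU]
    exact hc ((rd D).sim _).2 (h2 i).1 t
  · rw [Subgroup.coe_mul, Subgroup.coe_mul, hΛ, hL]
    exact hc ((rd D).neg ((rd D).sim _)).2 ((hn ((rd D).sim _)).trans (neg_eq_zero.2 (h2 i).1)) t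
  · obtain ⟨t, ht⟩ := (hX r x).1 hx
    refine Subtype.ext (ht.trans ?_)
    by_cases h : t = 0
    · simp [h]
    have e' := congrArg Subtype.val e
    rw [Subgroup.coe_mul, Subgroup.coe_mul, ht] at e'
    have h6 := M.chi_eq_one_of_comm r.2 h (mul_inv_eq_iff_eq_mul.2 e')
    rw [chi_zpow] at h6
    refine absurd (H64.mem_PhiJ_iff.2 fun i hi => (H63.co_eq_zero_iff r i).1 ((h3 r r.2).2
      (by_contra fun h7 => hs _ h7 (by have := (h3 r r.2).1; omega) h6) i fun j e => hi (e ▸ Set.mem_range_self j))) hr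
  · refine ⟨tor fun i => δ ^ a i, Subtype.ext (M.H_comm (M.tor_mem _) (M.tor_mem _)),
      fun i t => Subtype.ext ?_⟩
    rw [Subgroup.coe_mul, Subgroup.coe_mul, Subgroup.coe_inv, hΛ, hΛ, hU, hU]
    refine (M.tor_conj' _ ((rd D).sim _).2 t).trans ?_
    rw [chi_zpow, rd_sim_val, (h2 i).2]
    split_ifs <;> simp [M]
  · obtain ⟨y, hy, hac⟩ := exists_N_ac M.T (wP_mem l)
    refine ⟨⟨y, hG ▸ M.T.N_le_Gp hy⟩, Subtype.ext ?_, Or.inr ⟨σ, fun i x hx => ?_⟩⟩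
    · obtain ⟨c', e⟩ := M.exists_tor (M.T.conj_H hy (M.tor_mem fun i => s ^ b i))
      refine e.trans ?_
      rw [Subgroup.coe_inv, eq_inv_iff_mul_eq_one, ← map_mul, CM.tor_eq_one_iff]
      intro j
      have := M.chi_conj (wP_mem l) hy hac e ((rd D).neg ((rd D).sim (τ j)))
      rw [wP_val, rd_neg_val, rd_sim_val, (h4 j).1] at this
      rw [CM.chi_mul, this, chi_zpow, chi_zpow, ← zpow_add, ← rd_sim_val, hn, rd_sim_val, (h4 j).2,
        neg_add_cancel, zpow_zero]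
    · have := (hac _ _).1 hx
      rwa [show wP D l ((rd D).toW.p (nd i)) = (rd D).toW.neg ((rd D).toW.p (nd (σ i))) from
        Fin.ext ((wP_val _ _).trans (h5 i))] at this

theorem chk_chevG2 : ChkE chevG2 (n := 0) Fin.elim0 (fun _ _ => 0) 0 (![3, 5] : Fin 2 → ℤ) [0, 1, 0, 1, 0, 1] id id :=
  @of_decide_eq_true _ (decChkE ..) (by decide +kernel)

theorem chk_chevF4 : ChkE chevF4 (n := 2) (![0, 1] : Fin 2 → Fin 4) ![![0, 33, 34], ![14, 0, 27], ![13, 20, 0]]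
      (![0, -1, -2, 0] : Fin 4 → ℤ) (![3, 6, 9, 5] : Fin 4 → ℤ)
      [0, 1, 0, 2, 1, 0, 2, 1, 2, 3, 2, 1, 0, 2, 1, 2, 3, 2, 1, 0, 2, 1, 2, 3] id id :=
  @of_decide_eq_true _ (decChkE ..) (by decide +kernel)

theorem chk_chevE6 : ChkE chevE6 (n := 3) (![2, 3, 4] : Fin 3 → Fin 6)
      ![![0, 42, 43, 44], ![29, 0, 39, 40], ![28, 32, 0, 37], ![27, 31, 34, 0]]
      (![-1, 0, 0, 0, 0, 0] : Fin 6 → ℤ) (![3, 4, 5, 7, 5, 3] : Fin 6 → ℤ)
      [0, 1, 2, 0, 3, 1, 2, 0, 3, 2, 4, 3, 1, 2, 0, 3, 2, 4, 3, 1, 5, 4, 3, 1, 2, 0, 3, 2, 4, 3, 1, 5, 4, 3, 2, 0]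
      (![5, 1, 4, 3, 2, 0] : Fin 6 → Fin 6) (Equiv.swap 0 2 : Equiv.Perm (Fin 3)) :=
  @of_decide_eq_true _ (decChkE ..) (by decide +kernel)

theorem chk_chevE7 : ChkE chevE7 (n := 6) (![0, 2, 3, 4, 5, 6] : Fin 6 → Fin 7)
      ![![0, 93, 94, 95, 96, 97, 98], ![32, 0, 73, 74, 75, 76, 77], ![31, 52, 0, 69, 70, 71, 72],
        ![30, 51, 56, 0, 66, 67, 68], ![29, 50, 55, 59, 0, 64, 65], ![28, 49, 54, 58, 61, 0, 63],
        ![27, 48, 53, 57, 60, 62, 0]]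
      (![2, 2, 3, 4, 3, 2, 1] : Fin 7 → ℤ) (![4, 7, 8, 12, 9, 6, 3] : Fin 7 → ℤ)
      [0, 1, 2, 0, 3, 1, 2, 0, 3, 2, 4, 3, 1, 2, 0, 3, 2, 4, 3, 1, 5, 4, 3, 1, 2, 0, 3, 2, 4, 3, 1, 5, 4, 3, 2, 0,
        6, 5, 4, 3, 1, 2, 0, 3, 2, 4, 3, 1, 5, 4, 3, 2, 0, 6, 5, 4, 3, 1, 2, 3, 4, 5, 6] id id :=
  @of_decide_eq_true _ (decChkE ..) (by decide +kernel)

set_option maxHeartbeats 2000000 in
theorem chk_chevE8 : ChkE chevE8 (n := 7) (![0, 2, 3, 4, 5, 6, 7] : Fin 7 → Fin 8)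
      ![![0, 162, 163, 164, 165, 166, 167, 168], ![77, 0, 135, 136, 137, 138, 139, 140],
        ![76, 104, 0, 130, 131, 132, 133, 134], ![75, 103, 109, 0, 126, 127, 128, 129],
        ![74, 102, 108, 113, 0, 123, 124, 125], ![73, 101, 107, 112, 116, 0, 121, 122],
        ![72, 100, 106, 111, 115, 118, 0, 120], ![71, 99, 105, 110, 114, 117, 119, 0]]
      (![-1, -3, -3, -5, -4, -3, -2, -1] : Fin 8 → ℤ) (![5, 8, 10, 15, 12, 9, 6, 3] : Fin 8 → ℤ)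
      [0, 1, 2, 0, 3, 1, 2, 0, 3, 2, 4, 3, 1, 2, 0, 3, 2, 4, 3, 1, 5, 4, 3, 1, 2, 0, 3, 2, 4, 3, 1, 5, 4, 3, 2, 0,
        6, 5, 4, 3, 1, 2, 0, 3, 2, 4, 3, 1, 5, 4, 3, 2, 0, 6, 5, 4, 3, 1, 2, 3, 4, 5, 6, 7, 6, 5, 4, 3, 1, 2, 0,
        3, 2, 4, 3, 1, 5, 4, 3, 2, 0, 6, 5, 4, 3, 1, 2, 3, 4, 5, 6, 7, 6, 5, 4, 3, 1, 2, 0, 3, 2, 4, 3, 1, 5, 4,
        3, 2, 0, 6, 5, 4, 3, 1, 2, 3, 4, 5, 6, 7] id id :=
  @of_decide_eq_true _ (decChkE ..) (by decide +kernel)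

theorem jobE : JobE.{u} := by
  intro F _ _ h9 D hD
  obtain ⟨_, _, _⟩ := H65.of_mem (D := D) (by simp only [List.mem_cons] at hD ⊢; tauto)
  simp only [List.mem_cons, List.not_mem_nil, or_false] at hD
  rcases hD with rfl | rfl | rfl | rfl | rfl
  exacts [mod_of_chev h9 _ _ _ _ _ _ 1 chk_chevG2, mod_of_chev h9 _ _ _ _ _ _ 1 chk_chevF4,
    mod_of_chev h9 _ _ _ _ _ _ _ chk_chevE6, mod_of_chev h9 _ _ _ _ _ _ 1 chk_chevE7,
    mod_of_chev h9 _ _ _ _ _ _ 1 chk_chevE8]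

end H68.EG
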