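/- Squares of conjugacy classes in split groups: kit for the classical groups. -/
import Cfsg.Agent.H68.EGSpec
import Cfsg.Agent.H54.BNMod
import Cfsg.Agent.H54.CDOrth

set_option autoImplicit false
set_option linter.unusedSectionVars false

namespace H68.EG

open H54 H64 H33 H61 H83 H68.Gow Matrix
open H57 (xA)

section Dg

variable {F J κ G : Type*} [Field F] [Fintype J] [DecidableEq J] [Fintype κ] [Group G]

/-- The diagonal matrix of a cocharacter. -/
def dg (wt : J → κ → ℤ) (μ : κ → ℤ) (d : Fˣ) : Matrix J J F :=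
  diagonal fun a => ((d ^ (μ ⬝ᵥ wt a) : Fˣ) : F)

variable {wt : J → κ → ℤ} {μ ν : κ → ℤ} {d : Fˣ}

theorem dg_add (μ ν : κ → ℤ) (d : Fˣ) : dg wt (μ + ν) d = dg wt μ d * dg wt ν d := by
  simp only [dg, diagonal_mul_diagonal, add_dotProduct, _root_.zpow_add, Units.val_mul]

theorem dg_zero (d : Fˣ) : dg wt 0 d = 1 := by simp [dg]

theorem dg_smul (k : ℤ) (μ : κ → ℤ) (d : Fˣ) : dg wt (k • μ) d = dg wt μ (d ^ k) := by
  simp only [dg, smul_dotProduct, smul_eq_mul, _root_.zpow_mul]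

variable {D : CD F J κ G} [Finite G] {y z : G}

theorem dg_inv (hy : D.ρ y = dg D.wt μ d) : D.ρ y⁻¹ = dg D.wt (-μ) d := by
  have : D.ρ y⁻¹ * (D.ρ y * dg D.wt (-μ) d) = dg D.wt (-μ) d := by
    rw [← mul_assoc, ← map_mul, inv_mul_cancel, map_one, one_mul]
  rwa [hy, ← dg_add, add_neg_cancel, dg_zero, mul_one] at this

theorem dg_mem_H (hy : D.ρ y = dg D.wt μ d) : y ∈ D.PS ⊥ := fun i j h => by
  rw [hy] at h
  obtain rfl : i = j := by_contra fun e => h (diagonal_apply_ne _ e)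
  simp

theorem comm_of_dg {e : Fˣ} (hy : D.ρ y = dg D.wt μ d) (hz : D.ρ z = dg D.wt ν e) : y * z = z * y :=
  D.inj (by simp only [map_mul, hy, hz, dg, diagonal_mul_diagonal, mul_comm])

theorem pow_card_of_dg [Finite F] (hy : D.ρ y = dg D.wt μ d) : y ^ Nat.card F = y := D.inj (by
  have := Fintype.ofFinite F
  rw [map_pow, hy, dg, diagonal_pow]
  congr 1
  funext a
  rw [Pi.pow_apply, Nat.card_eq_fintype_card, FiniteField.pow_card])

theorem ρ_conj (hy : D.ρ y = dg D.wt μ d) (x : G) (i j : J) :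
    D.ρ (y * x * y⁻¹) i j = ((d ^ (μ ⬝ᵥ (D.wt i - D.wt j)) : Fˣ) : F) * D.ρ x i j := by
  rw [map_mul, map_mul, dg_inv hy, hy, dg, dg, mul_diagonal, diagonal_mul, dotProduct_sub, neg_dotProduct,
    sub_eq_add_neg, _root_.zpow_add, Units.val_mul]
  ring

/-- A parametrised root group of weight `β`. -/
def Par (D : CD F J κ G) (x : F → G) (β : κ → ℤ) : Prop := ∃ N N' : Matrix J J F,
  Supp D.wt N {β} ∧ Supp D.wt N' {(2 : ℤ) • β} ∧ ∀ t, D.ρ (x t) = 1 + t • N + t ^ 2 • N'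

theorem Par.of_lin {x : F → G} {β : κ → ℤ} {N : Matrix J J F} (h : Supp D.wt N {β})
    (hx : ∀ t, D.ρ (x t) = 1 + t • N) : Par D x β := ⟨N, 0, h, supp_zero, by simpa using hx⟩

theorem Par.mem {x : F → G} {β r : κ → ℤ} (h : Par D x β) (hr : β ∈ ray r) (t : F) :
    x t ∈ D.US (ray r) := by
  obtain ⟨N, N', h1, h2, h3⟩ := h
  intro i j hij
  rw [h3, add_assoc, add_sub_cancel_left] at hij
  by_cases h : N i j = 0
  · rw [show D.wt i - D.wt j = (2 : ℤ) • β from h2 i j fun e => hij (by simp [h, e]), two_smul]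
    exact add_mem hr hr
  · rwa [show D.wt i - D.wt j = β from h1 i j h]

theorem conj_of_dg {x : F → G} {β : κ → ℤ} (h : Par D x β) (hy : D.ρ y = dg D.wt μ d) (t : F) :
    y * x t * y⁻¹ = x (((d ^ (μ ⬝ᵥ β) : Fˣ) : F) * t) := by
  obtain ⟨N, N', h1, h2, h3⟩ := h
  refine D.inj (Matrix.ext fun i j => ?_)
  rw [ρ_conj hy, h3, h3]
  have e0 : ((d ^ (μ ⬝ᵥ (D.wt i - D.wt j)) : Fˣ) : F) * (1 : Matrix J J F) i j = (1 : Matrix J J F) i j := by
    by_cases e : i = j <;> simp [e]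
  have e1 : ((d ^ (μ ⬝ᵥ (D.wt i - D.wt j)) : Fˣ) : F) * N i j = ((d ^ (μ ⬝ᵥ β) : Fˣ) : F) * N i j := by
    by_cases e : N i j = 0
    · simp [e]
    · rw [show D.wt i - D.wt j = β from h1 i j e]
  have e2 : ((d ^ (μ ⬝ᵥ (D.wt i - D.wt j)) : Fˣ) : F) * N' i j =
      ((d ^ (μ ⬝ᵥ β) : Fˣ) : F) ^ 2 * N' i j := by
    by_cases e : N' i j = 0
    · simp [e]
    · rw [show D.wt i - D.wt j = (2 : ℤ) • β from h2 i j e, two_smul, dotProduct_add, _root_.zpow_add,
        Units.val_mul, pow_two]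
  simp only [Matrix.add_apply, Matrix.smul_apply, smul_eq_mul]
  linear_combination e0 + t * e1 + t ^ 2 * e2

theorem act_of_dg {φ : SL2 F →* G} {β : κ → ℤ} (h1 : Par D (fun t => φ (upper t)) β)
    (h2 : Par D (fun t => φ (lower t)) (-β)) (hy : D.ρ y = dg D.wt μ d) : Act φ y (d ^ (μ ⬝ᵥ β)) :=
  act_of (conj_of_dg h1 hy) fun t => by
    rw [conj_of_dg h2 hy, dotProduct_neg, _root_.zpow_neg, Units.val_inv_eq_inv_val]

theorem comm_of_par {x : F → G} {β : κ → ℤ} (h : Par D x β) (hy : D.ρ y = dg D.wt μ d)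
    (h0 : μ ⬝ᵥ β = 0) (t : F) : y * x t = x t * y := by
  rw [← mul_inv_eq_iff_eq_mul, conj_of_dg h hy, h0, zpow_zero, Units.val_one, one_mul]

theorem mem_PhiJ (P : D.Ht) {l : κ → ℤ} (h0 : ∀ i : P.Sim, 0 ≤ l ⬝ᵥ i.1.1) {A : Set P.Sim}
    (hA : ∀ i : P.Sim, l ⬝ᵥ i.1.1 = 0 → i ∈ A) (r : D.Rt) (hr : l ⬝ᵥ r.1 = 0) : r ∈ P.wd.PhiJ A := by
  have pos : ∀ r : D.Rt, 0 < P.ht r.1 → 0 ≤ l ⬝ᵥ r.1 := fun r h => by
    simpa using P.negall (-dotH l) (fun c hc h1 => by simpa using h0 ⟨⟨c, hc⟩, h1⟩) r.1 r.2 h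
  have key : ∀ (k : ℕ) (r : D.Rt), P.ht r.1 = k → l ⬝ᵥ r.1 = 0 → r ∈ P.wd.PhiJ A := by
    intro k
    induction k using Nat.strong_induction_on with
    | _ k ih =>
      intro r hk hr
      have hp : 0 < P.ht r.1 := by have := P.ht_ne _ r.2; omega
      obtain ⟨i, hi⟩ : ∃ i : P.Sim, 0 < r.1 ⬝ᵥ i.1.1 := by
        by_contra hc
        push Not at hc
        have := P.negall (dotH r.1) (fun c hc' h1 => hc ⟨⟨c, hc'⟩, h1⟩) r.1 r.2 hp
        rcases r.2.dot_self with h | h <;> simp [h] at this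
      by_cases e : r = i.1
      · exact e ▸ P.wd.p_mem_PhiJ (hA i (e ▸ hr))
      have h1 := P.refl_pos i.1.2 r.2 i.2 hp fun h => e (Subtype.ext h)
      have h2 := pos (P.wd.s i r) h1
      have h3 := mul_pos i.1.2.two_div_pos hi
      have h4 : P.ht (reflH i.1.1 r.1) = k - 2 / (i.1.1 ⬝ᵥ i.1.1) * (r.1 ⬝ᵥ i.1.1) := by
        rw [reflH_apply, map_sub, map_zsmul, i.2, hk, smul_eq_mul, mul_one]
      have h5 : l ⬝ᵥ (P.wd.s i r).1 = -(2 / (i.1.1 ⬝ᵥ i.1.1) * (r.1 ⬝ᵥ i.1.1) * (l ⬝ᵥ i.1.1)) := by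
        rw [P.wd_s, reflH_apply, dotProduct_sub, dotProduct_smul, hr, smul_eq_mul, zero_sub]
      have h6 : l ⬝ᵥ i.1.1 = 0 := by have := h0 i; nlinarith
      have h7 := ih (P.ht (reflH i.1.1 r.1)).toNat (by omega) (P.wd.s i r)
        (by rw [P.wd_s]; omega) (by rw [h5, h6, mul_zero, neg_zero])
      exact (P.wd.apply_mem_PhiJ_iff (P.wd.sW_mem_WJ (hA i h6))).1 h7
  rcases le_total 0 (P.ht r.1) with h | h
  · exact key (P.ht r.1).toNat r (by omega) hr
  · exact P.wd.neg_mem_PhiJ_iff.1 (key (-P.ht r.1).toNat _ (by rw [P.wd_neg, map_neg]; omega)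
      (by rw [P.wd_neg, dotProduct_neg, hr, neg_zero]))

/-- The field `fix`. -/
theorem fix_of_dg (P : D.Ht) {l : κ → ℤ} {s : Fˣ} (hz : D.ρ z = dg D.wt l s)
    (h0 : ∀ i : P.Sim, 0 ≤ l ⬝ᵥ i.1.1) {A : Set P.Sim} (hA : ∀ i : P.Sim, l ⬝ᵥ i.1.1 = 0 → i ∈ A)
    (hs : ∀ a b, s ^ (l ⬝ᵥ (D.wt a - D.wt b)) = 1 → l ⬝ᵥ (D.wt a - D.wt b) = 0)
    (r : D.Rt) (hr : r ∉ P.wd.PhiJ A) (x : G) (hx : x ∈ P.grd.X r) (e : z * x = x * z) : x = 1 := by
  refine D.eq_one_of_supp_empty fun i j hij => hr (mem_PhiJ P h0 hA r ?_)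
  obtain ⟨t, ht, h1⟩ := hx i j hij
  have hne : i ≠ j := by
    rintro rfl
    rw [sub_self, eq_comm, smul_eq_zero] at h1
    exact h1.elim ht.ne' r.2.ne_zero
  have h2 := ρ_conj hz x i j
  rw [e, mul_inv_cancel_right] at h2
  rw [Matrix.sub_apply, one_apply_ne hne, sub_zero] at hij
  have h3 := hs i j (Units.ext (mul_right_cancel₀ hij (by rw [← h2, Units.val_one, one_mul])))
  rw [h1, dotProduct_smul, smul_eq_mul] at h3
  exact (mul_eq_zero.1 h3).resolve_left ht.ne'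

theorem conj_dg_of_mon {l : κ → ℤ} {s : Fˣ} {L : (κ → ℤ) → κ → ℤ} (hz : D.ρ z = dg D.wt l s)
    (hy : Mon D.wt (D.ρ y) L) (h : ∀ a, l ⬝ᵥ L (D.wt a) = -(l ⬝ᵥ D.wt a)) : y * z * y⁻¹ = z⁻¹ := by
  rw [mul_inv_eq_iff_eq_mul]
  refine D.inj (Matrix.ext fun i j => ?_)
  rw [map_mul, map_mul, dg_inv hz, hz, dg, dg, mul_diagonal, diagonal_mul, mul_comm]
  by_cases e : D.ρ y i j = 0
  · simp [e]
  · rw [hy i j e, neg_dotProduct, h, neg_neg]

/-- Maps of the weight lattice induced by monomial elements. -/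
def Real (D : CD F J κ G) (L : (κ → ℤ) → κ → ℤ) : Prop := ∃ y, Mon D.wt (D.ρ y) L

theorem Real.comp {L L' : (κ → ℤ) → κ → ℤ} (h : Real D L) (h' : Real D L') : Real D (L ∘ L') :=
  let ⟨y, hy⟩ := h
  let ⟨y', hy'⟩ := h'
  ⟨y * y', map_mul D.ρ y y' ▸ hy.mul hy'⟩

theorem real_id : Real D id := ⟨1, CD.mem_PS_bot.1 (one_mem _)⟩

theorem real_refl {r : κ → ℤ} (h : D.IsRoot r) : Real D (reflH r) :=
  let ⟨y, _, hy⟩ := h.exists_mon
  ⟨y, hy⟩

/-- The cocharacters of the group. -/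
def Tor (D : CD F J κ G) : AddSubgroup (κ → ℤ) where
  carrier := {μ | ∀ d : Fˣ, ∃ y, D.ρ y = dg D.wt μ d}
  add_mem' ha hb d :=
    let ⟨y, hy⟩ := ha d
    let ⟨z, hz⟩ := hb d
    ⟨y * z, by rw [map_mul, hy, hz, dg_add]⟩
  zero_mem' d := ⟨1, by rw [map_one, dg_zero]⟩
  neg_mem' ha d :=
    let ⟨y, hy⟩ := ha d
    ⟨y⁻¹, dg_inv hy⟩

theorem mem_Tor : μ ∈ Tor D ↔ ∀ d : Fˣ, ∃ y, D.ρ y = dg D.wt μ d := Iff.rfl

end Dg

section Lat

variable {m : ℕ} {K : AddSubgroup (Fin m → ℤ)}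

theorem tor_add (h : ∀ i j, Pi.single i 1 - Pi.single j 1 ∈ K) {μ : Fin m → ℤ} (h0 : ∑ i, μ i = 0) :
    μ ∈ K := by
  rcases Nat.eq_zero_or_pos m with rfl | hm
  · rw [Subsingleton.elim μ 0]; exact zero_mem _
  have e : μ = ∑ i, μ i • ((Pi.single i 1 : Fin m → ℤ) - Pi.single ⟨0, hm⟩ 1) := by
    simp only [smul_sub, Finset.sum_sub_distrib, ← Finset.sum_smul, h0, zero_smul, sub_zero]
    funext k
    simp [Finset.sum_apply, Pi.single_apply]
  rw [e]
  exact sum_mem fun i _ => zsmul_mem (h _ _) _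

theorem tor_even (h : ∀ i j, Pi.single i 1 - Pi.single j 1 ∈ K) {μ ν : Fin m → ℤ} (hν : ν ∈ K)
    (h2 : ∑ i, ν i = 2) (h0 : Even (∑ i, μ i)) : μ ∈ K := by
  obtain ⟨k, hk⟩ := h0
  have := add_mem (tor_add h (μ := μ - k • ν) (by
    simp only [Pi.sub_apply, Pi.smul_apply, Finset.sum_sub_distrib, hk, smul_eq_mul, ← Finset.mul_sum, h2]
    ring)) (zsmul_mem hν k)
  rwa [sub_add_cancel] at this

/-- Sign change on a set of coordinates. -/
def sgnH (A : Finset (Fin m)) : (Fin m → ℤ) →+ (Fin m → ℤ) :=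
  AddMonoidHom.mk' (fun v k => if k ∈ A then -v k else v k) fun a b => by
    funext k; by_cases h : k ∈ A <;> simp [h, add_comm]

theorem sgnH_apply (A : Finset (Fin m)) (v : Fin m → ℤ) (k : Fin m) :
    sgnH A v k = if k ∈ A then -v k else v k := rfl

theorem sgnH_sgnH (A : Finset (Fin m)) (v : Fin m → ℤ) : sgnH A (sgnH A v) = v := by
  funext k; by_cases h : k ∈ A <;> simp [h, sgnH_apply]

theorem sgnH_univ (v : Fin m → ℤ) : sgnH Finset.univ v = -v := by funext k; simp [sgnH_apply]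

variable {F J G : Type*} [Field F] [Fintype J] [DecidableEq J] [Group G] [Finite G]
  {D : CD F J (Fin m) G} (hup : ∀ k, ∃ a, D.wt a = Pi.single k 1)
include hup

theorem real_neg_of_short (hs : D.short) (A : Finset (Fin m)) : Real D (sgnH A) := by
  induction A using Finset.induction_on with
  | empty => convert real_id (D := D) using 1; funext v k; simp [sgnH_apply]
  | insert a A ha ih =>
    convert (real_refl (CD.isRoot_single hup hs a)).comp ih using 1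
    funext v k
    by_cases e : k = a
    · subst e; simp [sgnH_apply, reflH_apply, ha]; ring
    · simp [sgnH_apply, reflH_apply, e, ha]

theorem real_neg (hdn : ∃ a k, D.wt a = -Pi.single k 1) (A : Finset (Fin m)) (h : Even A.card) :
    Real D (sgnH A) := by
  obtain ⟨n, hn⟩ := h
  induction n generalizing A with
  | zero =>
    obtain rfl := Finset.card_eq_zero.1 hn
    convert real_id (D := D) using 1; funext v k; simp [sgnH_apply]
  | succ n ih =>
    obtain ⟨a, ha, b, hb, hab⟩ := Finset.one_lt_card.1 (show 1 < A.card by omega)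
    have hb' : b ∈ A.erase a := Finset.mem_erase.2 ⟨hab.symm, hb⟩
    convert ((real_refl (CD.isRoot_sub hup hab)).comp (real_refl (CD.isRoot_add hup hdn hab))).comp
      (ih ((A.erase a).erase b) (by
        rw [Finset.card_erase_of_mem hb', Finset.card_erase_of_mem ha]; omega)) using 1
    funext v k
    by_cases e : k = a
    · subst e; simp [sgnH_apply, reflH_apply, ha, hab, hab.symm]
    by_cases e' : k = b
    · subst e'; simp [sgnH_apply, reflH_apply, hb, hab, hab.symm]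
    · simp [sgnH_apply, reflH_apply, e, e']

end Lat

section Emb

variable {F a b : Type*} [Field F] [Fintype a] [DecidableEq a] [Fintype b] [DecidableEq b] (σ : a ↪ b)

/-- The matrix of the inclusion of coordinate spaces. -/
def inc (F : Type*) [Field F] : Matrix b a F := Matrix.of fun i k => if i = σ k then 1 else 0

theorem inc_mul : (inc σ F)ᵀ * inc σ F = 1 := by
  ext i j
  simp [inc, mul_apply, one_apply, eq_comm]

/-- The embedding of special linear groups attached to an injection of the index sets. -/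
def emb : SpecialLinearGroup a F →* SpecialLinearGroup b F :=
  MonoidHom.mk' (fun A => ⟨1 + inc σ F * ((A.1 - 1) * (inc σ F)ᵀ), by
    rw [det_one_add_mul_comm, Matrix.mul_assoc, inc_mul, Matrix.mul_one, add_sub_cancel, A.2]⟩)
    fun A B => Subtype.ext (by
      have e : A.1 * B.1 - 1 = (A.1 - 1) + (B.1 - 1) + (A.1 - 1) * (B.1 - 1) := by noncomm_ring
      change 1 + inc σ F * ((A.1 * B.1 - 1) * (inc σ F)ᵀ) =
        (1 + inc σ F * ((A.1 - 1) * (inc σ F)ᵀ)) * (1 + inc σ F * ((B.1 - 1) * (inc σ F)ᵀ))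
      rw [e]
      simp only [Matrix.mul_add, Matrix.add_mul, Matrix.mul_one, Matrix.one_mul, Matrix.mul_assoc]
      rw [← Matrix.mul_assoc (inc σ F)ᵀ, inc_mul, Matrix.one_mul]
      abel)

theorem emb_coe (A : SpecialLinearGroup a F) :
    (emb σ A).1 = 1 + inc σ F * ((A.1 - 1) * (inc σ F)ᵀ) := rfl

theorem inc_single (i j : a) (t : F) : inc σ F * (single i j t * (inc σ F)ᵀ) = single (σ i) (σ j) t := by
  ext k l
  simp only [inc, mul_apply, single_apply, of_apply, transpose_apply]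
  rw [Finset.sum_eq_single i (fun x _ hx => by simp [hx.symm]) (by simp),
    Finset.sum_eq_single j (fun x _ hx => by simp [hx.symm]) (by simp)]
  simp only [eq_comm (b := σ i), eq_comm (b := σ j)]
  by_cases h1 : k = σ i <;> by_cases h2 : l = σ j <;> simp [h1, h2, eq_comm]

theorem emb_xA (i j : a) (t : F) : emb σ (xA i j t) = xA (σ i) (σ j) t := by
  by_cases h : i = j
  · simp [xA, h]
  · refine Subtype.ext ?_
    rw [emb_coe, H57.xA_coe h, H57.xA_coe (σ.injective.ne h), add_sub_cancel_left, inc_single]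

theorem upper_eq (t : F) : upper t = xA (0 : Fin 2) 1 t := Subtype.ext (by
  rw [H57.xA_coe (by decide)]; ext i j; fin_cases i <;> fin_cases j <;> simp [upper])

theorem lower_eq' (t : F) : lower t = xA (1 : Fin 2) 0 t := Subtype.ext (by
  rw [H57.xA_coe (by decide)]; ext i j; fin_cases i <;> fin_cases j <;> simp [lower])

/-- The injection attached to two distinct indices. -/
def pr (i j : b) (h : i ≠ j) : Fin 2 ↪ b :=
  ⟨![i, j], fun x y e => by fin_cases x <;> fin_cases y <;> simp_all⟩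

theorem emb_upper {i j : b} (h : i ≠ j) (t : F) : emb (pr i j h) (upper t) = xA i j t := by
  rw [upper_eq, emb_xA]; rfl

theorem emb_lower {i j : b} (h : i ≠ j) (t : F) : emb (pr i j h) (lower t) = xA j i t := by
  rw [lower_eq', emb_xA]; rfl

theorem emb_hxD {i j : b} (h : i ≠ j) (c : Fˣ) : (emb (pr i j h) (hxD (c : F) c.ne_zero)).1 =
    dg (fun k => Pi.single k 1) (Pi.single i 1 - Pi.single j 1) c := by
  have e : (hxD (c : F) c.ne_zero).1 - 1 = single 0 0 ((c : F) - 1) + single 1 1 ((c : F)⁻¹ - 1) := by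
    ext x y; fin_cases x <;> fin_cases y <;> simp [hxD]
  rw [emb_coe, e, Matrix.add_mul, Matrix.mul_add, inc_single, inc_single]
  change 1 + (single i i _ + single j j _) = _
  ext k l
  by_cases e : k = l
  · subst e
    by_cases h1 : i = k
    · subst h1; simp [dg, h, h.symm]
    by_cases h2 : j = k
    · subst h2; simp [dg, h, h.symm]
    · simp [dg, h1, h2, Ne.symm h1, Ne.symm h2]
  · rw [dg, diagonal_apply_ne _ e, Matrix.add_apply, Matrix.add_apply, one_apply_ne e,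
      single_apply_of_ne _ _ _ _ _ (by rintro ⟨rfl, rfl⟩; exact e rfl),
      single_apply_of_ne _ _ _ _ _ (by rintro ⟨rfl, rfl⟩; exact e rfl)]
    simp

end Emb

section Mod

variable {F J G : Type*} {κ : Type} [Field F] [Finite F] [Fintype J] [DecidableEq J] [Fintype κ] [Group G]
  [Finite G] {D : CD F J κ G}

theorem inj_of_hom {x : F → G} (h : ∀ s t, x (s + t) = x s * x t) (h0 : ∀ t, x t = 1 → t = 0) :
    Function.Injective x := fun s t e => sub_eq_zero.1 (h0 _ (by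
  have := h (s - t) t
  rwa [sub_add_cancel, e, eq_comm, mul_eq_right] at this))

/-- All the data for a classical group. -/
theorem mod_of_cd (h4 : 4 ≤ Nat.card F) (P : D.Ht) {N n : ℕ} (e : Fin N ≃ P.Sim) (φ : Fin N → SL2 F →* G)
    (β co : Fin N → κ → ℤ) (hβ : ∀ i, β i ∈ ray (e i).1.1)
    (hU : ∀ i, Par D (fun t => φ i (upper t)) (β i)) (hL : ∀ i, Par D (fun t => φ i (lower t)) (-β i))
    (hi : ∀ i t, φ i (upper t) = 1 → t = 0) (hc : ∀ i, Nat.card (D.US (ray (e i).1.1)) = Nat.card F)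
    (hD : ∀ i (c : Fˣ), D.ρ (φ i (hxD (c : F) c.ne_zero)) = dg D.wt (co i) c)
    (conn : ∀ i j, Relation.ReflTransGen
      (fun r t => co r ⬝ᵥ β t = -1 ∨ co r ⬝ᵥ β t = -2 ∧ 6 ≤ Nat.card F) i j)
    (hg : gen P.grd.X Set.univ = ⊤) (Λ : SLn n F →* G) (nd : Fin n → Fin N)
    (hΛU : ∀ i t, Λ (eU i t) = φ (nd i) (upper t)) (hΛL : ∀ i t, Λ (eL i t) = φ (nd i) (lower t))
    {l μ : κ → ℤ} (hl : l ∈ Tor D) (h0 : ∀ i, 0 ≤ l ⬝ᵥ (e i).1.1)
    (hA : ∀ i, l ⬝ᵥ (e i).1.1 = 0 ↔ i ∈ Set.range nd)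
    (hs : ∀ a b, (l ⬝ᵥ (D.wt a - D.wt b)).natAbs + 1 < Nat.card F) (hμ : μ ∈ Tor D)
    (hμ' : ∀ i, μ ⬝ᵥ β (nd i) = if (i : ℕ) = 0 then 1 else 0) {L : (κ → ℤ) →+ (κ → ℤ)} (hR : Real D L)
    (hL1 : ∀ v, L (L v) = v) (hL2 : ∀ a, l ⬝ᵥ L (D.wt a) = -(l ⬝ᵥ D.wt a))
    (hL3 : (∀ i, L (e (nd i)).1.1 = (e (nd i)).1.1) ∨ ∀ i, L (e (nd i)).1.1 = -(e (nd i)).1.1) :
    Mod F G := by
  have up : ∀ i g, g ∈ P.grd.X (P.wd.p (e i)) ↔ ∃ t, g = φ i (upper t) := fun i =>
    iff_of_card ((hU i).mem (hβ i)) (inj_of_hom (fun s t => by rw [hx_upper_add, map_mul]) (hi i)) (hc i)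
  have lo : ∀ i g, g ∈ P.grd.X (P.wd.neg (P.wd.p (e i))) ↔ ∃ t, g = φ i (lower t) := fun i =>
    iff_of_card ((hL i).mem (let ⟨t, ht, h⟩ := hβ i; ⟨t, ht, by rw [h, ← smul_neg]; rfl⟩))
      (inj_of_hom (fun s t => by simp only [lower_eq, neg_add, hx_upper_add, map_mul, map_inv]; group)
        fun t h => neg_eq_zero.1 (hi i _ (by
          rwa [lower_eq, map_mul, map_mul, map_inv, mul_inv_eq_one, mul_eq_left] at h)))
      (by rw [← P.wd.s_p, ← P.wd.sW_val, ← (P.grd.act_n (e i)).map_X,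
        Subgroup.card_map_of_injective (MulAut.conj _).injective]; exact hc i)
  have act : ∀ i j (c : Fˣ), Act (φ j) (φ i (hxD (c : F) c.ne_zero)) (c ^ (co i ⬝ᵥ β j)) := fun i j c =>
    act_of_dg (hU j) (hL j) (hD i c)
  obtain ⟨s, hs'⟩ := exists_gen (F := F)
  obtain ⟨z, hz⟩ := hl s
  have hb : ∀ i, l ⬝ᵥ β (nd i) = 0 := fun i => by
    obtain ⟨t, -, h⟩ := hβ (nd i)
    rw [h, dotProduct_smul, (hA _).2 ⟨i, rfl⟩, smul_zero]
  refine ⟨D.Rt, P.Sim, inferInstance, P.wd, P.grd, n,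
    ⟨⟨fun i => φ (e.symm i), fun i => by simpa using up (e.symm i), fun i => by simpa using lo (e.symm i),
      fun i j c => ⟨_, act _ _ c⟩, fun i j => ?_, hg⟩⟩,
    ⟨⟨Λ, fun i => e (nd i), fun i => by simpa only [hΛU] using up (nd i),
      fun i => by simpa only [hΛL] using lo (nd i), fun i h => one_ne_zero (hi _ _ (hΛU i 1 ▸ h)), z,
      dg_mem_H hz, pow_card_of_dg hz, fun i t => hΛU i t ▸ comm_of_par (hU _) hz (hb i) t,
      fun i t => hΛL i t ▸ comm_of_par (hL _) hz (by rw [dotProduct_neg, hb, neg_zero]) t,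
      fix_of_dg P hz (fun i => by simpa using h0 (e.symm i)) (fun i h => ?_)
        fun a b h => by_contra fun h' => hs' _ h' (hs a b) h, fun δ => ?_, ?_⟩⟩⟩
  · have := (conn (e.symm i) (e.symm j)).lift (p := Adj fun i => φ (e.symm i)) e fun r t h => by
      rcases h with h | ⟨h, h6⟩
      · exact adj_of_pow one_pos (Or.inr ⟨rfl, h4⟩) fun c => by simpa [h] using act r t c
      · exact adj_of_pow two_pos (Or.inl h6) fun c => by
          have := act r t c
          rw [h] at this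
          simpa using this
    simpa [Function.onFun] using this
  · obtain ⟨k, hk⟩ := (hA (e.symm i)).1 (by simpa using h)
    exact ⟨k, by simp [hk]⟩
  · obtain ⟨y, hy⟩ := hμ δ
    refine ⟨y, comm_of_dg hy hz, fun i t => ?_⟩
    rw [hΛU, hΛU, conj_of_dg (hU _) hy, hμ']
    split_ifs <;> simp
  · obtain ⟨y, hy⟩ := hR
    refine ⟨y, conj_dg_of_mon hz hy hL2, hL3.imp (fun h i x hx => ?_) fun h => ⟨1, fun i x hx => ?_⟩⟩
    · have := CD.conj_mem_ray hy hL1 hx
      rwa [CD.Ht.wd_p, h] at this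
    · have := CD.conj_mem_ray hy hL1 hx
      rwa [CD.Ht.wd_p, h] at this

end Mod

end H68.EG
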