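/- Tower EA: assembly. -/
import Cfsg.Agent.H83.EAQ2
import Cfsg.Agent.H80.EaFrob
import Cfsg.Agent.H53.EaEV
import Cfsg.Agent.H27.EaN43
import Cfsg.Agent.H51.EaQuo
import Cfsg.Agent.H1.EaLat
import Cfsg.Agent.H28.EaC8
import Cfsg.Agent.H22.EaV8
import Cfsg.Agent.H72.EaHZ
import Cfsg.Agent.H25.EaCom
import Cfsg.Agent.H3.EaGD
import Cfsg.Agent.H84.EaGW

namespace H68.EA

universe u

theorem evenForm : EV.{u} := H53.EA.jobEV H83.EA.jobQ2 H80.EA.jobFrob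

theorem c8 : C8.{u} := H28.EaC8.jobC8 evenForm (H1.EaLat.jobLat H51.EA.jobQuo) H27.EaN43.jobN43

theorem com (h : JobST.{u}) : Com.{u} :=
  H25.EA.jobCom h (H22.Ea.jobV8 H51.EA.jobQuo c8 h) H72.EaH.jobHZ

end H68.EA
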