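import Cfsg.Agent.H63.KgvSpec

/-! Tower KGV, slot JI2: the semilinear induction step. -/

set_option autoImplicit false

namespace H68.KgvI2

open Finset Cfsg H63.Kgv

universe u

theorem single_of_sum {ι : Type*} [Fintype ι] [DecidableEq ι] (m : ι → ℕ) (h : ∑ x, m x = 1) :
    ∃ u, m u = 1 ∧ ∀ x, x ≠ u → m x = 0 := by
  obtain ⟨u, -, hu⟩ := Finset.exists_ne_zero_of_sum_ne_zero (s := univ) (f := m) (by rw [h]; exact one_ne_zero)
  rw [← Finset.add_sum_erase _ _ (mem_univ u)] at h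
  have h0 : ∑ x ∈ univ.erase u, m x = 0 := by omega
  refine ⟨u, by omega, fun x hx => ?_⟩
  exact Finset.sum_eq_zero_iff.1 h0 x (mem_erase.2 ⟨hx, mem_univ x⟩)

/-- the eigenvalue of a character of degree one -/
theorem exists_ev (eg : EgSt.{u}) {p : ℕ} {K : Type} [Field K] [Fintype K] {θ : Kˣ →* ℂˣ}
    (inj : Function.Injective θ) (Hf : ZMod p → Kˣ → ℂ) {E : Type u} [Group E] [Fintype E] {φ : E → ℂ}
    (hφ : IsCharacter E φ) (h1 : φ 1 = 1) (y : E) (hy : y ^ (Fintype.card K - 1) = 1) :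
    ∃ w : Kˣ, φ y = θ w ∧ ∀ d t, gam θ Hf d φ t y = Hf t w ^ d := by
  classical
  have e := (eg K θ E inj).2 φ y hφ hy
  have e0 := e 0
  simp only [pow_zero, mul_one, h1] at e0
  obtain ⟨w, w1, w0⟩ := single_of_sum (em θ φ y) (by
    have : ((∑ x, em θ φ y x : ℕ) : ℂ) = 1 := by
      rw [Nat.cast_sum]; convert e0.symm
    exact_mod_cast this)
  refine ⟨w, ?_, fun d t => ?_⟩
  · have e1 := e 1
    rw [pow_one] at e1
    rw [e1, Finset.sum_eq_single w]
    · rw [w1]; simp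
    · intro b _ hb; rw [w0 b hb]; simp
    · intro h; exact absurd (mem_univ _) h
  · unfold gam
    rw [Finset.prod_eq_single w]
    · rw [w1, mul_one]
    · intro b _ hb; rw [w0 b hb]; simp
    · intro h; exact absurd (mem_univ _) h

theorem job : JI2.{u} := by
  classical
  intro eg sm vl gl p _ M K _ _ θ a Hf hs E _ _ hE H _ d x χ φ id hd hχ hm h1 hq hne
  have hp : p.Prime := Fact.out
  have hM := hs.pos
  have h2E : 2 ∣ p ^ M - 1 := (id.idx ▸ H.index_dvd_card).trans hE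
  have hodd : p ≠ 2 := by
    rintro rfl
    have h1 : 2 ∣ 2 ^ M := dvd_pow_self 2 hM.ne'
    have h2 : 1 ≤ 2 ^ M := Nat.one_le_two_pow
    omega
  have hpo : Odd p := hp.odd_of_ne_two hodd
  have h2d : 2 ∣ p ^ d - 1 := by
    obtain ⟨k, hk⟩ := hpo.pow (n := d)
    omega
  have d0 : d ≠ 0 := by rintro rfl; rw [zero_dvd_iff] at hd; omega
  have q2 : 2 ≤ p ^ d := hp.two_le.trans (Nat.le_self_pow d0 p)
  have two0 : ((2 : ℕ) : ZMod p) ≠ 0 := by
    rw [Ne, ZMod.natCast_eq_zero_iff]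
    intro h
    exact hodd ((Nat.prime_dvd_prime_iff_eq hp Nat.prime_two).1 h)
  haveI : Fact (Nat.Prime 2) := ⟨Nat.prime_two⟩
  obtain ⟨ω, hω⟩ := exists_prime_orderOf_dvd_card' (G := Kˣ) 2 (by
    rw [Nat.card_eq_fintype_card, Fintype.card_units, hs.card]; exact h2E)
  have hex : ∀ h : H, h ^ (Fintype.card K - 1) = 1 := fun h => by
    rw [hs.card]
    exact orderOf_dvd_iff_pow_eq_one.1
      (((orderOf_dvd_natCard h).trans (Subgroup.card_subgroup_dvd_card H)).trans hE)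
  choose w hw hg using fun h : H => exists_ev eg hs.inj Hf id.ch h1 h (hex h)
  have hpow : ∀ (h : H) (k : ℕ), φ (h ^ k) = φ h ^ k := fun h k => by
    induction k with
    | zero => rw [pow_zero, pow_zero, h1]
    | succ k ih => rw [pow_succ, pow_succ, hm, ih]
  have hcj : ∀ k h : H, φ (k * h * k⁻¹) = φ h := fun k h => by
    rw [hm, hm, mul_right_comm, ← hm, mul_inv_cancel, h1, one_mul]
  have hq' : ∀ h, φ h ^ p ^ d = φ (MulAut.conjNormal x h) := fun h => by rw [← hpow, hq]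
  have wext : ∀ {b c : Kˣ}, (θ b : ℂ) = θ c → b = c := fun h => hs.inj (Units.ext h)
  have wq : ∀ h, w (MulAut.conjNormal x h) = w h ^ p ^ d := fun h => wext (by
    rw [← hw, ← hq', hw, map_pow, Units.val_pow_eq_pow_val])
  have hx2 : x * x ∈ H := Subgroup.mul_self_mem_of_index_two id.idx x
  have wqq : ∀ h, w h ^ p ^ (d * 2) = w h := fun h => by
    rw [mul_two, pow_add, pow_mul, ← wq, ← wq]
    apply wext
    rw [← hw, ← hw, ← hcj ⟨x * x, hx2⟩ h]
    congr 1
    apply Subtype.ext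
    simp [mul_assoc]
  have hd2 : d * 2 ∣ M := by
    obtain ⟨k, hk⟩ := hd
    obtain ⟨j, hj | hj⟩ := Nat.even_or_odd' k
    · exact ⟨j, by rw [hk, hj, mul_assoc]⟩
    · exfalso
      obtain ⟨h, hh⟩ := hne
      apply hh
      have e1 : ∀ i : ℕ, w h ^ p ^ (d * 2 * i) = w h := fun i => by
        induction i with
        | zero => simp
        | succ i ih => rw [Nat.mul_succ, pow_add, pow_mul, ih, wqq]
      have e2 : w h ^ p ^ M = w h := by
        apply Units.ext
        rw [Units.val_pow_eq_pow_val, ← hs.card, FiniteField.pow_card]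
      have e3 : M = d * 2 * j + d := by rw [hk, hj]; ring
      rw [e3, pow_add, pow_mul, e1] at e2
      rw [hpow, hw, ← Units.val_pow_eq_pow_val, ← map_pow, e2]
  have frob : ∀ t, t ≠ 0 → ∀ (k : ℕ) (b : Kˣ), Hf t (b ^ p ^ k) = Hf t b := fun t ht k b => by
    induction k with
    | zero => simp
    | succ k ih => rw [pow_succ, pow_mul, hs.frob t _ ht, ih]
  obtain ⟨n, hn, hv⟩ := vl p M K θ a Hf hs E hE H 2 d x χ φ ω id hd h2d hω hχ
  have n1 : n = 1 := by rw [h1] at hn; exact_mod_cast hn.symm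
  subst n1
  obtain ⟨m, hmc⟩ := hs.cong 2 d ω Nat.prime_two hd h2d hω
  have hsq : ∀ y : E, y ^ 2 ∈ H := fun y => Subgroup.sq_mem_of_index_two id.idx y
  let Γ : ZMod p → E → ℂ := fun t y =>
    if hy : y ∈ H then -∑ j ∈ range ((p ^ d) ^ 2 - 1), ee p (t * a (d * 2) j) * φ ⟨y, hy⟩ ^ j
    else -∑ i ∈ range (p ^ d - 1), ee p (2 * t * a d i) * φ ⟨y ^ 2, hsq y⟩ ^ i
  have gΓ : Good p E Γ := by
    refine sm p E H (p ^ d) x φ (a (d * 2)) (a d) Γ q2 id.idx id.out hm h1 hq' (fun j => ?_)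
      (fun i => hs.s2 d i hd2) (fun t h => ?_) (fun t y h hy e => ?_)
    · rw [← pow_mul]; exact hs.s1 d j hd2
    · simp only [Γ, dif_pos h.2]
    · have : h = ⟨y ^ 2, hsq y⟩ := Subtype.ext e
      subst this
      simp only [Γ, dif_neg hy]
  refine gl p E H 2 1 m Γ _ id.idx gΓ fun t ht => ⟨fun y hy => ?_, fun y hy => ?_⟩
  · have e := (hv t ht).1 ⟨y, hy⟩
    rw [prod_range_succ, prod_range_one, pow_zero, pow_one, map_one, MulAut.one_apply, hg, hg, wq,
      frob t ht, ← pow_add, ← mul_two, hs.lin t (d * 2) _ ht hd2 (wqq _), ← hw, pow_mul] at e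
    simp only [Γ, dif_pos hy]
    exact e
  · have e := (hv t ht).2 y ⟨y ^ 2, hsq y⟩ hy rfl
    have hk : x * y⁻¹ ∈ H := by
      rw [Subgroup.mul_mem_iff_of_index_two id.idx, inv_mem_iff]
      exact iff_of_false id.out hy
    have fix : w ⟨y ^ 2, hsq y⟩ ^ p ^ d = w ⟨y ^ 2, hsq y⟩ := by
      rw [← wq]
      apply wext
      rw [← hw, ← hw, ← hcj ⟨x * y⁻¹, hk⟩ ⟨y ^ 2, hsq y⟩]
      congr 1
      apply Subtype.ext
      simp only [MulAut.conjNormal_apply, Subgroup.coe_mul, Subgroup.coe_inv]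
      group
    rw [hg, hs.lin _ d _ (mul_ne_zero two0 ht) hd fix, ← hw, hmc t ht] at e
    simp only [Γ, dif_neg hy]
    rw [e]
    simp only [Nat.cast_ofNat]

end H68.KgvI2
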