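/- A class function on the small Ree groups: the trace on the seven-dimensional module. -/
import Cfsg.Agent.H30.ReeRep
import Cfsg.Agent.H67.RepG2

set_option autoImplicit false
set_option linter.unusedSectionVars false

namespace H68.OreR

open Cfsg Cfsg.Lie H30 H67 H63 Polynomial

/-- The properties of the trace. -/
structure Trc {K : Type*} [Field K] {m : ℕ} {G : Type*} [Group G] (R : Ree K m G) (τ : G → K) : Prop where
  conj : ∀ g x, τ (g * x * g⁻¹) = τ x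
  pow : ∀ y, τ (y ^ 3 ^ (2 * m + 1)) = τ y
  one : τ 1 = 1
  n : τ R.n = -1
  surj : ∀ c ≠ -1, ∃ κ, τ (R.n * R.h κ * R.x 0 0 1) = c
  few : ∀ κ, ∀ u ∈ R.U, ∀ c, {v | τ (R.n * R.h κ * u * R.x 0 0 v) = c}.ncard ≤ 3 ^ (m + 1)

variable {K : Type*} [Field K]

theorem x9_eq (a : K) : repG2.x K 9 a = !![1, 0, 0, -a, 0, 0, a ^ 2; 0, 1, 0, 0, a, 0, 0; 0, 0, 1, 0, 0, a, 0;
    0, 0, 0, 1, 0, 0, -2 * a; 0, 0, 0, 0, 1, 0, 0; 0, 0, 0, 0, 0, 1, 0; 0, 0, 0, 0, 0, 0, 1] := by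
  have h1 : repG2.a 9 = !![0, 0, 0, -1, 0, 0, 0; 0, 0, 0, 0, 1, 0, 0; 0, 0, 0, 0, 0, 1, 0; 0, 0, 0, 0, 0, 0, -2;
      0, 0, 0, 0, 0, 0, 0; 0, 0, 0, 0, 0, 0, 0; 0, 0, 0, 0, 0, 0, 0] := by decide +kernel
  have h2 : repG2.a2 9 = Matrix.single 0 6 1 := by decide +kernel
  rw [repG2.x_eq (by decide)]
  ext i j
  simp only [Matrix.add_apply, Matrix.smul_apply, H65.Rep.A_apply, H65.Rep.A2_apply, h1, h2]
  fin_cases i <;> fin_cases j <;> simp [mul_comm]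

theorem x11_eq (a : K) : repG2.x K 11 a = !![1, 0, 0, 0, 0, -a, 0; 0, 1, 0, 0, 0, 0, -a; 0, 0, 1, 0, 0, 0, 0;
    0, 0, 0, 1, 0, 0, 0; 0, 0, 0, 0, 1, 0, 0; 0, 0, 0, 0, 0, 1, 0; 0, 0, 0, 0, 0, 0, 1] := by
  have h1 : repG2.a 11 = !![0, 0, 0, 0, 0, -1, 0; 0, 0, 0, 0, 0, 0, -1; 0, 0, 0, 0, 0, 0, 0; 0, 0, 0, 0, 0, 0, 0;
      0, 0, 0, 0, 0, 0, 0; 0, 0, 0, 0, 0, 0, 0; 0, 0, 0, 0, 0, 0, 0] := by decide +kernel
  have h2 : repG2.a2 11 = 0 := by decide +kernel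
  rw [repG2.x_eq (by decide)]
  ext i j
  simp only [Matrix.add_apply, Matrix.smul_apply, H65.Rep.A_apply, H65.Rep.A2_apply, h1, h2]
  fin_cases i <;> fin_cases j <;> simp

theorem tr_z (M : Matrix (Fin 7) (Fin 7) K) (a b : K) : (M * (repG2.x K 9 a * repG2.x K 11 b)).trace =
    M.trace + (M 4 1 + M 5 2 - M 3 0 - 2 * M 6 3) * a + M 6 0 * a ^ 2 - (M 5 0 + M 6 1) * b := by
  rw [x9_eq, x11_eq]
  simp [Matrix.trace, Fin.sum_univ_seven, Matrix.mul_apply]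
  ring

theorem x_col {r : ℕ} (h : r ∈ [6, 7, 8, 9, 10, 11]) (M : Matrix (Fin 7) (Fin 7) K) (a : K) :
    (M * repG2.x K r a) 6 0 = M 6 0 := by
  have h1 : ∀ r ∈ [6, 7, 8, 9, 10, 11], r < 12 ∧ ∀ i, repG2.a r i 0 = 0 ∧ repG2.a2 r i 0 = 0 := by decide +kernel
  rw [repG2.x_eq (h1 r h).1, mul_add, mul_add, mul_one]
  simp [Matrix.mul_apply, H65.Rep.A_apply, H65.Rep.A2_apply, (h1 r h).2]

variable [Fintype K] {m : ℕ} (hK : Fintype.card K = 3 ^ (2 * m + 1))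

/-- the seven-dimensional representation -/
noncomputable def rho : twistedG2 K (3 ^ m) →* Matrix (Fin 7) (Fin 7) K :=
  (Units.coeHom _).comp ((H67.rhoG2 K).comp (Subgroup.inclusion
    (((isTw_G2 hK).le_fix.trans (TwG.Fix_le _)).trans mat_Gp.le)))

theorem rho_wd {g : twistedG2 K (3 ^ m)} {w : List (ℕ × K)} (hw : ∀ p ∈ w, p.1 < 12)
    (e : (g : GL chevG2.Idx K) = (mat chevG2 K).wd w) : rho hK g = repG2.W K w := by
  rw [← repHom_wd repG2 (H64.kerG2.cker_eq_bot _) w hw]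
  exact congrArg (fun g => (H67.rhoG2 K g).1) (Subtype.ext (e.trans
    (H64.map_wd (chevG2.group K).subtype (xG chevG2 K) w).symm))

theorem rho_n : rho hK (reeG2 hK).n = !![0, 0, 0, 0, 0, 0, 1; 0, 0, 0, 0, 0, -1, 0; 0, 0, 0, 0, 1, 0, 0;
    0, 0, 0, -1, 0, 0, 0; 0, 0, 1, 0, 0, 0, 0; 0, -1, 0, 0, 0, 0, 0; 1, 0, 0, 0, 0, 0, 0] := by
  have h : repG2.W ℤ [(8, 1), (3, -1), (8, 1), (10, 1), (1, -1), (10, 1)] = !![0, 0, 0, 0, 0, 0, 1;
      0, 0, 0, 0, 0, -1, 0; 0, 0, 0, 0, 1, 0, 0; 0, 0, 0, -1, 0, 0, 0; 0, 0, 1, 0, 0, 0, 0; 0, -1, 0, 0, 0, 0, 0;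
      1, 0, 0, 0, 0, 0, 0] := by decide +kernel
  have h1 := repG2.W_map (Int.castRingHom K) [(8, 1), (3, -1), (8, 1), (10, 1), (1, -1), (10, 1)]
  rw [h] at h1
  rw [rho_wd hK (w := [(8, 1), (3, -1), (8, 1), (10, 1), (1, -1), (10, 1)]) (by simp) (by
    rw [Ree.n, reeG2_φ, phiG2_W]
    simp [CM.wd, H64.nn_eq, mul_assoc, show chevG2.neg 8 = 3 from rfl, show chevG2.neg 10 = 1 from rfl])]
  refine Eq.trans (by simp) (h1.symm.trans ?_)
  ext i j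
  fin_cases i <;> fin_cases j <;> simp

theorem rho_h (κ : Kˣ) : ∃ d : Fin 7 → K, rho hK ((reeG2 hK).h κ) = Matrix.diagonal d ∧
    d 0 = (kap K m κ : K) ^ 3 ^ m ∧ d 3 = 1 := by
  have h : repG2.wt 0 0 = 1 ∧ repG2.wt 1 0 = 0 ∧ repG2.wt 0 3 = 0 ∧ repG2.wt 1 3 = 0 := by decide +kernel
  refine ⟨_, repHom_torG repG2 (H64.kerG2.cker_eq_bot _) (tl chevG2 [kap K m κ ^ 3 ^ m, kap K m κ]), ?_, ?_⟩ <;>
    simp only [H46.ev] <;> erw [Fin.prod_univ_two] <;> simp [h, tl]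

theorem rho_z (v : K) : rho hK ((reeG2 hK).x 0 0 v) = repG2.x K 9 (v ^ 3 ^ m) * repG2.x K 11 v := by
  rw [rho_wd hK (w := [(9, v ^ 3 ^ m), (11, v)]) (by simp) (by rw [reeG2_x]; simp [reeWordU, CM.wd]; rfl)]
  simp [H65.Rep.W]

theorem trc : Trc (reeG2 hK) fun g => (rho hK g).trace := by
  have := (reeG2 hK).charP
  refine ⟨fun g x => ?_, fun y => ?_, ?_, by simp [rho_n, Matrix.trace, Fin.sum_univ_seven], fun c hc => ?_,
    fun κ u hu c => ?_⟩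
  · rw [map_mul, Matrix.trace_mul_comm, ← map_mul, inv_mul_cancel_left]
  · rw [map_pow, ← hK, FiniteField.trace_pow_card, FiniteField.pow_card]
  · rw [map_one, Matrix.trace_one, Fintype.card_fin]
    linear_combination 2 * (reeG2 hK).three
  · obtain ⟨s, hs⟩ := Finite.surjective_of_injective (frob3 hK m).injective (c + 1)
    obtain ⟨κ, h⟩ := kap_surj hK (Units.mk0 s fun h => hc (by rw [h, map_zero] at hs; linear_combination -hs))
    obtain ⟨d, h1, h2, h3⟩ := rho_h hK κ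
    refine ⟨κ, ?_⟩
    rw [h, Units.val_mk0, ← frob3_apply hK, hs] at h2
    simp only [map_mul, rho_z, tr_z, rho_n, h1]
    simp [Matrix.trace, Fin.sum_univ_seven, Matrix.vecMul_diagonal, h2, h3]
  · obtain ⟨d, h1, h2, -⟩ := rho_h hK κ
    obtain ⟨t, u, v, rfl⟩ := hu
    have h3 : rho hK ((reeG2 hK).n * (reeG2 hK).h κ * (reeG2 hK).x t u v) 6 0 ≠ 0 := by
      rw [map_mul, rho_wd hK (by simp [reeWordU]; decide) (reeG2_x hK t u v)]
      simp only [reeWordU, H65.Rep.W, List.map_cons, List.prod_cons, List.map_nil, List.prod_nil, mul_one, ← mul_assoc]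
      iterate 6 rw [x_col (by decide)]
      simp [rho_n, h1, h2]
    simp only [map_mul _ _ ((reeG2 hK).x 0 0 _), rho_z, tr_z]
    generalize rho hK _ = M at h3
    let P : K[X] := C (M.trace - c) + C (M 4 1 + M 5 2 - M 3 0 - 2 * M 6 3) * X + C (M 6 0) * X ^ 2 -
      C (M 5 0 + M 6 1) * X ^ 3 ^ (m + 1)
    have h4 : 3 ≤ 3 ^ (m + 1) := Nat.le_self_pow (by omega) 3
    have h5 : P ≠ 0 := fun h => h3 (by
      simpa [P, -map_add, -map_sub, coeff_X_pow, coeff_X, coeff_C, show 2 ≠ 3 ^ (m + 1) by omega] using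
        congrArg (coeff · 2) h)
    have h6 : P.natDegree ≤ 3 ^ (m + 1) := by
      unfold P
      compute_degree
      omega
    classical
    refine (Set.ncard_le_ncard_of_injOn (· ^ 3 ^ m) (t := P.roots.toFinset) (fun v hv => ?_)
      (frob3 hK m).injective.injOn).trans ?_
    · rw [Finset.mem_coe, Multiset.mem_toFinset, mem_roots h5, IsRoot.def]
      have h7 : (v ^ 3 ^ m) ^ 3 ^ (m + 1) = v := by
        rw [← pow_mul, ← pow_add, ← add_assoc, ← two_mul, ← hK, FiniteField.pow_card]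
      simp only [P, eval_add, eval_sub, eval_mul, eval_C, eval_X, eval_pow, h7]
      rw [Set.mem_ofPred_eq] at hv
      linear_combination hv
    · rw [Set.ncard_coe_finset]
      exact (Multiset.toFinset_card_le _).trans ((card_roots' P).trans h6)

end H68.OreR
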