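/- Regular semisimple classes of the small Ree groups. -/
import Cfsg.Agent.H68.OreRT
import Cfsg.Agent.H68.Ore4
import Cfsg.Agent.H30.ZassCount

set_option autoImplicit false
set_option linter.unusedSectionVars false

namespace H68.OreR

open Cfsg H30 H68.Gow Subgroup

variable {K : Type*} [Field K] {m : ℕ} {G : Type*} [Group G]

local notation "𝐪" => 3 ^ (2 * m + 1)
local notation "𝐫" => 3 ^ (m + 1)
local notation "𝐍" => 𝐪 ^ 2 - 𝐪 + 1

/-- regular semisimple elements -/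
def Reg (y : G) : Prop := 2 < orderOf y ∧ ¬ 3 ∣ orderOf y

theorem Reg.conj {y : G} (h : Reg y) (g : G) : Reg (g * y * g⁻¹) := by rwa [Reg, orderOf_conj']

theorem Reg.not_dvd {y : G} (h : Reg y) : ¬ orderOf y ∣ 2 := fun e => (Nat.le_of_dvd two_pos e).not_gt h.1

theorem Reg.sq_ne {y : G} (h : Reg y) : y * y ≠ 1 := fun e =>
  h.not_dvd (orderOf_dvd_of_pow_eq_one ((sq _).trans e))

theorem card_cent_conj (g y : G) : Nat.card (centralizer {y}) = Nat.card (centralizer {g * y * g⁻¹}) :=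
  H28.card_centralizer_eq_of_isConj (isConj_iff.2 ⟨g, rfl⟩)

theorem pt_card [Finite G] {N a e : ℕ} {A : Subgroup G} (T : PT N A a e) {y : G} (h1 : y ≠ 1)
    (h : orderOf y ∣ a) : Nat.card (centralizer {y}) = a := by
  obtain ⟨g, hg⟩ := T.tor.exists_conj h
  rw [card_cent_conj g, T.cent _ hg fun e => h1 (conj_eq_one_iff.1 e), T.tor.card]

variable (R : Ree K m G) [IsSimpleGroup G] (hm : 1 ≤ m) {A B : Subgroup G}
  (TA : PT ((3 ^ (2 * m + 1)) ^ 2 - 3 ^ (2 * m + 1) + 1) A (3 ^ (2 * m + 1) - 3 ^ (m + 1) + 1) 6)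
  (TB : PT ((3 ^ (2 * m + 1)) ^ 2 - 3 ^ (2 * m + 1) + 1) B (3 ^ (2 * m + 1) + 3 ^ (m + 1) + 1) 6)
include R hm

theorem three_cases {y : G} (h : 3 ∣ orderOf y) : orderOf y ∣ 6 ∨ orderOf y = 9 := by
  obtain ⟨k, hk⟩ := exists_k m
  have h3 := three_pow_mod_three m
  rcases R.orderOf_cases hm y with h1 | h1 | h1 | h1 | h1
  exacts [.inl h1, .inr h1, by have := h.trans h1; omega, by have := h.trans h1; omega,
    absurd (Nat.eq_one_of_dvd_coprimes (Ree.coprime_N (m := m)) (h.trans h1) (((dvd_pow_self 3 (by omega)).trans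
      (dvd_pow_self _ three_ne_zero)).mul_right _ |>.mul_right _)) (by decide)]

include TA TB

theorem cent_cases {y : G} (h : Reg y) :
    (¬ orderOf y ∣ 2 ∧ orderOf y ∣ 𝐪 - 1) ∧ Nat.card (centralizer {y}) ∣ 𝐪 - 1 ∨
    (¬ orderOf y ∣ 2 ∧ orderOf y ∣ (𝐪 + 1) / 2) ∧ Nat.card (centralizer {y}) ∣ 𝐪 + 1 ∨
    (y ≠ 1 ∧ orderOf y ∣ 𝐪 - 𝐫 + 1) ∧ Nat.card (centralizer {y}) ∣ 𝐪 - 𝐫 + 1 ∨
    (y ≠ 1 ∧ orderOf y ∣ 𝐪 + 𝐫 + 1) ∧ Nat.card (centralizer {y}) ∣ 𝐪 + 𝐫 + 1 := by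
  have := R.finite_G
  have h0 : y ≠ 1 := fun e => h.sq_ne (by rw [e, one_mul])
  rcases R.orderOf_cases hm y with h1 | h1 | h1 | h1 | h1
  · exact absurd (((Nat.Prime.coprime_iff_not_dvd Nat.prime_three).2 h.2).symm.dvd_of_dvd_mul_right h1) h.not_dvd
  · exact absurd (h1 ▸ by decide) h.2
  · obtain ⟨g, hg⟩ := R.exists_conj_mem_H hm h.sq_ne h1
    exact .inl ⟨⟨h.not_dvd, h1⟩, by rw [card_cent_conj g, R.centralizer_eq_H hg (h.conj g).sq_ne, R.card_H]⟩
  · obtain ⟨k, hk⟩ := exists_k m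
    obtain ⟨D⟩ := R.nonempty_NS
    obtain ⟨g, hg⟩ := (D.tor_C hm).exists_conj (y := y * y) (orderOf_dvd_of_pow_eq_one (by
      rw [← sq, ← pow_mul, show 2 * ((𝐪 + 1) / 4) = (𝐪 + 1) / 2 by omega]
      exact orderOf_dvd_iff_pow_eq_one.1 h1))
    refine .inr (.inl ⟨⟨h.not_dvd, h1⟩, ?_⟩)
    rw [← D.card_CC, ← D.centralizer_eq_CC hg fun e => h.sq_ne (conj_eq_one_iff.1 e), ← card_cent_conj]
    exact card_dvd_of_le fun c hc => mem_centralizer_singleton_iff.2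
      (Commute.mul_right (mem_centralizer_singleton_iff.1 hc) (mem_centralizer_singleton_iff.1 hc))
  · obtain ⟨s, hs, h2⟩ := Nat.exists_prime_and_dvd (show orderOf y ≠ 1 by have := h.1; omega)
    rcases hs.dvd_mul.1 (Ree.a_mul_a (m := m) ▸ h2.trans h1) with h3 | h3
    · have := TA.orderOf_dvd hs h2 h3
      exact .inr (.inr (.inl ⟨⟨h0, this⟩, (pt_card TA h0 this).dvd⟩))
    · have := TB.orderOf_dvd hs h2 h3
      exact .inr (.inr (.inr ⟨⟨h0, this⟩, (pt_card TB h0 this).dvd⟩))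

theorem cent_le {y : G} (h : Reg y) :
    ¬ 3 ∣ Nat.card (centralizer {y}) ∧ 3 * Nat.card (centralizer {y}) ≤ 4 * 𝐪 + 3 := by
  have h1 := three_pow_mod_three m
  have h2 : 𝐫 % 3 = 0 := by omega
  have h3 : 3 * 𝐫 ≤ 𝐪 := by rw [← pow_succ']; exact Nat.pow_le_pow_right (by decide) (by omega)
  have h4 := le_three_pow hm
  rcases cent_cases R hm TA TB h with h | h | h | h <;>
    exact ⟨fun e => by have := e.trans h.2; omega, by have := Nat.le_of_dvd (by omega) h.2; omega⟩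

theorem card_reg : Nat.card {C : ConjClasses G // ∀ g, ConjClasses.mk g = C → Reg g} ≤ 𝐪 - 2 := by
  classical
  have := R.finite_G
  have := Fintype.ofFinite G
  obtain ⟨D⟩ := R.nonempty_NS
  have h1 := R.card_split hm
  have h2 := D.card_nonsplit hm
  have h3 := TA.tor.card_dvd
  have h4 := TB.tor.card_dvd
  have h5 := Ree.le_q (m := m)
  have h6 := le_three_pow hm
  simp only [Nat.card_eq_fintype_card (α := {_y : G // _}), Fintype.card_subtype] at h1 h2 h3 h4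
  refine Nat.le_of_mul_le_mul_right ?_ (Nat.card_pos (α := G))
  rw [← sum_card_centralizer_filter Reg fun g x h => h.conj g, Finset.sum_filter]
  refine (Finset.sum_le_sum (g := fun y : G => (if ¬ orderOf y ∣ 2 ∧ orderOf y ∣ 𝐪 - 1 then 𝐪 - 1 else 0) +
    (if ¬ orderOf y ∣ 2 ∧ orderOf y ∣ (𝐪 + 1) / 2 then 𝐪 + 1 else 0) +
    (if y ≠ 1 ∧ orderOf y ∣ 𝐪 - 𝐫 + 1 then 𝐪 - 𝐫 + 1 else 0) +
    if y ≠ 1 ∧ orderOf y ∣ 𝐪 + 𝐫 + 1 then 𝐪 + 𝐫 + 1 else 0) fun y _ => ?_).trans ?_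
  · by_cases h : Reg y
    · rw [if_pos h]
      rcases cent_cases R hm TA TB h with h | h | h | h <;> rw [if_pos h.1] <;>
        have := Nat.le_of_dvd (by first | exact Nat.succ_pos _ | omega) h.2 <;> omega
    · rw [if_neg h]
      exact Nat.zero_le _
  simp only [Finset.sum_add_distrib, ← Finset.sum_filter, Finset.sum_const, smul_eq_mul]
  have h7 := R.card_G
  rw [Ree.cube_add_one] at h1 h7
  rw [Nat.add_sub_cancel] at h3 h4
  generalize 𝐍 = N at *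
  obtain ⟨a, ha⟩ := Nat.exists_eq_add_of_le h5
  obtain ⟨q, hq⟩ := Nat.exists_eq_add_of_le' (show 3 ≤ 𝐪 by omega)
  rw [show 𝐪 - 𝐫 = a by omega] at *
  rw [show 𝐪 - 1 = q + 2 by omega, show 𝐪 - 3 = q by omega] at *
  rw [show 𝐪 - 2 = q + 1 by omega]
  refine Nat.le_of_mul_le_mul_left (le_of_eq ?_) (show 0 < 6 by decide)
  have h8 : a + (𝐪 + 𝐫) = 2 * q + 6 := by omega
  linear_combination 3 * (q + 2) * h1 + (𝐪 + 1) * h2 + h3 + h4 + Nat.card G * h8 + 4 * q * h7.symm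

omit TA TB in
theorem reg_of_tr {τ : G → K} (T : Trc R τ) {y : G} (h1 : τ y ≠ 1) (h2 : τ y ≠ -1) : Reg y := by
  have := R.finite_G
  by_contra h
  have h3 : orderOf y ∣ 18 := by
    by_cases h3 : 3 ∣ orderOf y
    · exact (three_cases R hm h3).elim (·.trans (by decide)) (· ▸ by decide)
    · have h4 := orderOf_pos y
      have h5 : orderOf y ≤ 2 := not_lt.1 fun e => h ⟨e, h3⟩
      interval_cases orderOf y <;> decide
  have h4 : y ^ 𝐪 * y ^ 𝐪 = 1 := by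
    rw [← pow_add, ← two_mul]
    exact orderOf_dvd_iff_pow_eq_one.1 (h3.trans (mul_dvd_mul_left 2 (pow_dvd_pow 3 (show 2 ≤ _ by omega))))
  by_cases h5 : y ^ 𝐪 = 1
  · exact h1 (by rw [← T.pow, h5, T.one])
  · obtain ⟨g, hg⟩ := R.isConj_inv h5 h4 (fun e : R.n = 1 => R.n_not_mem_B (by rw [e]; exact one_mem _)) R.n_mul_n
    exact h2 (by rw [← T.pow, ← T.conj g, hg, T.n])

theorem exists_y {τ : G → K} (T : Trc R τ) {x : G} (hx : Reg x) :
    ∃ κ, IsConj x (R.n * R.h κ * R.x 0 0 1) := by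
  classical
  have := R.finite_G
  have := R.finite_K
  have := Fintype.ofFinite K
  choose κ hκ using T.surj
  let f : {c : K // c ∉ ({1, -1} : Finset K)} → {C : ConjClasses G // ∀ g, ConjClasses.mk g = C → Reg g} := fun c =>
    ⟨ConjClasses.mk (R.n * R.h (κ c fun h => c.2 (by simp [h])) * R.x 0 0 1), fun g hg => by
      obtain ⟨d, rfl⟩ := isConj_iff.1 (ConjClasses.mk_eq_mk_iff_isConj.1 hg).symm
      refine Reg.conj (reg_of_tr R hm T ?_ ?_) d <;> rw [hκ] <;> exact fun h => c.2 (by simp [h])⟩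
  have hf : Function.Injective f := fun c c' h => by
    obtain ⟨d, hd⟩ := isConj_iff.1 (ConjClasses.mk_eq_mk_iff_isConj.1 (congrArg Subtype.val h))
    have := congrArg τ hd
    rw [T.conj, hκ, hκ] at this
    exact Subtype.ext this
  obtain ⟨c, hc⟩ := (hf.bijective_of_nat_card_le ((card_reg R hm TA TB).trans_eq (by
    rw [Nat.card_eq_fintype_card, Fintype.card_subtype_compl, Fintype.card_coe, Finset.card_pair fun h =>
      R.two_ne (by linear_combination h), ← R.card_K, Nat.card_eq_fintype_card]))).2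
    ⟨ConjClasses.mk x, fun g hg => by
      obtain ⟨d, rfl⟩ := isConj_iff.1 (ConjClasses.mk_eq_mk_iff_isConj.1 hg).symm
      exact hx.conj d⟩
  exact ⟨_, (ConjClasses.mk_eq_mk_iff_isConj.1 (congrArg Subtype.val hc)).symm⟩

end H68.OreR
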