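/- Unipotent classes of the small Ree groups. -/
import Cfsg.Agent.H68.OreRA

set_option autoImplicit false
set_option linter.unusedSectionVars false

namespace H68.OreR

open Cfsg H30 H68.Gow Subgroup

variable {K : Type*} [Field K] {m : ℕ} {G : Type*} [Group G] (R : Ree K m G)
include R

local notation "𝐪" => 3 ^ (2 * m + 1)

theorem exists_pi : ∃ π : K →+ ZMod 3, (∀ b, π b = 0 → ∃ T, b = R.σ T - T) ∧
    ∀ B D : Set K, (∀ b ∈ B, ∀ d ∈ D, π (b * d) = 0) → B.ncard * D.ncard ≤ 𝐪 := by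
  have := R.finite_K
  have := R.charP
  have : Fact (Nat.Prime 3) := ⟨Nat.prime_three⟩
  let := ZMod.algebra K 3
  refine ⟨(Algebra.trace (ZMod 3) K).toAddMonoidHom, fun b hb => ?_, fun B D h => ?_⟩
  · let L : K →+ K := R.σ.toAddMonoidHom - AddMonoidHom.id K
    let e : K ≃ₐ[ZMod 3] K := AlgEquiv.ofBijective { R.σ with
      commutes' := fun c => RingHom.congr_fun (RingHom.ext_zmod (R.σ.comp (algebraMap _ _)) _) c }
      (Finite.injective_iff_bijective.1 R.σ.injective)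
    have h1 : L.range ≤ (Algebra.trace (ZMod 3) K).toAddMonoidHom.ker := by
      rintro _ ⟨T, rfl⟩
      exact (map_sub _ _ _).trans (sub_eq_zero.2 (Algebra.trace_eq_of_algEquiv e T))
    have h2 := L.ker.card_mul_index
    have h3 := (Algebra.trace (ZMod 3) K).toAddMonoidHom.ker.card_mul_index
    rw [AddSubgroup.index_ker] at h2 h3
    rw [AddMonoidHom.range_eq_top.2 (Algebra.trace_surjective _ _), AddSubgroup.card_top, Nat.card_zmod] at h3
    have h4 : Nat.card L.ker ≤ 3 := by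
      refine (Set.ncard_le_ncard (t := {0, 1, -1}) (fun a ha => ?_)).trans
        ((Set.ncard_insert_le _ _).trans (Nat.succ_le_succ ((Set.ncard_insert_le _ _).trans (by simp))))
      have h5 : R.σ a = a := sub_eq_zero.1 ha
      have h6 := R.σσ a
      rw [h5, h5] at h6
      have h7 : a * ((a - 1) * (a + 1)) = 0 := by linear_combination -h6
      simpa [sub_eq_zero, add_eq_zero_iff_eq_neg] using h7
    obtain ⟨T, hT⟩ := (AddSubgroup.eq_of_le_of_card_ge h1 (by nlinarith)).ge hb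
    exact ⟨T, hT.symm⟩
  · let W := Submodule.span (ZMod 3) B
    have h1 : B.ncard ≤ Nat.card W := Set.ncard_le_ncard Submodule.subset_span
    have h2 : D.ncard ≤ Nat.card ((Algebra.traceForm (ZMod 3) K).orthogonal W) :=
      Set.ncard_le_ncard fun d hd b hb => (Submodule.span_le (p := LinearMap.ker
        ((Algebra.traceForm (ZMod 3) K).flip d))).2 (fun b hb => h b hb d hd) hb
    refine (Nat.mul_le_mul h1 h2).trans_eq ?_
    rw [← R.card_K, Module.natCard_eq_pow_finrank (K := ZMod 3) (V := K), Module.natCard_eq_pow_finrank (K := ZMod 3)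
      (V := W), Module.natCard_eq_pow_finrank (K := ZMod 3) (V := LinearMap.BilinForm.orthogonal _ _), ← pow_add,
      LinearMap.BilinForm.finrank_orthogonal (traceForm_nondegenerate _ _), Nat.add_sub_cancel' W.finrank_le]

theorem exists_sq {a b : K} (ha : a ≠ 0) (hb : b ≠ 0) : ∃ c : Kˣ, (c : K) ^ 2 * a = b ∨ (c : K) ^ 2 * a = -b := by
  obtain ⟨k, hk⟩ := exists_k m
  have h := R.pow_q (b / a)
  refine ⟨Units.mk0 _ (div_ne_zero hb ha) ^ (2 * k + 1), sq_eq_sq_iff_eq_or_eq_neg.1 ?_⟩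
  rw [hk] at h
  rw [Units.val_pow_eq_pow_val, Units.val_mk0, mul_pow, ← pow_mul, ← pow_mul,
    show (2 * k + 1) * (2 * 2) = 8 * k + 3 + 1 by ring, pow_succ, h]
  field_simp

theorem conj_center {v v' : K} (hv : v ≠ 0) (hv' : v' ≠ 0) : IsConj (R.x 0 0 v) (R.x 0 0 v') := by
  have := R.finite_K
  have h : Function.Injective fun κ : Kˣ => κ ^ 2 * Units.map R.σ.toMonoidHom κ := fun a b h =>
    div_eq_one.1 (Units.ext (R.eq_one_of_sq_σ (by
      have := congrArg Units.val h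
      simp only [Units.val_mul, Units.val_pow_eq_pow_val, Units.coe_map, RingHom.toMonoidHom_eq_coe,
        MonoidHom.coe_coe] at this
      rw [Units.val_div_eq_div_val, map_div₀, div_pow, div_mul_div_comm, this,
        div_self (mul_ne_zero (pow_ne_zero _ b.ne_zero) (R.σ_ne b.ne_zero))])))
  obtain ⟨κ, hκ⟩ := Finite.surjective_of_injective h (Units.mk0 _ (div_ne_zero hv' hv))
  refine isConj_iff.2 ⟨R.h κ, ?_⟩
  rw [R.h_conj, show (κ : K) ^ 2 * R.σ κ = v' / v from congrArg Units.val hκ, mul_zero, mul_zero,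
    div_mul_cancel₀ _ hv]

theorem conj_u {u : K} (hu : u ≠ 0) (v : K) : IsConj (R.x 0 u v) (R.x 0 u 0) :=
  isConj_iff.2 ⟨R.x (-v / u) 0 0, by
    rw [mul_inv_eq_iff_eq_mul, R.x_mul, R.x_mul]
    congr 1 <;> simp [field]⟩

theorem conj_v {t : K} (ht : t ≠ 0) (u v v' : K) : IsConj (R.x t u v) (R.x t u v') :=
  isConj_iff.2 ⟨R.x 0 ((v - v') / t) 0, by
    rw [mul_inv_eq_iff_eq_mul, R.x_mul, R.x_mul]
    congr 1 <;> simp [ht, add_comm]⟩

theorem conj_t {t : K} (ht : t ≠ 0) (b v T : K) :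
    IsConj (R.x t (b + t * R.σ t) v) (R.x 1 (b / (t * R.σ t) + (R.σ T - T) + 1) 0) := by
  have h1 := R.σ_ne ht
  have h2 := R.h_conj (Units.mk0 t ht)⁻¹ t (b + t * R.σ t) v
  rw [Units.val_inv_eq_inv_val, Units.val_mk0, inv_mul_cancel₀ ht] at h2
  refine (isConj_iff.2 ⟨_, h2⟩).trans ((isConj_iff.2 ⟨R.x T 0 0, rfl⟩).trans ?_)
  rw [R.x_inv, R.x_mul, R.x_mul, add_neg_cancel_comm]
  convert conj_v R one_ne_zero _ _ _ using 2
  simp [field]
  ring

theorem conj_z (t b v : K) : IsConj (R.z * R.x t (b + t * R.σ t) v) (R.z * R.x 0 b 0) :=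
  isConj_iff.2 ⟨R.x (-t) 0 (b * t - v), by
    have h := R.z_conj t 0 (v - b * t)
    rw [mul_inv_eq_iff_eq_mul, neg_sub] at h
    rw [mul_inv_eq_iff_eq_mul, ← mul_assoc, ← h, mul_assoc, mul_assoc, R.x_mul, R.x_mul]
    congr 2
    · linear_combination t * R.three
    · ring
    · linear_combination (v - b * t) * R.three⟩

theorem conj_D {e : G} (he : e ∈ R.H) (c : Kˣ) (t : K) : IsConj (e * R.x 0 t 0) (e * R.x 0 (c ^ 2 * t) 0) :=
  isConj_iff.2 ⟨_, by rw [← R.φ_D_conj, ← mul_assoc, R.H_comm (R.φ_D_mem_H c) he]; simp only [mul_assoc]⟩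

end H68.OreR
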