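/- Squares of regular semisimple classes of the small Ree groups. -/
import Cfsg.Agent.H68.OreRB

set_option autoImplicit false
set_option linter.unusedSectionVars false

namespace H68.OreR

open Cfsg H30 H68.Gow Subgroup Finset

variable {K : Type*} [Field K] {m : ℕ} {G : Type*} [Group G] [Finite G]

local notation "𝐪" => 3 ^ (2 * m + 1)

theorem inv_c {x a : G} (h : IsConj x a) : IsConj x⁻¹ a⁻¹ := by
  obtain ⟨c, rfl⟩ := isConj_iff.1 h
  exact isConj_iff.2 ⟨c, by group⟩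

theorem pr_c {x g g' : G} (h : Pr x x g) (e : IsConj g g') : Pr x x g' := by
  obtain ⟨c, rfl⟩ := isConj_iff.1 e
  exact h.conj c

theorem pr_inv {x g : G} (hr : IsConj x x⁻¹) (h : Pr x x g) : Pr x x g⁻¹ := by
  obtain ⟨u, v, rfl⟩ := h
  rw [mul_inv_rev]
  exact Pr.mk' (hr.trans (inv_c (isConj_iff.2 ⟨v, rfl⟩))) (hr.trans (inv_c (isConj_iff.2 ⟨u, rfl⟩)))

variable (R : Ree K m G)

/-- conjugates in the big cell -/
def S (x : G) (κ : Kˣ) (w : G) : Prop := IsConj x (R.n * R.h κ * w)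

/-- the first two coordinates -/
def Q (x : G) (κ : Kˣ) (t b : K) : Prop := ∃ v, S R x κ (R.x t (b + t * R.σ t) v)

theorem y_mul (t b v T b' v' : K) : ∃ V, R.x t (b + t * R.σ t) v * R.x T (b' + T * R.σ T) v' =
    R.x (t + T) (b + b' + t * R.σ T - T * R.σ t + (t + T) * R.σ (t + T)) V :=
  ⟨_, (R.x_mul ..).trans (by rw [map_add]; congr 1; linear_combination -(t * R.σ T) * R.three)⟩

theorem nh_inv (κ : Kˣ) (w : G) : IsConj (R.n * R.h κ * w)⁻¹ (R.n * R.h κ * w⁻¹) :=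
  isConj_iff.2 ⟨w, by rw [mul_inv_rev, mul_inv_cancel_left, mul_inv_rev, ← R.n_conj_H (R.h_mem κ),
    R.n_inv, mul_assoc _ R.n R.n, R.n_mul_n, mul_one]⟩

variable {R} {x w w' : G} {κ : Kˣ} {t b T b' : K}

theorem S.h (h : S R x κ w) (c : Kˣ) : S R x (c ^ 2 * κ) (R.h c⁻¹ * w * (R.h c⁻¹)⁻¹) :=
  IsConj.trans h (isConj_iff.2 ⟨R.h c⁻¹, by
    have := R.n_conj c
    rw [mul_inv_eq_iff_eq_mul] at this
    rw [← mul_assoc, ← mul_assoc, Ree.n, ← this, sq, mul_right_comm c, map_mul, map_mul, map_inv]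
    group⟩)

theorem S.z (h : S R x κ w) : S R x κ (R.z * w * R.z⁻¹) := by simpa [Ree.z] using h.h (-1)

theorem real (h : S R x κ (R.x 0 0 1)) : IsConj x x⁻¹ := by
  have h1 := h.z
  rw [R.z_conj, neg_zero] at h1
  refine h1.trans ((inv_c h).trans ?_).symm
  simpa [R.x_inv] using nh_inv R κ (R.x 0 0 1)

theorem Q.z (h : Q R x κ t b) : Q R x κ (-t) b := by
  obtain ⟨v, h⟩ := h
  exact ⟨-v, by simpa [R.z_conj] using h.z⟩

variable (hr : IsConj x x⁻¹)
include hr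

theorem S.inv (h : S R x κ w) : S R x κ w⁻¹ := (hr.trans (inv_c h)).trans (nh_inv R κ w)

theorem S.mul (h : S R x κ w) (h' : S R x κ w') : Pr x x (w * w') := by
  simpa [mul_assoc] using Pr.mk' (hr.trans (inv_c (h.inv hr))) h'

theorem S.mulz (h : S R x κ w) (h' : S R x (-κ) w') : Pr x x (R.z * (w * w')) := by
  have := Pr.mk' (hr.trans (inv_c (h.z.inv hr))) h'
  rw [← mul_neg_one, map_mul] at this
  simpa [mul_assoc, Ree.z] using this

theorem Q.neg (h : Q R x κ t b) : Q R x κ t (-b) := by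
  obtain ⟨v, h⟩ := h.z
  have h1 := h.inv hr
  rw [R.x_inv, neg_neg] at h1
  exact ⟨_, by convert h1 using 2; rw [map_neg]; linear_combination (t * R.σ t) * R.three⟩

theorem Q.mul (h : Q R x κ t b) (h' : Q R x κ T b') :
    ∃ v, Pr x x (R.x (t + T) (b + b' + t * R.σ T - T * R.σ t + (t + T) * R.σ (t + T)) v) := by
  obtain ⟨v, h⟩ := h
  obtain ⟨v', h'⟩ := h'
  obtain ⟨V, e⟩ := y_mul R t b v T b' v'
  exact ⟨V, e ▸ h.mul hr h'⟩

theorem Q.mulz (h : Q R x κ t b) (h' : Q R x (-κ) T b') :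
    Pr x x (R.z * R.x 0 (b + b' + t * R.σ T - T * R.σ t) 0) := by
  obtain ⟨v, h⟩ := h
  obtain ⟨v', h'⟩ := h'
  obtain ⟨V, e⟩ := y_mul R t b v T b' v'
  exact pr_c (e ▸ h.mulz hr h') (conj_z R _ _ _)

omit hr in
theorem card_Q [Fintype K] [DecidablePred fun p : K × K => Q R x κ p.1 p.2] {π : K →+ ZMod 3}
    (hπ : ∀ B D : Set K, (∀ b ∈ B, ∀ d ∈ D, π (b * d) = 0) → B.ncard * D.ncard ≤ 𝐪)
    (h : ∀ t b T b', Q R x κ t b → Q R x κ T b' → π (b / ((t + T) * R.σ (t + T))) = 0) :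
    #{p : K × K | Q R x κ p.1 p.2} ≤ 2 * 𝐪 := by
  classical
  set P := ({p : K × K | Q R x κ p.1 p.2} : Finset _)
  refine (card_le_mul_card_image (f := Prod.fst) P (2 * 𝐪 / #(P.image Prod.fst)) fun t ht => ?_).trans
    (Nat.div_mul_le_self _ _)
  rw [Nat.le_div_iff_mul_le (card_pos.2 ⟨t, ht⟩)]
  have h1 := card_le_mul_card_image (f := fun T => ((t + T) * R.σ (t + T))⁻¹) (P.image Prod.fst) 2 fun d hd => by
    obtain ⟨T, -, rfl⟩ := mem_image.1 hd
    refine (card_le_card (t := {T, -(t + T) - t}) fun T' h => ?_).trans card_le_two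
    have h2 := inv_injective (mem_filter.1 h).2
    simp only [mem_insert, mem_singleton, ← add_right_inj t (b := T'), add_sub_cancel, ← sq_eq_sq_iff_eq_or_eq_neg]
    generalize t + T = d, t + T' = d' at h2
    rcases eq_or_ne d 0 with rfl | h0
    · simpa using h2
    · have h3 := mul_ne_zero h0 (R.σ_ne h0)
      rw [← div_eq_one_iff_eq (pow_ne_zero 2 h0), ← div_pow]
      exact R.sq_eq_one_of_σ (div_ne_zero (left_ne_zero_of_mul (h2 ▸ h3)) h0)
        (by rw [map_div₀, div_mul_div_comm, h2, div_self h3])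
  have h2 := hπ ({p ∈ P | p.1 = t}.image Prod.snd : Finset K)
    ((P.image Prod.fst).image fun T => ((t + T) * R.σ (t + T))⁻¹ : Finset K) (by
      simp only [coe_image, Set.forall_mem_image, coe_filter, P, Set.mem_ofPred_eq, mem_filter]
      rintro p ⟨hp, rfl⟩ p' hp'
      exact (congrArg π (div_eq_mul_inv _ _).symm).trans (h _ _ _ _ hp.2 hp'.2))
  rw [Set.ncard_coe_finset, Set.ncard_coe_finset, card_image_of_injOn fun p hp p' hp' e =>
    Prod.ext ((mem_filter.1 hp).2.trans (mem_filter.1 hp').2.symm) e] at h2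
  nlinarith

omit hr

theorem key {τ : G → K} (hT : Trc R τ) (hm : 1 ≤ m) (hx : 3 * Nat.card (centralizer {x}) ≤ 4 * 𝐪 + 3)
    {π : K →+ ZMod 3} (hπ : ∀ B D : Set K, (∀ b ∈ B, ∀ d ∈ D, π (b * d) = 0) → B.ncard * D.ncard ≤ 𝐪) :
    ∃ κ t b T b', Q R x κ t b ∧ Q R x κ T b' ∧ π (b / ((t + T) * R.σ (t + T))) ≠ 0 := by
  classical
  have := R.finite_K
  have := Fintype.ofFinite G
  have := Fintype.ofFinite K
  by_contra h
  push Not at h
  let W (κ : Kˣ) : Finset (K × K × K) := {w | S R x κ (R.x w.1 (w.2.1 + w.1 * R.σ w.1) w.2.2)}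
  have h1 : ∀ κ, #(W κ) ≤ 3 ^ (m + 1) * (2 * 𝐪) := fun κ => by
    refine (card_le_mul_card_image_of_maps_to (f := fun w : K × K × K => (w.1, w.2.1)) (t := {p : K × K | Q R x κ p.1 p.2})
      (fun w hw => mem_filter.2 ⟨mem_univ _, _, (mem_filter.1 hw).2⟩) _ fun p _ => ?_).trans
      (Nat.mul_le_mul_left _ (card_Q hπ (h κ)))
    rw [← Set.ncard_coe_finset]
    refine (Set.ncard_le_ncard_of_injOn (·.2.2) (fun w hw => ?_) fun w hw w' hw' e => ?_).trans
      (hT.few κ _ (R.x_mem p.1 (p.2 + p.1 * R.σ p.1) 0) (τ x))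
    · obtain ⟨h1, rfl⟩ := mem_filter.1 hw
      obtain ⟨c, hc⟩ := isConj_iff.1 (mem_filter.1 h1).2
      rw [Set.mem_ofPred_eq, mul_assoc _ _ (R.x 0 0 _), R.x_mul, ← hT.conj c x, hc]
      simp
    · have := (mem_filter.1 hw).2.trans (mem_filter.1 hw').2.symm
      exact Prod.ext (Prod.ext_iff.1 this).1 (Prod.ext (Prod.ext_iff.1 this).2 e)
  have h2 : ({g | IsConj x g} : Finset G) ⊆ ({g | g ∈ R.B} : Finset G) ∪ (univ : Finset (R.U × Kˣ)).biUnion fun p =>
      (W p.2).image fun w => p.1 * (R.n * R.h p.2 * R.x w.1 (w.2.1 + w.1 * R.σ w.1) w.2.2) * p.1⁻¹ := fun g hg => by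
    rcases R.bruhat g with ⟨t, u, v, κ, rfl⟩ | ⟨t, u, v, κ, t', u', v', rfl⟩
    · exact mem_union_left _ (mem_filter.2 ⟨mem_univ _, _, R.x_mem _ _ _, _, R.h_mem _, rfl⟩)
    · obtain ⟨T, U, V, e⟩ := mul_mem (R.x_mem t' u' v') (R.x_mem t u v)
      refine mem_union_right _ (mem_biUnion.2 ⟨(⟨_, R.x_mem t u v⟩, κ), mem_univ _,
        mem_image.2 ⟨(T, U - T * R.σ T, V), mem_filter.2 ⟨mem_univ _, (mem_filter.1 hg).2.trans
          (isConj_iff.2 ⟨(R.x t u v)⁻¹, ?_⟩)⟩, ?_⟩⟩) <;> simp [← e, Ree.n, mul_assoc]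
  have h3 := (card_le_card h2).trans ((card_union_le _ _).trans (Nat.add_le_add_left
    (card_biUnion_le_card_mul _ _ _ fun p _ => card_image_le.trans (h1 p.2)) _))
  have h4 := H28.card_isConj_mul_card_centralizer x
  have h5 := R.card_B
  rw [Nat.card_eq_fintype_card, Fintype.card_subtype] at h5
  rw [Nat.card_eq_fintype_card, Fintype.card_subtype, R.card_G] at h4
  rw [card_univ, ← Nat.card_eq_fintype_card, Nat.card_prod, R.card_U, R.card_units, h5] at h3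
  have h6 : 3 * 3 ^ (m + 1) ≤ 𝐪 := by rw [← pow_succ']; exact Nat.pow_le_pow_right (by decide) (by omega)
  have h7 := le_three_pow hm
  have h8 : 0 < 𝐪 ^ 3 * (𝐪 - 1) := Nat.mul_pos (by positivity) (by omega)
  generalize 𝐪 ^ 3 * (𝐪 - 1) = M at h3 h4 h8
  generalize 𝐪 = q at *
  have h9 : M * (3 * (q ^ 3 + 1)) ≤ M * ((1 + 3 ^ (m + 1) * (2 * q)) * (4 * q + 3)) := by
    calc _ = _ * (3 * Nat.card (centralizer {x})) := by rw [mul_left_comm, ← h4, mul_left_comm]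
      _ ≤ _ := (Nat.mul_le_mul h3 hx).trans_eq (by ring)
  have h10 := Nat.le_of_mul_le_mul_left h9 h8
  have h11 := Nat.mul_le_mul_right (2 * q * (4 * q + 3)) h6
  nlinarith [Nat.mul_le_mul_right (q * q) h7, Nat.mul_le_mul_right q h7]

theorem main [IsSimpleGroup G] {τ : G → K} (hT : Trc R τ) (hm : 1 ≤ m)
    (hx : 3 * Nat.card (centralizer {x}) ≤ 4 * 𝐪 + 3) (h2 : x * x ≠ 1) (h0 : S R x κ (R.x 0 0 1))
    (hG : ∀ s, ¬ 3 ∣ orderOf s → s ≠ 1 → Pr x x s) (g : G) (hg : g ≠ 1) : Pr x x g := by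
  refine (em _).elim (fun h3 => ?_) (hG g · hg)
  have hr := real h0
  obtain ⟨π, hπ, hπ'⟩ := exists_pi R
  obtain ⟨κ, t, b, T, b', h4, h5, h6⟩ := key hT hm hx hπ'
  have hb : b ≠ 0 := by rintro rfl; simp at h6
  have hd : t + T ≠ 0 := fun e => by simp [e] at h6
  have sg : ∀ e ∈ R.H, e⁻¹ = e → ∀ s ≠ 0, Pr x x (e * R.x 0 s 0) → e * R.x 0 s 0 = R.x 0 s 0 * e →
      ∀ s' ≠ 0, Pr x x (e * R.x 0 s' 0) := fun e he h1 s hs h h2 s' hs' => by
    obtain ⟨c, hc | hc⟩ := exists_sq R hs hs'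
    · exact hc ▸ pr_c h (conj_D R he c s)
    · have := pr_inv hr h
      rw [h2, mul_inv_rev, h1, R.x_inv] at this
      simpa [hc] using pr_c (by simpa using this) (conj_D R he c (-s))
  by_cases h9 : g ^ 3 ^ 2 = 1
  · obtain ⟨c, t', u, v, e⟩ := R.exists_conj_mem_U h9
    refine Pr.of_conj c (e ▸ ?_)
    rcases eq_or_ne t' 0 with rfl | ht
    · rcases eq_or_ne u 0 with rfl | hu
      · refine pr_c (h0.mul hr h0) ?_
        simpa [R.x_mul] using conj_center R (one_add_one_eq_two (R := K) ▸ R.two_ne) fun h =>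
          hg (conj_eq_one_iff.1 (by rw [e, h, R.x_zero]))
      · obtain ⟨V, h⟩ := h4.mul hr h4.z
        have hb2 : b + b ≠ 0 := two_mul b ▸ mul_ne_zero R.two_ne hb
        have h1 : b + b + t * R.σ (-t) - -t * R.σ t + (t + -t) * R.σ (t + -t) = b + b := by simp
        rw [h1, add_neg_cancel] at h
        simpa using pr_c (sg 1 (one_mem _) inv_one _ hb2 (by simpa using pr_c h (conj_u R hb2 V)) (by simp) u hu)
          (by simpa using (conj_u R hu v).symm)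
    · let E (ε : ZMod 3) : Prop := ∃ t b v, t ≠ 0 ∧ π (b / (t * R.σ t)) = ε ∧ Pr x x (R.x t (b + t * R.σ t) v)
      have e1 : ∀ ε, E ε → E (-ε) := by
        rintro _ ⟨t, b, v, h1, rfl, h⟩
        have := pr_inv hr h
        rw [R.x_inv] at this
        exact ⟨-t, -b, _, neg_ne_zero.2 h1, by simp [neg_div], by
          convert this using 2; rw [map_neg]; linear_combination (t * R.σ t) * R.three⟩
      have e2 : ∀ t b, Q R x κ t b → t ≠ 0 → E 0 := fun t b h h1 => by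
        obtain ⟨V, h⟩ := h.mul hr (h.neg hr)
        exact ⟨_, _, _, two_mul t ▸ mul_ne_zero R.two_ne h1, by simp, h⟩
      have e3 : ∃ ε ≠ 0, E ε := by
        obtain ⟨V, h⟩ := h4.mul hr h5
        obtain ⟨V', h'⟩ := (h4.neg hr).mul hr h5
        by_contra hn
        push Not at hn
        have a1 := by_contra fun a => hn _ a ⟨_, _, _, hd, rfl, h⟩
        have a2 := by_contra fun a => hn _ a ⟨_, _, _, hd, rfl, h'⟩
        refine h6 (.trans (congrArg π ?_) ((map_sub π _ _).trans (sub_eq_zero.2 (a2.trans a1.symm))))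
        linear_combination b / ((t + T) * R.σ (t + T)) * R.three
      have e4 : ∀ ε, E ε := fun ε => by
        obtain ⟨δ, h, h'⟩ := e3
        rcases (by decide : ∀ ε δ : ZMod 3, δ ≠ 0 → ε = 0 ∨ ε = δ ∨ ε = -δ) ε δ h with rfl | rfl | rfl
        exacts [(em (t = 0)).elim (fun e => e2 _ _ h5 (by rwa [e, zero_add] at hd)) (e2 _ _ h4), h', e1 _ h']
      obtain ⟨t, b, V, h1, h7, h⟩ := e4 (π ((u - t' * R.σ t') / (t' * R.σ t')))
      obtain ⟨T, hT⟩ := hπ _ ((map_sub π _ _).trans (sub_eq_zero.2 h7.symm))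
      have h8 := conj_t R ht (u - t' * R.σ t') v 0
      rw [sub_add_cancel, map_zero, sub_zero, add_zero, ← add_sub_cancel (b / (t * R.σ t)) (_ / _), hT] at h8
      exact pr_c h ((conj_t R h1 b V T).trans h8.symm)
  · have h7 : g ^ 6 = 1 := orderOf_dvd_iff_pow_eq_one.1 ((three_cases R hm h3).resolve_right fun e =>
      h9 (orderOf_dvd_iff_pow_eq_one.1 e.dvd))
    have h8 : g ^ 4 ≠ 1 := fun e => absurd (h3.trans (orderOf_dvd_of_pow_eq_one e)) (by decide)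
    obtain ⟨c, s, e1, e2⟩ := R.exists_conj_pair (k := 1) (w := g ^ 3) h8
      (by rw [← pow_mul, show 4 * 3 ^ 1 = 6 * 2 from rfl, pow_mul, h7, one_pow])
      (fun e => h9 (by rw [sq, pow_mul, e, one_pow])) (by rw [← pow_add, h7]) (pow_mul_comm _ _ _)
    refine Pr.of_conj c ?_
    rw [show g = g ^ 3 * g ^ 4 by rw [← pow_add, pow_succ, h7, one_mul], ← conj_mul, e1, e2]
    have hs : s ≠ 0 := fun h => h8 (conj_eq_one_iff.1 (by rw [e2, h, R.x_zero]))
    have hz := R.commute_z_x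
    suffices ∃ T b', Q R x (-κ) T b' by
      obtain ⟨T, b', h⟩ := this
      by_cases h1 : b + b' + t * R.σ T - T * R.σ t = 0
      · exact sg _ R.z_mem R.z_inv _ (fun e => hb (by linear_combination e - h1 + b * R.three))
          ((h4.neg hr).mulz hr h) (hz _) s hs
      · exact sg _ R.z_mem R.z_inv _ h1 (h4.mulz hr h) (hz _) s hs
    obtain ⟨a, h1, h10, h11⟩ : ∃ a, a ∉ R.B ∧ IsConj x a ∧ IsConj x (a * R.z) := by
      obtain ⟨u, v, e⟩ := hG R.z (by rw [R.orderOf_z]; decide) R.z_ne_one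
      have a1 : IsConj x (u * x * u⁻¹)⁻¹ := hr.trans (inv_c (isConj_iff.2 ⟨u, rfl⟩))
      have a2 : IsConj x ((u * x * u⁻¹)⁻¹ * R.z) := isConj_iff.2 ⟨v, by rw [e, inv_mul_cancel_left]⟩
      generalize (u * x * u⁻¹)⁻¹ = a at a1 a2
      by_contra hn
      have a3 : ∀ c, Commute R.z c → c * a * c⁻¹ ∈ R.B := fun c hc => by_contra fun h => hn ⟨_, h,
        a1.trans (isConj_iff.2 ⟨c, rfl⟩), a2.trans (isConj_iff.2 ⟨c, by
          rw [mul_assoc _ c⁻¹, ← hc.inv_right.eq]; simp only [mul_assoc]⟩)⟩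
      have a4 : ∀ c, Commute R.z c → c * a * c⁻¹ ∈ R.H := fun c hc => R.mem_H_of_n_conj (a3 c hc) (by
        simpa [mul_assoc, Ree.n] using a3 _ (Commute.mul_right (R.z_comm H65.sl2W) hc))
      have a5 := R.mem_H_of_conj_B (a4 1 (Commute.one_right _)) (by
        obtain ⟨c, rfl⟩ := isConj_iff.1 a1
        simpa [conj_mul, conj_eq_one_iff] using h2) (R.U_le_B (R.x_mem 0 1 0)) (by simpa using a4 _ (hz 1).inv_right)
      exact one_ne_zero (R.x_eq_one _ _ _ (R.eq_one_of_U_H (R.x_mem _ _ _) a5)).2.1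
    rcases R.bruhat a with ⟨t, u, v, μ, rfl⟩ | ⟨t, u, v, μ, t', u', v', rfl⟩
    · exact absurd ⟨_, R.x_mem _ _ _, _, R.h_mem _, rfl⟩ h1
    have aux : ∀ μ, ∀ w ∈ R.U, S R x μ w → ∀ c : Kˣ, (c : K) ^ 2 * μ = -κ → ∃ T b', Q R x (-κ) T b' :=
      fun μ w hw h c hc => by
        obtain ⟨T, U, V, e⟩ := R.H_conj_U (R.h_mem c⁻¹) hw
        exact ⟨T, U - T * R.σ T, V, by rw [sub_add_cancel, ← e, ← show c ^ 2 * μ = -κ from Units.ext hc]; exact h.h c⟩
    obtain ⟨c, hc | hc⟩ := exists_sq R μ.ne_zero κ.ne_zero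
    · refine aux (-μ) _ (mul_mem (R.H_conj_U (inv_mem R.z_mem) (R.x_mem t' u' v')) (R.x_mem t u v))
        (h11.trans (isConj_iff.2 ⟨(R.x t u v)⁻¹, ?_⟩)) c (by rw [← hc, Units.val_neg, mul_neg])
      rw [← mul_neg_one, map_mul]
      simp [Ree.n, Ree.z, mul_assoc]
    · exact aux μ _ (mul_mem (R.x_mem t' u' v') (R.x_mem t u v))
        (h10.trans (isConj_iff.2 ⟨(R.x t u v)⁻¹, by simp [Ree.n, mul_assoc]⟩)) c hc

end H68.OreR
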