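/- Every non-trivial element of the Tits group is a product of two conjugates of an element of order five. -/
import Cfsg.Agent.H68.OreT3
import Cfsg.Agent.H68.OreT4

set_option autoImplicit false
set_option maxRecDepth 1000000

namespace H68.OreT

open Cfsg Cfsg.Lie H81 Subgroup

/-- words for the monomial subgroup -/
def NW : List (List ℕ) := [[], [0], [1], [1, 0], [0, 1], [0, 1, 0], [1, 0, 1], [1, 0, 1, 0], [0, 1, 0, 1],
  [0, 1, 0, 1, 0], [1, 0, 1, 0, 1], [1, 0, 1, 0, 1, 0], [0, 1, 0, 1, 0, 1], [0, 1, 0, 1, 0, 1, 0],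
  [1, 0, 1, 0, 1, 0, 1], [1, 0, 1, 0, 1, 0, 1, 0]]

theorem gd_NW {w : List ℕ} (hw : w ∈ NW) {y : K} : y.1 ∈ IT.C LT → Gd (evK w * y) := by
  simp only [NW, List.mem_cons, List.not_mem_nil, or_false] at hw
  rcases hw with rfl | rfl | rfl | rfl | rfl | rfl | rfl | rfl | rfl | rfl | rfl | rfl | rfl | rfl | rfl | rfl
  exacts [gd_cell cell0, gd_cell cell1, gd_cell cell2, gd_cell cell3, gd_cell cell4, gd_cell cell5, gd_cell cell6,
    gd_cell cell7, gd_cell cell8, gd_cell cell9, gd_cell cell10, gd_cell cell11, gd_cell cell12, gd_cell cell13,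
    gd_cell cell14, gd_cell cell15]

theorem exists_NW (l : List (Fin 2)) : ∃ w ∈ NW, twT.grd.nw l = (evK w).1 := by
  induction l with
  | nil => exact ⟨[], by decide, by unfold evK; rfl⟩
  | cons o l ih =>
    obtain ⟨w, hw, e⟩ := ih
    obtain ⟨w', hw', h⟩ := (by decide +kernel : ∀ o : Fin 2, ∀ w ∈ NW, ∃ w' ∈ NW,
      Nat.beq (evG (o :: w)) (evG w') = true) o w hw
    refine ⟨w', hw', ?_⟩
    rw [← eq_of (ρ_ev _) (ρ_ev _) h, H54.GRD.nw, H67.wp_cons, n_W, ← H54.GRD.nw, e]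
    unfold evK
    rfl

theorem mem_T {a : K} (h : IsConj x a) : a ∈ commutator K := by
  have h1 : a ^ 5 = 1 := by
    rw [← isConj_one_right, ← x_pow]
    exact h.pow 5
  have := pow_mem (sq_mem_of_index_two index_Tits a) 3
  rwa [← pow_mul, pow_succ, h1, one_mul] at this

theorem gd_of_mem {g : K} (hg : g ∈ commutator K) : Gd g := by
  obtain ⟨_, hc⟩ := twT.grd.exists_cell (twT.grd_Gp.ge g.2)
  obtain ⟨u, hu, _, hm, u', hu', -, e⟩ := hc.exists_U
  obtain ⟨l, h, hh, rfl⟩ := twT.grd.mem_N_iff.1 hm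
  obtain ⟨w, hw, e1⟩ := exists_NW l
  rw [H_T, mem_bot] at hh
  rw [hh, mul_one, e1] at e
  have h1 : evK w ∈ commutator K := by
    rcases gd_NW hw (y := 1) (one_mem _) with h | ⟨a, b, ha, hb, h⟩ <;> rw [← mul_one (evK w), h]
    exacts [one_mem _, mul_mem (mem_T ha) (mem_T hb)]
  let U : K := ⟨u, U_le_K hu⟩
  let y : K := ⟨u' * u, U_le_K (mul_mem hu' hu)⟩
  have e2 : U⁻¹ * g * U = evK w * y := Subtype.ext (by simp [U, y, e, mul_assoc])
  have h2 : y ∈ commutator K := (mul_mem_cancel_left h1).1 (e2 ▸ (commutator_normal ⊤ ⊤).conj_mem' g hg U)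
  rcases gd_NW hw (mem_LT_of_commutator (mul_mem hu' hu) (mem_commutator_iff.1 h2) : y.1 ∈ _) with
    h | ⟨a, b, ha, hb, h⟩ <;> rw [← e2] at h
  · exact .inl (by simpa [mul_assoc, inv_mul_eq_one] using h)
  · exact .inr ⟨_, _, ha.trans (isConj_iff.2 ⟨U, rfl⟩), hb.trans (isConj_iff.2 ⟨U, rfl⟩), by
      rw [conj_mul, ← h, ← mul_assoc, ← mul_assoc, mul_inv_cancel, one_mul, mul_inv_cancel_right]⟩

theorem conj_T {a : K} (h : IsConj x a) : ∃ u ∈ commutator K, a = u * x * u⁻¹ := by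
  obtain ⟨t, rfl⟩ := isConj_iff.1 h
  by_cases ht : t ∈ commutator K
  · exact ⟨t, ht, rfl⟩
  have h1 : ρ cT = C.dec (evX (uT 5)) := (co_W' (by decide)).2
  refine ⟨t * cT, (mul_mem_iff_of_index_two index_Tits).2 (iff_of_false ht cT_not_mem), ?_⟩
  rw [mul_assoc t cT, show cT * x = x * cT from eq_of (ρ_mul h1 (ρ_ev _)) (ρ_mul (ρ_ev _) h1) (by decide +kernel),
    mul_inv_rev, ← mul_assoc, ← mul_assoc, mul_inv_cancel_right]

theorem ore_T : ∃ x : TitsGroup, Odd (orderOf x) ∧ ∀ g ≠ 1, ∃ u v, g = u * x * u⁻¹ * (v * x * v⁻¹) := by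
  refine ⟨⟨x, mem_T (IsConj.refl x)⟩, Odd.of_dvd_nat (by decide : Odd 5)
    (orderOf_dvd_of_pow_eq_one (Subtype.ext x_pow)), fun g hg => ?_⟩
  obtain ⟨a, b, ha, hb, e⟩ := (gd_of_mem g.2).resolve_left fun h => hg (Subtype.ext h)
  obtain ⟨u, hu, rfl⟩ := conj_T ha
  obtain ⟨v, hv, rfl⟩ := conj_T hb
  exact ⟨⟨u, hu⟩, ⟨v, hv⟩, Subtype.ext e⟩

end H68.OreT
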